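import Cfsg.Agent.SolvableStructure.FrattiniTrivial
import Mathlib.GroupTheory.Nilpotent
import Mathlib.GroupTheory.Frattini

/-!
Nilpotent normal subgroups of groups with trivial Frattini subgroup: helper lemmas for S0586.
-/

set_option autoImplicit false

namespace Cfsg.Agent.SolvableStructure.AbelianSocle

open Subgroup
open Cfsg.Agent.SolvableStructure.FrattiniTrivial

/-- A maximal subgroup of a nilpotent group contains the derived subgroup. -/
theorem commutator_le_of_isCoatom {X : Type*} [Group X] [Group.IsNilpotent X]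
    {L : Subgroup X} (hL : IsCoatom L) : commutator X ≤ L := by
  have hn : L.Normal := NormalizerCondition.normal_of_coatom L Group.normalizerCondition_of_isNilpotent hL
  by_contra hcon
  have hsup : L ⊔ commutator X = ⊤ :=
    hL.2 _ (lt_of_le_of_ne le_sup_left fun he => hcon (he ▸ le_sup_right))
  have hnt : Nontrivial (X ⧸ L) := QuotientGroup.nontrivial_iff.mpr hL.1
  have hlt := Group.IsSolvable.commutator_lt_top_of_nontrivial (X ⧸ L)
  apply hlt.ne
  have h1 : (commutator X).map (QuotientGroup.mk' L) = commutator (X ⧸ L) := by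
    rw [commutator_def, map_commutator, commutator_def]
    rw [map_top_of_surjective _ (QuotientGroup.mk'_surjective L)]
  rw [← h1, eq_top_iff, ← map_top_of_surjective _ (QuotientGroup.mk'_surjective L), ← hsup,
    Subgroup.map_sup, QuotientGroup.map_mk'_self, bot_sup_eq]

/-- In a finite nilpotent group the derived subgroup consists of non-generators. -/
theorem eq_top_of_sup_commutator {X : Type*} [Group X] [Finite X] [Group.IsNilpotent X]
    {K : Subgroup X} (h : K ⊔ commutator X = ⊤) : K = ⊤ := by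
  rcases eq_top_or_exists_le_coatom K with hK | ⟨L, hL, hKL⟩
  · exact hK
  · exact absurd (eq_top_iff.mpr (h ▸ sup_le hKL (commutator_le_of_isCoatom hL))) hL.1

variable {G : Type*} [Group G]

/-- The derived subgroup of a nilpotent normal subgroup of a finite group is contained in the
Frattini subgroup. -/
theorem commutator_le_frattini [Finite G] (N : Subgroup G) [N.Normal] [Group.IsNilpotent N] :
    ⁅N, N⁆ ≤ frattini G := by
  rw [frattini, Order.radical]
  refine le_iInf₂ fun M hM => ?_
  have hM : IsCoatom M := hM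
  by_contra hcon
  have hsup : ⁅N, N⁆ ⊔ M = ⊤ := by
    rw [sup_comm]
    exact hM.2 _ (lt_of_le_of_ne le_sup_left fun he => hcon (he ▸ le_sup_right))
  have hle : ⁅N, N⁆ ≤ N := commutator_le_left N N
  have hN : M.subgroupOf N ⊔ commutator N = ⊤ := by
    rw [eq_top_iff]
    rintro ⟨x, hx⟩ -
    have hmem : x ∈ ⁅N, N⁆ ⊔ M := hsup ▸ mem_top x
    obtain ⟨n, hn, m, hm, hnm⟩ := mem_sup_of_normal_left.mp hmem
    have hmN : m ∈ N := by
      have := N.mul_mem (N.inv_mem (hle hn)) hx
      rw [← hnm] at this
      simpa [mul_assoc] using this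
    have h1 : (⟨x, hx⟩ : N) = ⟨n, hle hn⟩ * ⟨m, hmN⟩ := Subtype.ext hnm.symm
    rw [h1]
    refine mul_mem (mem_sup_right ?_) (mem_sup_left hm)
    have h2 : (commutator N).map N.subtype = ⁅N, N⁆ := by
      rw [commutator_def, map_commutator, ← MonoidHom.range_eq_map, range_subtype]
    rw [← h2] at hn
    obtain ⟨y, hy, hyn⟩ := hn
    have : (⟨n, hle (h2 ▸ ⟨y, hy, hyn⟩)⟩ : N) = y := Subtype.ext hyn.symm
    rw [this]; exact hy
  have htop := eq_top_of_sup_commutator hN
  rw [subgroupOf_eq_top] at htop
  exact hcon (hle.trans htop)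

/-- In a finite group with trivial Frattini subgroup, nilpotent normal subgroups are abelian. -/
theorem isMulCommutative_of_frattini_eq_bot [Finite G] (hΦ : frattini G = ⊥) (N : Subgroup G)
    [N.Normal] [Group.IsNilpotent N] : IsMulCommutative N := by
  have h : ⁅N, N⁆ = ⊥ := le_bot_iff.mp (hΦ ▸ commutator_le_frattini N)
  rw [commutator_eq_bot_iff_le_centralizer] at h
  refine IsMulCommutative.of_comm fun a b => Subtype.ext ?_
  exact (mem_centralizer_iff.mp (h b.2) a a.2)

/-- Every nontrivial normal subgroup of a finite group contains a minimal normal subgroup. -/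
theorem exists_minimal_normal_le [Finite G] {N : Subgroup G} (hN : N.Normal) (hne : N ≠ ⊥) :
    ∃ K : Subgroup G, K.Normal ∧ K ≠ ⊥ ∧ K ≤ N ∧
      ∀ L : Subgroup G, L.Normal → L ≤ K → L = ⊥ ∨ L = K := by
  obtain ⟨K, hK⟩ := (Set.toFinite {K : Subgroup G | K.Normal ∧ K ≠ ⊥ ∧ K ≤ N}).exists_minimal
    ⟨N, hN, hne, le_rfl⟩
  refine ⟨K, hK.1.1, hK.1.2.1, hK.1.2.2, fun L hL hLK => ?_⟩
  by_cases hL1 : L = ⊥
  · exact Or.inl hL1
  · exact Or.inr (le_antisymm hLK (hK.2 ⟨hL, hL1, hLK.trans hK.1.2.2⟩ hLK))

/-- The abelian minimal normal subgroups of a group. -/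
def abelianMinimalNormal (G : Type*) [Group G] : Set (Subgroup G) :=
  {N : Subgroup G | N.Normal ∧ N ≠ ⊥ ∧ IsMulCommutative N ∧
    ∀ K : Subgroup G, K.Normal → K ≤ N → K = ⊥ ∨ K = N}

/-- The join of the abelian minimal normal subgroups is normal. -/
theorem sSup_abelianMinimalNormal_normal : (sSup (abelianMinimalNormal G)).Normal :=
  Subgroup.sSup_normal _ fun N hN => hN.1

/-- In a finite group with trivial Frattini subgroup, a nilpotent normal subgroup is contained in
the join of the abelian minimal normal subgroups. -/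
theorem le_sSup_of_isNilpotent [Finite G] (hΦ : frattini G = ⊥) (N : Subgroup G)
    [N.Normal] [Group.IsNilpotent N] : N ≤ sSup (abelianMinimalNormal G) := by
  have hNc : IsMulCommutative N := isMulCommutative_of_frattini_eq_bot hΦ N
  have hS : (sSup (abelianMinimalNormal G)).Normal := sSup_abelianMinimalNormal_normal
  have hAn : (sSup (abelianMinimalNormal G) ⊓ N).Normal := inferInstance
  have hAc : IsMulCommutative (sSup (abelianMinimalNormal G) ⊓ N : Subgroup G) :=
    IsMulCommutative.of_setLike_mul_comm fun a ha b hb => setLike_mul_comm ha.2 hb.2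
  obtain ⟨H, hH⟩ := exists_isComplement'_of_frattini_eq_bot hΦ (sSup (abelianMinimalNormal G) ⊓ N)
  have hAH := hH.sup_eq_top
  have hNH : N ⊔ H = ⊤ := by
    rw [eq_top_iff, ← hAH]
    exact sup_le_sup_right inf_le_right H
  have hn : (N ⊓ H).Normal := inf_normal_of_sup_eq_top hNH
  have hbot : N ⊓ H = ⊥ := by
    by_contra hne
    obtain ⟨K, hKn, hK1, hKN, hKm⟩ := exists_minimal_normal_le hn hne
    have hKc : IsMulCommutative K :=
      IsMulCommutative.of_setLike_mul_comm fun a ha b hb =>
        setLike_mul_comm (hKN ha).1 (hKN hb).1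
    have hKS : K ≤ sSup (abelianMinimalNormal G) := le_sSup ⟨hKn, hK1, hKc, hKm⟩
    apply hK1
    rw [eq_bot_iff, ← disjoint_iff.mp hH.disjoint]
    exact le_inf (le_inf hKS (hKN.trans inf_le_left)) (hKN.trans inf_le_right)
  intro x hx
  have hmem : x ∈ (sSup (abelianMinimalNormal G) ⊓ N) ⊔ H := hAH ▸ mem_top x
  obtain ⟨a, ha, h, hh, rfl⟩ := mem_sup_of_normal_left.mp hmem
  have h1 : h ∈ N ⊓ H := by
    refine ⟨?_, hh⟩
    have := N.mul_mem (N.inv_mem ha.2) hx
    simpa [mul_assoc] using this
  rw [hbot, mem_bot] at h1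
  rw [h1, mul_one]
  exact ha.1

end Cfsg.Agent.SolvableStructure.AbelianSocle
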