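import Mathlib.GroupTheory.GroupAction.Primitive
import Mathlib.GroupTheory.Solvable
import Mathlib.GroupTheory.GroupAction.Basic
import Mathlib.GroupTheory.PGroup
import Mathlib.GroupTheory.Complement
import Mathlib.GroupTheory.Perm.Cycle.Type

/-!
# Minimal normal subgroups of finite solvable groups

A minimal normal subgroup of a finite solvable group is abelian of exponent `p`, hence of
prime power order.
-/

set_option autoImplicit false

namespace Cfsg.Agent.SolvableStructure.MinimalNormal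

variable {G : Type*} [Group G]

/-- A minimal normal subgroup of a solvable group is abelian. -/
theorem comm_of_minimal_normal [Group.IsSolvable G] (M : Subgroup G) [M.Normal] (hM : M ≠ ⊥)
    (hmin : ∀ K : Subgroup G, K.Normal → K ≤ M → K = ⊥ ∨ K = M) :
    ∀ a ∈ M, ∀ b ∈ M, a * b = b * a := by
  have h1 : ⁅M, M⁆ < M := Group.IsSolvable.commutator_lt_of_ne_bot hM
  have h2 : ⁅M, M⁆ = ⊥ := by
    rcases hmin ⁅M, M⁆ inferInstance h1.le with h | h
    · exact h
    · exact absurd h h1.ne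
  rw [Subgroup.commutator_eq_bot_iff_le_centralizer] at h2
  intro a ha b hb
  exact (Subgroup.mem_centralizer_iff.mp (h2 hb) a ha)

/-- A finite nontrivial abelian minimal normal subgroup has exponent `p` for a prime `p`. -/
theorem exists_prime_pow_eq_one (M : Subgroup G) [M.Normal] [Finite M] (hM : M ≠ ⊥)
    (hmin : ∀ K : Subgroup G, K.Normal → K ≤ M → K = ⊥ ∨ K = M)
    (hcomm : ∀ a ∈ M, ∀ b ∈ M, a * b = b * a) :
    ∃ p : ℕ, p.Prime ∧ ∀ a ∈ M, a ^ p = 1 := by
  have hcard : Nat.card M ≠ 1 := fun h => hM (Subgroup.card_eq_one.mp h)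
  obtain ⟨p, hp, hdvd⟩ := Nat.exists_prime_and_dvd hcard
  refine ⟨p, hp, ?_⟩
  let K : Subgroup G :=
    { carrier := {a | a ∈ M ∧ a ^ p = 1}
      one_mem' := ⟨M.one_mem, one_pow p⟩
      mul_mem' := fun {a b} ha hb =>
        ⟨M.mul_mem ha.1 hb.1, by
          rw [(show Commute a b from hcomm a ha.1 b hb.1).mul_pow, ha.2, hb.2, one_mul]⟩
      inv_mem' := fun {a} ha => ⟨M.inv_mem ha.1, by rw [inv_pow, ha.2, inv_one]⟩ }
  have hK : K.Normal := by
    refine ⟨fun a ha g => ⟨?_, ?_⟩⟩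
    · exact Subgroup.Normal.conj_mem inferInstance a ha.1 g
    · rw [conj_pow, ha.2, mul_one, mul_inv_cancel]
  have hKM : K ≤ M := fun a ha => ha.1
  have : Fact p.Prime := ⟨hp⟩
  obtain ⟨x, hx⟩ := exists_prime_orderOf_dvd_card' p hdvd
  rcases hmin K hK hKM with h | h
  · exfalso
    have hxK : (x : G) ∈ K := ⟨x.2, by
      rw [← Subgroup.coe_pow, ← hx, pow_orderOf_eq_one, Subgroup.coe_one]⟩
    rw [h, Subgroup.mem_bot] at hxK
    have : orderOf x = 1 := by
      rw [← Subgroup.orderOf_coe, hxK, orderOf_one]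
    rw [hx] at this
    exact hp.one_lt.ne' this
  · intro a ha
    rw [← h] at ha
    exact ha.2

/-- A finite group of exponent dividing `p` which is nontrivial has order `p ^ d`, `d > 0`. -/
theorem exists_card_eq_prime_pow (M : Subgroup G) [Finite M] (hM : M ≠ ⊥) {p : ℕ}
    (hp : p.Prime) (h : ∀ a ∈ M, a ^ p = 1) : ∃ d : ℕ, 0 < d ∧ Nat.card M = p ^ d := by
  have : Fact p.Prime := ⟨hp⟩
  have hpg : IsPGroup p M := by
    intro a
    refine ⟨1, ?_⟩
    rw [pow_one]
    exact Subtype.ext (h a a.2)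
  obtain ⟨d, hd⟩ := IsPGroup.iff_card.mp hpg
  refine ⟨d, ?_, hd⟩
  rcases Nat.eq_zero_or_pos d with h0 | h0
  · exfalso
    rw [h0, pow_zero] at hd
    exact hM (Subgroup.card_eq_one.mp hd)
  · exact h0

/-- A minimal normal subgroup of a finite solvable group has exponent `p`, and order `p ^ d`. -/
theorem exists_prime_of_minimal_normal [Finite G] [Group.IsSolvable G] (M : Subgroup G)
    [M.Normal] (hM : M ≠ ⊥)
    (hmin : ∀ K : Subgroup G, K.Normal → K ≤ M → K = ⊥ ∨ K = M) :
    ∃ p d : ℕ, p.Prime ∧ 0 < d ∧ Nat.card M = p ^ d ∧ ∀ a ∈ M, a ^ p = 1 := by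
  obtain ⟨p, hp, h⟩ := exists_prime_pow_eq_one M hM hmin (comm_of_minimal_normal M hM hmin)
  obtain ⟨d, hd, hd'⟩ := exists_card_eq_prime_pow M hM hp h
  exact ⟨p, d, hp, hd, hd', h⟩

/-- Let `U` be a maximal subgroup with trivial core and `N` a nontrivial normal subgroup.
Then `N ⊔ U = ⊤`. -/
theorem sup_eq_top_of_normalCore_eq_bot (U : Subgroup G) (hU : IsCoatom U)
    (hcore : U.normalCore = ⊥) (N : Subgroup G) [hN' : N.Normal] (hN : N ≠ ⊥) : N ⊔ U = ⊤ := by
  refine hU.2 _ (lt_of_le_of_ne le_sup_right ?_)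
  intro h
  have h1 : N ≤ U := by rw [h]; exact le_sup_left
  have h2 : N ≤ U.normalCore := Subgroup.normal_le_normalCore.mpr h1
  rw [hcore] at h2
  exact hN (le_bot_iff.mp h2)

end Cfsg.Agent.SolvableStructure.MinimalNormal
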