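import Mathlib
import Cfsg.Agent.Lib.NilpotentCoprime
import Cfsg.Agent.Lib.Cores

/-!
Primary part `pp A p` of a nilpotent subgroup `A` of a finite group: the subgroup of all
`p`-elements of `A`.
-/

set_option autoImplicit false
open Pointwise

namespace Cfsg.Agent.SolvableStructure.PrimaryPart

variable {G : Type*} [Group G]

/-- The subgroup generated by the `p`-elements of `A`. -/
def pp (A : Subgroup G) (p : ℕ) : Subgroup G :=
  Subgroup.closure {x : G | x ∈ A ∧ ∃ k : ℕ, x ^ p ^ k = 1}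

theorem pp_le (A : Subgroup G) (p : ℕ) : pp A p ≤ A := by
  rw [pp, Subgroup.closure_le]
  exact fun x hx => hx.1

theorem mem_pp_of {A : Subgroup G} {p : ℕ} {x : G} (hx : x ∈ A) (hk : ∃ k : ℕ, x ^ p ^ k = 1) :
    x ∈ pp A p := Subgroup.subset_closure ⟨hx, hk⟩

theorem isPGroup_pp [Finite G] {A : Subgroup G} (hA : Group.IsNilpotent A) (p : ℕ) [Fact p.Prime] :
    IsPGroup p (pp A p) := by
  obtain ⟨P⟩ : Nonempty (Sylow p A) := inferInstance
  have hPn : (P : Subgroup A).Normal := by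
    have := (Group.isNilpotent_of_finite_tfae (G := A)).out 0 3
    exact (this.mp hA) p inferInstance P
  have key : pp A p ≤ (P : Subgroup A).map A.subtype := by
    rw [pp, Subgroup.closure_le]
    rintro x ⟨hxA, k, hk⟩
    refine ⟨⟨x, hxA⟩, ?_, rfl⟩
    have hz : IsPGroup p (Subgroup.zpowers (⟨x, hxA⟩ : A)) := by
      refine IsPGroup.of_card (n := (Nat.factorization (orderOf (⟨x, hxA⟩ : A))) p) ?_
      rw [Nat.card_zpowers]
      have h1 : orderOf (⟨x, hxA⟩ : A) ∣ p ^ k :=
        orderOf_dvd_of_pow_eq_one (Subtype.ext hk)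
      obtain ⟨m, -, hm⟩ := (Nat.dvd_prime_pow (Fact.out : p.Prime)).mp h1
      rw [hm, Nat.Prime.factorization_pow (Fact.out : p.Prime)]
      simp
    obtain ⟨Q, hQ⟩ := hz.exists_le_sylow
    have : Q = P := by
      obtain ⟨g, hg⟩ := MulAction.exists_smul_eq A P Q
      rw [← hg, Sylow.smul_eq_of_normal]
    rw [← this]
    exact hQ (Subgroup.mem_zpowers _)
  exact (P.isPGroup'.map A.subtype).to_le key

theorem mem_pp [Finite G] {A : Subgroup G} (hA : Group.IsNilpotent A) {p : ℕ} [Fact p.Prime]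
    {x : G} : x ∈ pp A p ↔ x ∈ A ∧ ∃ k : ℕ, x ^ p ^ k = 1 := by
  refine ⟨fun hx => ⟨pp_le A p hx, ?_⟩, fun h => mem_pp_of h.1 h.2⟩
  obtain ⟨k, hk⟩ := isPGroup_pp hA p ⟨x, hx⟩
  exact ⟨k, congrArg Subtype.val hk⟩

theorem conj_pp (A : Subgroup G) (p : ℕ) (g : G) :
    MulAut.conj g • pp A p = pp (MulAut.conj g • A) p := by
  have key : ∀ (A : Subgroup G) (g : G), MulAut.conj g • pp A p ≤ pp (MulAut.conj g • A) p := by
    intro A g
    rw [Subgroup.pointwise_smul_subset_iff]
    rw [pp, Subgroup.closure_le]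
    rintro x ⟨hx, k, hk⟩
    rw [SetLike.mem_coe, ← map_inv, Subgroup.mem_pointwise_smul_iff_inv_smul_mem, ← map_inv, inv_inv]
    refine mem_pp_of ?_ ⟨k, ?_⟩
    · exact Subgroup.smul_mem_pointwise_smul x (MulAut.conj g) A hx
    · rw [MulAut.smul_def, ← map_pow, hk, map_one]
  refine le_antisymm (key A g) ?_
  have := key (MulAut.conj g • A) g⁻¹
  rwa [smul_smul, ← map_mul, inv_mul_cancel, map_one, one_smul, map_inv,
    Subgroup.pointwise_smul_subset_iff, inv_inv] at this

theorem conj_mem_iff {A : Subgroup G} {g x : G} : x ∈ MulAut.conj g • A ↔ g⁻¹ * x * g ∈ A := by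
  rw [Subgroup.mem_pointwise_smul_iff_inv_smul_mem, ← map_inv, MulAut.smul_def, MulAut.conj_apply,
    inv_inv]

theorem conj_smul_eq_iff {A : Subgroup G} {g : G} :
    MulAut.conj g • A = A ↔ g ∈ Subgroup.normalizer (A : Set G) :=
  Subgroup.mem_normalizer_iff_map_conj_eq.symm

theorem card_conj (A : Subgroup G) (g : G) :
    Nat.card (MulAut.conj g • A : Subgroup G) = Nat.card A :=
  (Nat.card_congr (Subgroup.equivSMul (MulAut.conj g) A).toEquiv).symm

/-- In a finite group `g A g⁻¹ ≤ A` implies that `g` normalizes `A`. -/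
theorem mem_normalizer_of_conj_le [Finite G] {A : Subgroup G} {g : G}
    (h : MulAut.conj g • A ≤ A) : g ∈ Subgroup.normalizer (A : Set G) := by
  rw [← conj_smul_eq_iff]
  exact Subgroup.eq_of_le_of_card_ge h (card_conj A g).ge

theorem normalizer_le_normalizer_pp (A : Subgroup G) (p : ℕ) :
    Subgroup.normalizer (A : Set G) ≤ Subgroup.normalizer (pp A p : Set G) := by
  intro g hg
  rw [← conj_smul_eq_iff, conj_pp, conj_smul_eq_iff.mpr hg]

theorem le_normalizer_pp (A : Subgroup G) (p : ℕ) :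
    A ≤ Subgroup.normalizer (pp A p : Set G) :=
  Subgroup.le_normalizer.trans (normalizer_le_normalizer_pp A p)

theorem commute_pp [Finite G] {A : Subgroup G} (hA : Group.IsNilpotent A) {p q : ℕ}
    [Fact p.Prime] [Fact q.Prime] (hpq : p ≠ q) {x y : G} (hx : x ∈ pp A p) (hy : y ∈ pp A q) :
    x * y = y * x := by
  obtain ⟨hxA, k, hk⟩ := (mem_pp hA).mp hx
  obtain ⟨hyA, l, hl⟩ := (mem_pp hA).mp hy
  have := hA
  have h1 : Commute (⟨x, hxA⟩ : A) (⟨y, hyA⟩ : A) := by
    refine Cfsg.Agent.Lib.NilpotentCoprime.commute_of_pow_eq_one (m := p ^ k) (n := q ^ l) ?_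
      (Subtype.ext hk) (Subtype.ext hl)
    exact Nat.Coprime.pow _ _ ((Nat.coprime_primes Fact.out Fact.out).mpr hpq)
  exact congrArg Subtype.val h1.eq

theorem pp_le_centralizer [Finite G] {A : Subgroup G} (hA : Group.IsNilpotent A) {p q : ℕ}
    [Fact p.Prime] [Fact q.Prime] (hpq : p ≠ q) :
    pp A q ≤ Subgroup.centralizer (pp A p : Set G) := by
  intro y hy
  rw [Subgroup.mem_centralizer_iff]
  intro x hx
  exact commute_pp hA hpq hx hy

/-- The order of `pp A p` is the full power of `p` in `|A|`. -/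
theorem card_pp [Finite G] {A : Subgroup G} (hA : Group.IsNilpotent A) (p : ℕ) [Fact p.Prime] :
    Nat.card (pp A p) = p ^ (Nat.card A).factorization p := by
  obtain ⟨P⟩ : Nonempty (Sylow p A) := inferInstance
  have h1 : (P : Subgroup A) ≤ (pp A p).subgroupOf A := by
    intro x hx
    rw [Subgroup.mem_subgroupOf]
    refine mem_pp_of x.2 ?_
    obtain ⟨k, hk⟩ := P.isPGroup' ⟨x, hx⟩
    exact ⟨k, congrArg (fun z : (P : Subgroup A) => ((z : A) : G)) hk⟩
  have h2 : IsPGroup p ((pp A p).subgroupOf A) :=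
    (isPGroup_pp hA p).comap_of_injective A.subtype A.subtype_injective
  have h3 : (pp A p).subgroupOf A = (P : Subgroup A) := P.is_maximal' h2 h1
  rw [← P.card_eq_multiplicity]
  have h4 : (P : Subgroup A).map A.subtype = pp A p := by
    rw [← h3, Subgroup.subgroupOf_map_subtype, inf_eq_left]
    exact pp_le A p
  rw [← h4]
  exact Nat.card_congr ((P : Subgroup A).equivMapOfInjective A.subtype A.subtype_injective).symm.toEquiv

theorem pp_ne_bot [Finite G] {A : Subgroup G} (hA : Group.IsNilpotent A) {p : ℕ} [Fact p.Prime]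
    (hp : p ∣ Nat.card A) : pp A p ≠ ⊥ := by
  intro h
  have h1 := card_pp hA p
  rw [h, Subgroup.card_bot] at h1
  have h2 : 0 < (Nat.card A).factorization p :=
    (Fact.out : p.Prime).factorization_pos_of_dvd Nat.card_pos.ne' hp
  have h3 := (Nat.pow_eq_one.mp h1.symm)
  rcases h3 with h3 | h3
  · exact (Fact.out : p.Prime).one_lt.ne' h3
  · omega

/-- If all elements of prime power order of `K` lie in `N` then `K ≤ N`. -/
theorem le_of_primary [Finite G] {K N : Subgroup G}
    (h : ∀ (p : ℕ) [Fact p.Prime], ∀ x ∈ K, (∃ k : ℕ, x ^ p ^ k = 1) → x ∈ N) : K ≤ N := by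
  have h1 : N.subgroupOf K = ⊤ := by
    refine Cfsg.Agent.Lib.Cores.eq_top_of_sylow_le fun p hp => ?_
    obtain ⟨P⟩ : Nonempty (Sylow p K) := inferInstance
    refine ⟨P, fun y hx => ?_⟩
    rw [Subgroup.mem_subgroupOf]
    obtain ⟨k, hk⟩ := P.isPGroup' ⟨y, hx⟩
    exact h p y y.2 ⟨k, congrArg (fun z : (P : Subgroup K) => ((z : K) : G)) hk⟩
  exact Subgroup.subgroupOf_eq_top.mp h1

/-- If `N` contains all primary parts of the nilpotent subgroup `A` then `A ≤ N`. -/
theorem le_of_pp_le [Finite G] {A N : Subgroup G}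
    (h : ∀ (p : ℕ) [Fact p.Prime], pp A p ≤ N) : A ≤ N :=
  le_of_primary fun p _ x hx hk => h p (mem_pp_of hx hk)

/-- If `p` does not divide `|K|` then the only `p`-element of `K` is `1`. -/
theorem eq_one_of_not_dvd [Finite G] {K : Subgroup G} {p : ℕ} [Fact p.Prime]
    (hp : ¬ p ∣ Nat.card K) {x : G} (hx : x ∈ K) (hk : ∃ k : ℕ, x ^ p ^ k = 1) : x = 1 := by
  obtain ⟨k, hk⟩ := hk
  have h1 : orderOf x ∣ p ^ k := orderOf_dvd_of_pow_eq_one hk
  have h2 : orderOf x ∣ Nat.card K := by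
    have := orderOf_dvd_natCard (⟨x, hx⟩ : K)
    rwa [Subgroup.orderOf_mk] at this
  obtain ⟨m, -, hm⟩ := (Nat.dvd_prime_pow (Fact.out : p.Prime)).mp h1
  rcases Nat.eq_zero_or_pos m with h0 | h0
  · rw [h0, pow_zero, orderOf_eq_one_iff] at hm
    exact hm
  · exfalso
    apply hp
    rw [hm] at h2
    exact (dvd_pow_self p h0.ne').trans h2

end Cfsg.Agent.SolvableStructure.PrimaryPart
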