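import Mathlib
import Cfsg.Agent.SolvableStructure.PrimaryPart
import Cfsg.Agent.Lib.SolvableNormalP
import Cfsg.Agent.Lib.ProductSet
import Cfsg.Agent.S0015
import Cfsg.Agent.S0561
import Cfsg.Agent.S0562
import Cfsg.Agent.S0566

/-!
The minimal configuration in Wielandt's theorem on products of two nilpotent subgroups of coprime
orders: first consequences.
-/

set_option autoImplicit false
open Pointwise

namespace Cfsg.Agent.SolvableStructure.WielandtCfg

open Cfsg.Agent.SolvableStructure.PrimaryPart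

variable {G : Type*} [Group G] [Finite G]

omit [Finite G] in
theorem isNilpotent_of_le {N K : Subgroup G} (hK : Group.IsNilpotent K) (h : N ≤ K) :
    Group.IsNilpotent N := by
  have := hK
  exact (Group.isNilpotent_congr (Subgroup.subgroupOfEquivOfLe h)).mp inferInstance

/-- Factorized subgroup. -/
def Fac (A B L : Subgroup G) : Prop := ∀ g ∈ L, ∃ a ∈ L ⊓ A, ∃ b ∈ L ⊓ B, g = a * b

structure Cfg (A B : Subgroup G) : Prop where
  simple : IsSimpleGroup G
  nilA : Group.IsNilpotent A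
  nilB : Group.IsNilpotent B
  cop : (Nat.card A).Coprime (Nat.card B)
  fac : ∀ g : G, ∃ a ∈ A, ∃ b ∈ B, g = a * b
  twoA : ∃ p q : ℕ, p.Prime ∧ q.Prime ∧ p ≠ q ∧ p ∣ Nat.card A ∧ q ∣ Nat.card A
  twoB : ∃ p q : ℕ, p.Prime ∧ q.Prime ∧ p ≠ q ∧ p ∣ Nat.card B ∧ q ∣ Nat.card B
  sol : ∀ L : Subgroup G, L ≠ ⊤ → Fac A B L → Group.IsSolvable L

omit [Finite G] in
theorem Fac.symm {A B L : Subgroup G} (h : Fac A B L) : Fac B A L := by
  intro g hg
  obtain ⟨a, ha, b, hb, e⟩ := h g⁻¹ (L.inv_mem hg)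
  refine ⟨b⁻¹, (L ⊓ B).inv_mem hb, a⁻¹, (L ⊓ A).inv_mem ha, ?_⟩
  rw [← mul_inv_rev, ← e, inv_inv]

omit [Finite G] in
theorem Cfg.symm {A B : Subgroup G} (h : Cfg A B) : Cfg B A where
  simple := h.simple
  nilA := h.nilB
  nilB := h.nilA
  cop := h.cop.symm
  fac := Cfsg.Agent.Lib.ProductSet.factorization_symm h.fac
  twoA := h.twoB
  twoB := h.twoA
  sol := fun L hL hf => h.sol L hL hf.symm

variable {A B : Subgroup G}

omit [Finite G] in
theorem Cfg.exists_other (h : Cfg A B) (p : ℕ) : ∃ q : ℕ, q.Prime ∧ q ≠ p ∧ q ∣ Nat.card A := by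
  obtain ⟨r, s, hr, hs, hrs, hrA, hsA⟩ := h.twoA
  by_cases hp : r = p
  · exact ⟨s, hs, fun e => hrs (hp.trans e.symm), hsA⟩
  · exact ⟨r, hr, hp, hrA⟩

omit [Finite G] in
theorem Cfg.inf_eq_bot (h : Cfg A B) : A ⊓ B = ⊥ :=
  disjoint_iff.mp (Subgroup.disjoint_of_coprime_natCard h.cop)

omit [Finite G] in
theorem Cfg.card_eq (h : Cfg A B) : Nat.card G = Nat.card A * Nat.card B := by
  have := Cfsg.Agent.Lib.ProductSet.card_mul_card_inf_of_factorization h.fac
  rwa [h.inf_eq_bot, Subgroup.card_bot, mul_one] at this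

theorem Cfg.one_lt (h : Cfg A B) : 1 < Nat.card A := by
  obtain ⟨r, s, hr, hs, hrs, hrA, hsA⟩ := h.twoA
  exact lt_of_lt_of_le hr.one_lt (Nat.le_of_dvd Nat.card_pos hrA)

theorem Cfg.ne_bot (h : Cfg A B) : A ≠ ⊥ := by
  intro e
  have := h.one_lt
  rw [e, Subgroup.card_bot] at this
  exact lt_irrefl _ this

theorem Cfg.ne_top (h : Cfg A B) : A ≠ ⊤ := by
  intro e
  have h1 := h.card_eq
  have h2 := h.symm.one_lt
  rw [e, Subgroup.card_top] at h1
  have h3 : 0 < Nat.card G := Nat.card_pos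
  nlinarith

omit [Finite G] in
theorem Cfg.not_dvd (h : Cfg A B) {p : ℕ} (hp : p.Prime) (hpA : p ∣ Nat.card A) :
    ¬ p ∣ Nat.card B := fun hpB => hp.one_lt.ne' (Nat.eq_one_of_dvd_coprimes h.cop hpA hpB)

omit [Finite G] in
theorem Cfg.normalizer_ne_top (h : Cfg A B) {X : Subgroup G} (h1 : X ≠ ⊥) (h2 : X ≠ ⊤) :
    Subgroup.normalizer (X : Set G) ≠ ⊤ := by
  intro e
  have := h.simple
  rcases (Subgroup.normalizer_eq_top_iff.mp e).eq_bot_or_eq_top with h3 | h3
  · exact h1 h3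
  · exact h2 h3

theorem Cfg.ne_top_of_le_conj (h : Cfg A B) {X : Subgroup G} {g : G} (h1 : X ≤ MulAut.conj g • A) :
    X ≠ ⊤ := by
  intro e
  rw [e, top_le_iff] at h1
  apply h.ne_top
  apply Subgroup.eq_top_of_card_eq
  rw [← card_conj A g, h1, Subgroup.card_top]

theorem Cfg.ne_top_of_le (h : Cfg A B) {X : Subgroup G} (h1 : X ≤ A) : X ≠ ⊤ := by
  intro e
  rw [e, top_le_iff] at h1
  exact h.ne_top h1

/-- If `|L| = |N| |M|`, `N ≤ L` nilpotent and `p` does not divide `|M|`, then `pp N p` is a Hall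
subgroup of `L`. -/
theorem coprime_relIndex {L N : Subgroup G} (hN : Group.IsNilpotent N) {m : ℕ}
    (hcard : Nat.card L = Nat.card N * m) (hNL : N ≤ L) {p : ℕ} [Fact p.Prime] (hm : ¬ p ∣ m) :
    ¬ p ∣ (pp N p).relIndex L := by
  have hp : p.Prime := Fact.out
  have h1 : Nat.card (pp N p) * (pp N p).relIndex L = Nat.card L := by
    have h := Subgroup.relIndex_mul_relIndex (⊥ : Subgroup G) (pp N p) L bot_le
      ((pp_le N p).trans hNL)
    rwa [Subgroup.relIndex_bot_left, Subgroup.relIndex_bot_left] at h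
  rw [card_pp hN p, hcard] at h1
  intro hdvd
  have h2 : p ^ ((Nat.card N).factorization p + 1) ∣ Nat.card N * m := by
    rw [← h1, pow_succ]
    exact Nat.mul_dvd_mul_left _ hdvd
  have h3 : p ^ ((Nat.card N).factorization p + 1) ∣ Nat.card N :=
    Nat.Coprime.dvd_of_dvd_mul_right (Nat.Coprime.pow_left _ ((Nat.Prime.coprime_iff_not_dvd hp).mpr hm)) h2
  have h4 := (hp.pow_dvd_iff_le_factorization Nat.card_pos.ne').mp h3
  omega

theorem Cfg.not_dvd_index (h : Cfg A B) {p : ℕ} [Fact p.Prime] (hpA : p ∣ Nat.card A) :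
    ¬ p ∣ (pp A p).index := by
  have h1 := coprime_relIndex (L := ⊤) (N := A) h.nilA (m := Nat.card B) (p := p)
    (by rw [Subgroup.card_top]; exact h.card_eq) le_top (h.not_dvd Fact.out hpA)
  rwa [Subgroup.relIndex_top_right] at h1

/-- Any `p`-subgroup of `G`, `p` a divisor of `|A|`, lies in a conjugate of `pp A p`. -/
theorem Cfg.exists_conj_ge (h : Cfg A B) {p : ℕ} [Fact p.Prime] (hpA : p ∣ Nat.card A)
    {Y : Subgroup G} (hY : IsPGroup p Y) : ∃ g : G, Y ≤ MulAut.conj g • pp A p := by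
  obtain ⟨Q, hQ⟩ := hY.exists_le_sylow
  obtain ⟨g, hg⟩ := MulAction.exists_smul_eq G ((isPGroup_pp h.nilA p).toSylow (h.not_dvd_index hpA)) Q
  refine ⟨g, hQ.trans (le_of_eq ?_)⟩
  rw [← hg]
  rfl

/-- A normal `p`-subgroup lies in every subgroup which is a `p`-group of index prime to `p`. -/
theorem le_of_normal_pGroup {R P X : Subgroup G} {p : ℕ} [Fact p.Prime] (hX : IsPGroup p X)
    (hXR : X ≤ R) (hRX : R ≤ Subgroup.normalizer (X : Set G)) (hP : IsPGroup p P) (hPR : P ≤ R)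
    (hidx : ¬ p ∣ P.relIndex R) : X ≤ P := by
  have h1 : IsPGroup p (P ⊔ X : Subgroup G) := hP.to_sup_of_normal_right' hX (hPR.trans hRX)
  obtain ⟨n, hn⟩ := IsPGroup.iff_card.mp h1
  have h2 : Nat.card P * P.relIndex (P ⊔ X) = Nat.card (P ⊔ X : Subgroup G) := by
    have h := Subgroup.relIndex_mul_relIndex (⊥ : Subgroup G) P (P ⊔ X) bot_le le_sup_left
    rwa [Subgroup.relIndex_bot_left, Subgroup.relIndex_bot_left] at h
  have h3 : P.relIndex (P ⊔ X) ∣ p ^ n := by
    rw [← hn, ← h2]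
    exact dvd_mul_left _ _
  obtain ⟨m, -, hm⟩ := (Nat.dvd_prime_pow (Fact.out : p.Prime)).mp h3
  have h4 : P.relIndex (P ⊔ X) ∣ P.relIndex R := by
    have h := Subgroup.relIndex_mul_relIndex P (P ⊔ X) R le_sup_left (sup_le hPR hXR)
    rw [← h]
    exact dvd_mul_right _ _
  rcases Nat.eq_zero_or_pos m with h0 | h0
  · rw [h0, pow_zero, Subgroup.relIndex_eq_one] at hm
    exact le_sup_right.trans hm
  · exfalso
    apply hidx
    refine dvd_trans ?_ h4
    rw [hm]
    exact dvd_pow_self p h0.ne'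

/-- A nontrivial solvable product `R = PQ` of a `p`-group and a `q`-group has a nontrivial normal
subgroup inside `P` or inside `Q`. -/
theorem exists_normal_le {R P Q : Subgroup G} (hsol : Group.IsSolvable R) (hne : R ≠ ⊥)
    (hPQ : (R : Set G) = (P : Set G) * (Q : Set G)) {p q : ℕ} [Fact p.Prime] [Fact q.Prime]
    (hpq : p ≠ q) (hP : IsPGroup p P) (hQ : IsPGroup q Q) :
    ∃ X : Subgroup G, X ≠ ⊥ ∧ X ≤ R ∧ R ≤ Subgroup.normalizer (X : Set G) ∧ (X ≤ P ∨ X ≤ Q) := by
  have hPR : P ≤ R := by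
    intro x hx
    rw [← SetLike.mem_coe, hPQ]
    exact ⟨x, hx, 1, Q.one_mem, mul_one x⟩
  have hQR : Q ≤ R := by
    intro x hx
    rw [← SetLike.mem_coe, hPQ]
    exact ⟨1, P.one_mem, x, hx, one_mul x⟩
  have hnt : Nontrivial R := (Subgroup.nontrivial_iff_ne_bot R).mpr hne
  obtain ⟨r, N, hr, hNn, hNr, -, hNne⟩ := Cfsg.Agent.Lib.SolvableNormalP.exists_normal_pSubgroup R
  have : Fact r.Prime := ⟨hr⟩
  obtain ⟨a, ha⟩ := IsPGroup.iff_card.mp hP
  obtain ⟨b, hb⟩ := IsPGroup.iff_card.mp hQ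
  have hbot : P ⊓ Q = ⊥ := by
    apply disjoint_iff.mp
    apply Subgroup.disjoint_of_coprime_natCard
    rw [ha, hb]
    exact Nat.Coprime.pow _ _ ((Nat.coprime_primes Fact.out Fact.out).mpr hpq)
  have hcard : Nat.card R = p ^ a * q ^ b := by
    have h1 := Cfsg.Agent.Lib.ProductSet.card_mul_card_inf P Q
    rw [hbot, Subgroup.card_bot, mul_one, ha, hb] at h1
    rw [← h1, ← hPQ]
    rfl
  have hXR : N.map R.subtype ≤ R := Subgroup.map_subtype_le N
  have hXne : N.map R.subtype ≠ ⊥ := by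
    rw [Ne, Subgroup.map_eq_bot_iff_of_injective _ R.subtype_injective]
    exact hNne
  have hRX : R ≤ Subgroup.normalizer ((N.map R.subtype : Subgroup G) : Set G) := by
    have h1 := Subgroup.le_normalizer_map (H := N) R.subtype
    rw [Subgroup.normalizer_eq_top_iff.mpr hNn, ← MonoidHom.range_eq_map, Subgroup.range_subtype] at h1
    exact h1
  have hXr : IsPGroup r (N.map R.subtype) := hNr.map _
  have hrd : r ∣ p ^ a * q ^ b := by
    rw [← hcard]
    have h1 : r ∣ Nat.card N := by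
      obtain ⟨n, hn⟩ := IsPGroup.iff_card.mp hNr
      have h2 : n ≠ 0 := by
        rintro rfl
        rw [pow_zero, Subgroup.card_eq_one] at hn
        exact hNne hn
      rw [hn]
      exact dvd_pow_self r h2
    exact h1.trans (Subgroup.card_subgroup_dvd_card N)
  refine ⟨N.map R.subtype, hXne, hXR, hRX, ?_⟩
  have hp : p.Prime := Fact.out
  have hq : q.Prime := Fact.out
  rcases (Nat.Prime.dvd_mul hr).mp hrd with h1 | h1
  · have h2 : r = p := (Nat.prime_dvd_prime_iff_eq hr hp).mp (hr.dvd_of_dvd_pow h1)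
    subst h2
    left
    refine le_of_normal_pGroup hXr hXR hRX hP hPR ?_
    have h3 : Nat.card P * P.relIndex R = Nat.card R := by
      have h := Subgroup.relIndex_mul_relIndex (⊥ : Subgroup G) P R bot_le hPR
      rwa [Subgroup.relIndex_bot_left, Subgroup.relIndex_bot_left] at h
    rw [ha, hcard] at h3
    have h4 : P.relIndex R = q ^ b := Nat.eq_of_mul_eq_mul_left (pow_pos hp.pos a) h3
    rw [h4]
    intro h5
    exact hpq ((Nat.prime_dvd_prime_iff_eq hp hq).mp (hp.dvd_of_dvd_pow h5))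
  · have h2 : r = q := (Nat.prime_dvd_prime_iff_eq hr hq).mp (hr.dvd_of_dvd_pow h1)
    subst h2
    right
    refine le_of_normal_pGroup hXr hXR hRX hQ hQR ?_
    have h3 : Nat.card Q * Q.relIndex R = Nat.card R := by
      have h := Subgroup.relIndex_mul_relIndex (⊥ : Subgroup G) Q R bot_le hQR
      rwa [Subgroup.relIndex_bot_left, Subgroup.relIndex_bot_left] at h
    rw [hb, hcard, mul_comm (p ^ a)] at h3
    have h4 : Q.relIndex R = p ^ a := Nat.eq_of_mul_eq_mul_left (pow_pos hq.pos b) h3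
    rw [h4]
    intro h5
    exact hpq ((Nat.prime_dvd_prime_iff_eq hq hp).mp (hq.dvd_of_dvd_pow h5)).symm

/-- A factorized solvable subgroup contains the product of `L ⊓ pp A p` and `L ⊓ pp B q` as a
subgroup. -/
theorem Cfg.perm (h : Cfg A B) {L : Subgroup G} (hL : Group.IsSolvable L) (hf : Fac A B L)
    {p q : ℕ} [Fact p.Prime] [Fact q.Prime] (hpA : p ∣ Nat.card A) (hqB : q ∣ Nat.card B) :
    ∃ R : Subgroup G, R ≤ L ∧
      (R : Set G) = ((L ⊓ pp A p : Subgroup G) : Set G) * ((L ⊓ pp B q : Subgroup G) : Set G) := by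
  -- the order of `L`
  have hcard : Nat.card L = Nat.card (L ⊓ A : Subgroup G) * Nat.card (L ⊓ B : Subgroup G) := by
    have h1 := Cfsg.Agent.Lib.ProductSet.card_mul_card_inf (L ⊓ A) (L ⊓ B)
    have h2 : (L ⊓ A) ⊓ (L ⊓ B) = ⊥ := by
      rw [eq_bot_iff, ← h.inf_eq_bot]
      exact inf_le_inf inf_le_right inf_le_right
    rw [h2, Subgroup.card_bot, mul_one] at h1
    rw [← h1]
    have h3 : (L : Set G) = ((L ⊓ A : Subgroup G) : Set G) * ((L ⊓ B : Subgroup G) : Set G) := by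
      ext g
      constructor
      · intro hg
        obtain ⟨a, ha, b, hb, e⟩ := hf g hg
        exact ⟨a, ha, b, hb, e.symm⟩
      · rintro ⟨a, ha, b, hb, rfl⟩
        exact L.mul_mem ha.1 hb.1
    rw [← h3]
    rfl
  -- Hall property
  have hall : ∀ (A B : Subgroup G) (_ : Cfg A B)
      (_ : Nat.card L = Nat.card (L ⊓ A : Subgroup G) * Nat.card (L ⊓ B : Subgroup G)) (p : ℕ)
      [Fact p.Prime] (_ : p ∣ Nat.card A),
      (Nat.card ((pp A p).subgroupOf L)).Coprime ((pp A p).subgroupOf L).index := by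
    intro A B h hcard p _ hpA
    have hp : p.Prime := Fact.out
    have hnil : Group.IsNilpotent (L ⊓ A : Subgroup G) := by
      exact isNilpotent_of_le h.nilA inf_le_right
    have h1 : pp (L ⊓ A) p = L ⊓ pp A p := by
      ext x
      rw [mem_pp hnil, Subgroup.mem_inf, Subgroup.mem_inf, mem_pp h.nilA]
      tauto
    have h2 := coprime_relIndex (L := L) (N := L ⊓ A) hnil hcard inf_le_left (p := p)
      (fun h3 => h.not_dvd hp hpA (h3.trans (Subgroup.card_dvd_of_le inf_le_right)))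
    rw [h1, Subgroup.inf_relIndex_left] at h2
    have h3 : IsPGroup p ((pp A p).subgroupOf L) :=
      (isPGroup_pp h.nilA p).comap_of_injective L.subtype L.subtype_injective
    obtain ⟨n, hn⟩ := IsPGroup.iff_card.mp h3
    rw [hn]
    exact Nat.Coprime.pow_left _ ((Nat.Prime.coprime_iff_not_dvd hp).mpr h2)
  have hnorm : ∀ (A : Subgroup G) (p : ℕ),
      (((pp A p).subgroupOf L).subgroupOf (A.subgroupOf L)).Normal := by
    intro A p
    rw [Subgroup.normal_subgroupOf_iff_le_normalizer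
      (show (pp A p).subgroupOf L ≤ A.subgroupOf L from Subgroup.comap_mono (pp_le A p))]
    exact (Subgroup.comap_mono (le_normalizer_pp A p)).trans (Subgroup.le_normalizer_comap L.subtype)
  obtain ⟨S, hS⟩ := Cfsg.Agent.S0561.result (G := L) (A.subgroupOf L) (B.subgroupOf L)
    ((pp A p).subgroupOf L) ((pp B q).subgroupOf L) (by
      rintro ⟨g, hg⟩
      obtain ⟨a, ha, b, hb, e⟩ := hf g hg
      exact ⟨⟨a, ha.1⟩, ha.2, ⟨b, hb.1⟩, hb.2, Subtype.ext e⟩)
    (Subgroup.comap_mono (pp_le A p)) (hnorm A p) (Subgroup.comap_mono (pp_le B q)) (hnorm B q)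
    (hall A B h hcard p hpA) (hall B A h.symm (by rw [hcard, mul_comm]) q hqB) 1 1
  refine ⟨S.map L.subtype, Subgroup.map_subtype_le S, ?_⟩
  rw [map_one, one_smul, one_smul] at hS
  rw [Subgroup.coe_map, hS, Set.image_mul]
  congr 1
  · rw [← Subgroup.coe_map, Subgroup.subgroupOf_map_subtype, inf_comm]
  · rw [← Subgroup.coe_map, Subgroup.subgroupOf_map_subtype, inf_comm]

end Cfsg.Agent.SolvableStructure.WielandtCfg
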