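import Mathlib
import Cfsg.Agent.SolvableStructure.WielandtCfg

/-!
The minimal configuration in Wielandt's theorem: overgroups of `A` normalize `A`.
-/

set_option autoImplicit false
open Pointwise

namespace Cfsg.Agent.SolvableStructure.WielandtLocal

open Cfsg.Agent.SolvableStructure.PrimaryPart Cfsg.Agent.SolvableStructure.WielandtCfg

variable {G : Type*} [Group G] [Finite G] {A B : Subgroup G}

omit [Finite G] in
theorem centralizer_le_normalizer' (X : Subgroup G) :
    Subgroup.centralizer (X : Set G) ≤ Subgroup.normalizer (X : Set G) := by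
  intro g hg
  rw [Subgroup.mem_normalizer_iff]
  rw [Subgroup.mem_centralizer_iff] at hg
  intro t
  constructor
  · intro ht
    rw [← hg t ht, mul_inv_cancel_right]
    exact ht
  · intro ht
    have h1 := hg _ ht
    have h2 : g * t * g⁻¹ = t := by
      have h3 : g * t * g⁻¹ * g = g * t := by group
      rw [h3] at h1
      exact (mul_left_cancel h1).symm
    rwa [h2] at ht

/-- (2') -/
theorem exists_R (h : Cfg A B) {A₁ B₁ : Subgroup G} {p q : ℕ} [Fact p.Prime] [Fact q.Prime]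
    (hpA : p ∣ Nat.card A) (hqB : q ∣ Nat.card B) (hA₁ : A₁ ≤ pp A p) (hB₁ : B₁ ≤ pp B q)
    (hnA : A ≤ Subgroup.normalizer (A₁ : Set G)) (hnB : B ≤ Subgroup.normalizer (B₁ : Set G))
    (hne : A₁ ⊔ B₁ ≠ ⊥) (hnt : A₁ ⊔ B₁ ≠ ⊤) :
    ∃ R P Q : Subgroup G, (R : Set G) = (P : Set G) * (Q : Set G) ∧ P ≤ pp A p ∧ Q ≤ pp B q ∧
      A₁ ≤ P ∧ B₁ ≤ Q ∧ R ≠ ⊤ ∧ R ≠ ⊥ ∧ Group.IsSolvable R := by
  have hL : Subgroup.normalizer ((A₁ ⊔ B₁ : Subgroup G) : Set G) ≠ ⊤ := h.normalizer_ne_top hne hnt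
  have hf : Fac A B (Subgroup.normalizer ((A₁ ⊔ B₁ : Subgroup G) : Set G)) :=
    Cfsg.Agent.S0562.result A B A₁ B₁ h.fac (hA₁.trans (pp_le A p))
      ((Subgroup.normal_subgroupOf_iff_le_normalizer (hA₁.trans (pp_le A p))).mpr hnA)
      (hB₁.trans (pp_le B q))
      ((Subgroup.normal_subgroupOf_iff_le_normalizer (hB₁.trans (pp_le B q))).mpr hnB)
  have hs := h.sol _ hL hf
  obtain ⟨R, hRL, hR⟩ := h.perm hs hf hpA hqB (p := p) (q := q)
  have h1 : A₁ ≤ Subgroup.normalizer ((A₁ ⊔ B₁ : Subgroup G) : Set G) :=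
    le_sup_left.trans Subgroup.le_normalizer
  have h2 : B₁ ≤ Subgroup.normalizer ((A₁ ⊔ B₁ : Subgroup G) : Set G) :=
    le_sup_right.trans Subgroup.le_normalizer
  refine ⟨R, _, _, hR, inf_le_right, inf_le_right, le_inf h1 hA₁, le_inf h2 hB₁, ?_, ?_, ?_⟩
  · intro e
    apply hL
    rw [e] at hRL
    exact top_le_iff.mp hRL
  · intro e
    apply hne
    rw [eq_bot_iff, ← e]
    refine sup_le ?_ ?_
    · intro x hx
      rw [← SetLike.mem_coe, hR]
      exact ⟨x, ⟨h1 hx, hA₁ hx⟩, 1, Subgroup.one_mem _, mul_one x⟩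
    · intro x hx
      rw [← SetLike.mem_coe, hR]
      exact ⟨1, Subgroup.one_mem _, x, ⟨h2 hx, hB₁ hx⟩, one_mul x⟩
  · have := hs
    exact Group.isSolvable_of_isSolvable_injective (f := Subgroup.inclusion hRL)
      (Subgroup.inclusion_injective hRL)

/-- (2) -/
theorem sup_eq_top (h : Cfg A B) {p q : ℕ} [Fact p.Prime] [Fact q.Prime]
    (hpA : p ∣ Nat.card A) (hqB : q ∣ Nat.card B) : pp A p ⊔ pp B q = ⊤ := by
  by_contra hnt
  have hA : pp A p ≠ ⊥ := pp_ne_bot h.nilA hpA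
  have hB : pp B q ≠ ⊥ := pp_ne_bot h.nilB hqB
  obtain ⟨R, P, Q, hR, hP, hQ, hAP, hBQ, hRt, -, -⟩ := exists_R h hpA hqB le_rfl le_rfl
    (le_normalizer_pp A p) (le_normalizer_pp B q)
    (fun e => hA (by rw [eq_bot_iff, ← e]; exact le_sup_left)) hnt
  have hP' : P = pp A p := le_antisymm hP hAP
  have hQ' : Q = pp B q := le_antisymm hQ hBQ
  subst hP' hQ'
  obtain ⟨N, hN, hNt, hor⟩ := Cfsg.Agent.S0566.result (pp A p) (pp B q) hA hB (by
    intro x
    obtain ⟨a, ha, b, hb, rfl⟩ := h.fac x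
    refine ⟨MulAut.conj a • R, ?_, ?_⟩
    · intro e
      apply hRt
      apply Subgroup.eq_top_of_card_eq
      rw [← card_conj R a, e, Subgroup.card_top]
    · have h1 : MulAut.conj a • pp A p = pp A p := conj_smul_eq_iff.mpr (le_normalizer_pp A p ha)
      have h2 : MulAut.conj b • pp B q = pp B q := conj_smul_eq_iff.mpr (le_normalizer_pp B q hb)
      rw [map_mul, mul_smul, h2]
      conv_rhs => rw [← h1]
      have h3 : ((MulAut.conj a • R : Subgroup G) : Set G) = MulAut.conj a • (R : Set G) := rfl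
      rw [h3, hR, smul_mul']
      rfl)
  have := h.simple
  have hNb : N = ⊥ := hN.eq_bot_or_eq_top.resolve_right hNt
  subst hNb
  rcases hor with h1 | h1
  · exact hA (le_bot_iff.mp h1)
  · exact hB (le_bot_iff.mp h1)

/-- (2) for conjugates -/
theorem sup_conj_eq_top (h : Cfg A B) {p q : ℕ} [Fact p.Prime] [Fact q.Prime]
    (hpA : p ∣ Nat.card A) (hqB : q ∣ Nat.card B) (x y : G) :
    (MulAut.conj x • pp A p) ⊔ (MulAut.conj y • pp B q) = ⊤ := by
  obtain ⟨a, ha, b, hb, e⟩ := Cfsg.Agent.Lib.ProductSet.exists_mul_eq_mul h.fac x y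
  have h1 : MulAut.conj a • pp A p = pp A p := conj_smul_eq_iff.mpr (le_normalizer_pp A p ha)
  have h2 : MulAut.conj b • pp B q = pp B q := conj_smul_eq_iff.mpr (le_normalizer_pp B q hb)
  have h3 : MulAut.conj x • pp A p = MulAut.conj (x * a) • pp A p := by
    rw [map_mul, mul_smul, h1]
  have h4 : MulAut.conj y • pp B q = MulAut.conj (x * a) • pp B q := by
    rw [e, map_mul, mul_smul, h2]
  rw [h3, h4, ← Subgroup.smul_sup, sup_eq_top h hpA hqB]
  apply Subgroup.eq_top_of_card_eq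
  rw [card_conj, Subgroup.card_top]

omit [Finite G] in
theorem isNilpotent_conj {N : Subgroup G} (hN : Group.IsNilpotent N) (g : G) :
    Group.IsNilpotent (MulAut.conj g • N : Subgroup G) :=
  (Group.isNilpotent_congr (Subgroup.equivSMul (MulAut.conj g) N)).mp hN

/-- (4) -/
theorem not_normalize (h : Cfg A B) {p q : ℕ} [Fact p.Prime] [Fact q.Prime]
    (hpA : p ∣ Nat.card A) (hqB : q ∣ Nat.card B) {Y : Subgroup G} (hY : Y ≠ ⊥)
    (hYq : IsPGroup q Y) (hn : pp A p ≤ Subgroup.normalizer (Y : Set G)) : False := by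
  obtain ⟨g, hg⟩ := h.symm.exists_conj_ge hqB hYq
  obtain ⟨q₁, hq₁, hne, hq₁B⟩ := h.symm.exists_other q
  have : Fact q₁.Prime := ⟨hq₁⟩
  have h1 : MulAut.conj g • pp B q₁ ≤ Subgroup.normalizer (Y : Set G) := by
    rw [conj_pp]
    refine (pp_le_centralizer (isNilpotent_conj h.nilB g) hne.symm).trans ?_
    rw [← conj_pp]
    exact (Subgroup.centralizer_le hg).trans (centralizer_le_normalizer' Y)
  have h2 := sup_conj_eq_top h hpA hq₁B 1 g
  rw [map_one, one_smul] at h2
  refine h.normalizer_ne_top hY (h.symm.ne_top_of_le_conj (g := g) (hg.trans ?_))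
    (top_le_iff.mp (h2 ▸ sup_le hn h1))
  exact Subgroup.pointwise_smul_le_pointwise_smul_iff.mpr (pp_le B q)

theorem centralizer_ne_top (h : Cfg A B) {x : G} (hx : x ∈ A) (hx1 : x ≠ 1) :
    Subgroup.centralizer ({x} : Set G) ≠ ⊤ := by
  intro e
  refine h.normalizer_ne_top (X := Subgroup.zpowers x) ?_ ?_ ?_
  · rwa [Ne, Subgroup.zpowers_eq_bot]
  · exact h.ne_top_of_le (by rwa [Subgroup.zpowers_le])
  · rw [← top_le_iff, ← e]
    refine le_trans ?_ (centralizer_le_normalizer' _)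
    rw [← Subgroup.centralizer_closure, ← Subgroup.zpowers_eq_closure]

/-- A proper subgroup does not contain both `B` and a nontrivial central element of `A`. -/
theorem no_overgroup (h : Cfg A B) {z : G} (hzc : ∀ a ∈ A, a * z = z * a) (hz1 : z ≠ 1)
    {N : Subgroup G} (hN : N ≠ ⊤) (hB : B ≤ N) (hzN : z ∈ N) : False := by
  have h1 : Subgroup.normalClosure {z} ≤ N := by
    rw [Subgroup.normalClosure, Subgroup.closure_le]
    intro w hw
    rw [Group.mem_conjugatesOfSet_iff] at hw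
    obtain ⟨z', hz', hc⟩ := hw
    rw [Set.mem_singleton_iff] at hz'
    subst hz'
    rw [isConj_iff] at hc
    obtain ⟨c, rfl⟩ := hc
    obtain ⟨b, hb, a, ha, rfl⟩ := Cfsg.Agent.Lib.ProductSet.factorization_symm h.fac c
    have h2 : b * a * z' * (b * a)⁻¹ = b * z' * b⁻¹ := by
      have := hzc a ha
      calc b * a * z' * (b * a)⁻¹ = b * (a * z') * a⁻¹ * b⁻¹ := by group
        _ = b * z' * b⁻¹ := by rw [this]; group
    rw [SetLike.mem_coe, h2]
    exact N.mul_mem (N.mul_mem (hB hb) hzN) (N.inv_mem (hB hb))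
  have := h.simple
  rcases (Subgroup.normalClosure_normal (s := ({z} : Set G))).eq_bot_or_eq_top with h3 | h3
  · apply hz1
    have : z ∈ Subgroup.normalClosure {z} := Subgroup.subset_normalClosure rfl
    rwa [h3, Subgroup.mem_bot] at this
  · exact hN (top_le_iff.mp (h3 ▸ h1))

theorem dvd_card_of_mem_pp (hA : Group.IsNilpotent A) {p : ℕ} [Fact p.Prime] {z : G}
    (hz : z ∈ pp A p) (hz1 : z ≠ 1) : p ∣ Nat.card A := by
  by_contra hp
  exact hz1 (eq_one_of_not_dvd hp (pp_le A p hz) ((mem_pp hA).mp hz).2)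

omit [Finite G] in
theorem mem_centralizer_singleton {x g : G} :
    g ∈ Subgroup.centralizer ({x} : Set G) ↔ x * g = g * x := by
  rw [Subgroup.mem_centralizer_iff]
  simp

/-- normalizer of a nontrivial subgroup of `pp B q` normalized by `pp B q` contains `B` -/
theorem le_normalizer_of_le_pp (hB : Group.IsNilpotent B) {q : ℕ} [Fact q.Prime] {X : Subgroup G}
    (hX : X ≤ pp B q) (hn : pp B q ≤ Subgroup.normalizer (X : Set G)) :
    B ≤ Subgroup.normalizer (X : Set G) := by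
  refine le_of_pp_le fun r _ => ?_
  by_cases hr : r = q
  · subst hr; exact hn
  · exact (pp_le_centralizer hB (Ne.symm hr)).trans
      ((Subgroup.centralizer_le hX).trans (centralizer_le_normalizer' X))

theorem no_comm_aux (h : Cfg A B) {p q : ℕ} [Fact p.Prime] [Fact q.Prime] {z x : G}
    (hz : z ∈ pp A p) (hzc : ∀ a ∈ A, a * z = z * a) (hz1 : z ≠ 1)
    (hx : x ∈ pp B q) (hx1 : x ≠ 1) (hc : z * x = x * z) : False := by
  have hpA := dvd_card_of_mem_pp h.nilA hz hz1
  obtain ⟨q₁, hq₁, hne, hq₁B⟩ := h.symm.exists_other q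
  have : Fact q₁.Prime := ⟨hq₁⟩
  have hBne : pp B q₁ ≠ ⊥ := pp_ne_bot h.nilB hq₁B
  obtain ⟨R, P, Q, hR, hP, hQ, hAP, hBQ, hRt, hRb, hRs⟩ := exists_R h (A₁ := Subgroup.zpowers z)
    (B₁ := pp B q₁) (p := p) (q := q₁) hpA hq₁B (by rwa [Subgroup.zpowers_le]) le_rfl (by
      refine le_trans ?_ (centralizer_le_normalizer' _)
      rw [Subgroup.zpowers_eq_closure, Subgroup.centralizer_closure]
      intro a ha
      rw [mem_centralizer_singleton]
      exact (hzc a ha).symm) (le_normalizer_pp B q₁)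
    (fun e => hBne (by rw [eq_bot_iff, ← e]; exact le_sup_right)) (by
      intro e
      apply centralizer_ne_top h.symm (pp_le B q hx) hx1
      rw [← top_le_iff, ← e]
      refine sup_le ?_ ?_
      · rw [Subgroup.zpowers_le, mem_centralizer_singleton]
        exact hc.symm
      · intro y hy
        rw [mem_centralizer_singleton]
        exact commute_pp h.nilB hne.symm hx hy)
  have hQ' : Q = pp B q₁ := le_antisymm hQ hBQ
  subst hQ'
  have hPR : P ≤ R := by
    intro y hy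
    rw [← SetLike.mem_coe, hR]
    exact ⟨y, hy, 1, Subgroup.one_mem _, mul_one y⟩
  have hQR : pp B q₁ ≤ R := by
    intro y hy
    rw [← SetLike.mem_coe, hR]
    exact ⟨1, Subgroup.one_mem _, y, hy, one_mul y⟩
  have hpq : p ≠ q₁ := by
    rintro rfl
    exact h.not_dvd Fact.out hpA hq₁B
  obtain ⟨X, hX, hXR, hRX, hor⟩ := exists_normal_le hRs hRb hR hpq
    ((isPGroup_pp h.nilA p).to_le hP) (isPGroup_pp h.nilB q₁)
  rcases hor with hXP | hXQ
  · exact not_normalize h.symm hq₁B hpA hX ((isPGroup_pp h.nilA p).to_le (hXP.trans hP))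
      (hQR.trans hRX)
  · refine no_overgroup h hzc hz1 (N := Subgroup.normalizer (X : Set G)) ?_ ?_ ?_
    · exact h.symm.normalizer_ne_top hX (h.symm.ne_top_of_le (hXQ.trans (pp_le B q₁)))
    · exact le_normalizer_of_le_pp h.nilB hXQ (hQR.trans hRX)
    · exact hRX (hPR (hAP (Subgroup.mem_zpowers z)))

/-- some power of a nontrivial element has prime order -/
theorem exists_pow_prime {z : G} (hz : z ≠ 1) : ∃ (p m : ℕ), p.Prime ∧ orderOf (z ^ m) = p := by
  have h1 : orderOf z ≠ 1 := fun e => hz (orderOf_eq_one_iff.mp e)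
  refine ⟨(orderOf z).minFac, orderOf z / (orderOf z).minFac, Nat.minFac_prime h1, ?_⟩
  exact orderOf_pow_orderOf_div (orderOf_pos z).ne' (Nat.minFac_dvd _)

/-- (6) -/
theorem no_comm (h : Cfg A B) {z x : G}
    (hz : z ∈ A) (hzc : ∀ a ∈ A, a * z = z * a) (hz1 : z ≠ 1)
    (hx : x ∈ B) (hx1 : x ≠ 1) (hc : z * x = x * z) : False := by
  obtain ⟨p, m, hp, hm⟩ := exists_pow_prime hz1
  obtain ⟨q, n, hq, hn⟩ := exists_pow_prime hx1
  have : Fact p.Prime := ⟨hp⟩
  have : Fact q.Prime := ⟨hq⟩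
  have hz1' : z ^ m ≠ 1 := by
    intro e
    rw [e, orderOf_one] at hm
    exact hp.one_lt.ne hm
  have hx1' : x ^ n ≠ 1 := by
    intro e
    rw [e, orderOf_one] at hn
    exact hq.one_lt.ne hn
  refine no_comm_aux h (p := p) (q := q) (z := z ^ m) (x := x ^ n)
    (mem_pp_of (A.pow_mem hz m) ⟨1, ?_⟩) ?_ hz1' (mem_pp_of (B.pow_mem hx n) ⟨1, ?_⟩) hx1' ?_
  · rw [pow_one, ← hm, pow_orderOf_eq_one]
  · intro a ha
    exact ((show Commute a z from hzc a ha).pow_right m).eq
  · rw [pow_one, ← hn, pow_orderOf_eq_one]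
  · exact ((show Commute z x from hc).pow_pow m n).eq

/-- (6') the centralizer of a nontrivial central element of `A` is `A` -/
theorem mem_of_comm (h : Cfg A B) {z g : G} (hz : z ∈ A) (hzc : ∀ a ∈ A, a * z = z * a)
    (hz1 : z ≠ 1) (hg : g * z = z * g) : g ∈ A := by
  obtain ⟨a, ha, b, hb, rfl⟩ := h.fac g
  by_cases hb1 : b = 1
  · rw [hb1, mul_one]; exact ha
  · exfalso
    refine no_comm h hz hzc hz1 hb hb1 ?_
    have h1 := hzc a ha
    have h2 : a * (b * z) = a * (z * b) := by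
      rw [← mul_assoc, hg, ← mul_assoc, ← mul_assoc, h1]
    exact (mul_left_cancel h2).symm

/-- (7c) -/
theorem mem_normalizer_pp (h : Cfg A B) {p r : ℕ} [Fact p.Prime] [Fact r.Prime] (hrp : r ≠ p)
    {z g : G} (hz : z ∈ pp A p) (hzc : ∀ a ∈ A, a * z = z * a) (hz1 : z ≠ 1)
    (hg : g * z * g⁻¹ ∈ A) : g ∈ Subgroup.normalizer (pp A r : Set G) := by
  have h0 : g * z * g⁻¹ ∈ pp A p := by
    refine mem_pp_of hg ?_
    obtain ⟨k, hk⟩ := ((mem_pp h.nilA).mp hz).2
    exact ⟨k, by rw [conj_pow, hk, mul_one, mul_inv_cancel]⟩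
  rw [← inv_inv g]
  refine Subgroup.inv_mem _ (mem_normalizer_of_conj_le ?_)
  intro y hy
  rw [conj_mem_iff, inv_inv] at hy
  -- `hy : g * y * g⁻¹ ∈ pp A r`
  have h1 : (g * z * g⁻¹) * (g * y * g⁻¹) = (g * y * g⁻¹) * (g * z * g⁻¹) :=
    commute_pp h.nilA hrp.symm h0 hy
  have h2 : y * z = z * y := by
    have h3 : g * (z * y) * g⁻¹ = g * (y * z) * g⁻¹ := by
      calc g * (z * y) * g⁻¹ = (g * z * g⁻¹) * (g * y * g⁻¹) := by group
        _ = (g * y * g⁻¹) * (g * z * g⁻¹) := h1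
        _ = g * (y * z) * g⁻¹ := by group
    exact (mul_left_cancel (mul_right_cancel h3)).symm
  have h4 : y ∈ A := mem_of_comm h (pp_le A p hz) hzc hz1 h2
  refine mem_pp_of h4 ?_
  obtain ⟨k, hk⟩ := ((mem_pp h.nilA).mp hy).2
  refine ⟨k, ?_⟩
  rw [conj_pow] at hk
  have h5 : g * y ^ r ^ k = g := mul_inv_eq_one.mp hk
  exact mul_eq_left.mp h5

/-- A nontrivial subgroup of `A` normalized by `A` contains a nontrivial central element. -/
theorem exists_central (h : Cfg A B) {X : Subgroup G} (hX : X ≠ ⊥) (hXA : X ≤ A)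
    (hn : A ≤ Subgroup.normalizer (X : Set G)) : ∃ z ∈ X, z ≠ 1 ∧ ∀ a ∈ A, a * z = z * a := by
  have := h.nilA
  have h1 : (X.subgroupOf A).Normal := (Subgroup.normal_subgroupOf_iff_le_normalizer hXA).mpr hn
  have h2 : X.subgroupOf A ≠ ⊥ := by
    rw [Ne, Subgroup.subgroupOf_eq_bot, disjoint_iff, inf_eq_left.mpr hXA]
    exact hX
  obtain ⟨z, hz, hz1, hzc⟩ := Cfsg.Agent.S0015.exists_mem_center_of_normal (X.subgroupOf A) h2
  refine ⟨z, hz, fun e => hz1 (Subtype.ext e), fun a ha => ?_⟩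
  exact congrArg Subtype.val (Subgroup.mem_center_iff.mp hzc ⟨a, ha⟩)

/-- (7a) -/
theorem normalizer_le_normalizer_pp_of_ne (h : Cfg A B) {p r : ℕ} [Fact p.Prime] [Fact r.Prime]
    (hrp : r ≠ p) {X : Subgroup G} (hX : X ≠ ⊥) (hXp : X ≤ pp A p)
    (hn : A ≤ Subgroup.normalizer (X : Set G)) :
    Subgroup.normalizer (X : Set G) ≤ Subgroup.normalizer (pp A r : Set G) := by
  obtain ⟨z, hz, hz1, hzc⟩ := exists_central h hX (hXp.trans (pp_le A p)) hn
  intro g hg
  exact mem_normalizer_pp h hrp (hXp hz) hzc hz1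
    (pp_le A p (hXp ((Subgroup.mem_normalizer_iff.mp hg z).mp hz)))

/-- (7) every proper overgroup of `A` normalizes `A` -/
theorem le_normalizer_of_le (h : Cfg A B) {L : Subgroup G} (hAL : A ≤ L) (hL : L ≠ ⊤) :
    L ≤ Subgroup.normalizer (A : Set G) := by
  have hf : Fac A B L := by
    intro g hg
    obtain ⟨a, ha, b, hb, rfl⟩ := h.fac g
    refine ⟨a, ⟨hAL ha, ha⟩, b, ⟨?_, hb⟩, rfl⟩
    have := L.mul_mem (L.inv_mem (hAL ha)) hg
    rwa [inv_mul_cancel_left] at this
  have hs := h.sol L hL hf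
  have hLb : L ≠ ⊥ := fun e => h.ne_bot (by rw [eq_bot_iff, ← e]; exact hAL)
  have hnt : Nontrivial L := (Subgroup.nontrivial_iff_ne_bot L).mpr hLb
  obtain ⟨r, N, hr, hNn, hNr, -, hNne⟩ := Cfsg.Agent.Lib.SolvableNormalP.exists_normal_pSubgroup L
  have : Fact r.Prime := ⟨hr⟩
  have hXR : N.map L.subtype ≤ L := Subgroup.map_subtype_le N
  have hXne : N.map L.subtype ≠ ⊥ := by
    rw [Ne, Subgroup.map_eq_bot_iff_of_injective _ L.subtype_injective]
    exact hNne
  have hRX : L ≤ Subgroup.normalizer ((N.map L.subtype : Subgroup G) : Set G) := by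
    have h1 := Subgroup.le_normalizer_map (H := N) L.subtype
    rw [Subgroup.normalizer_eq_top_iff.mpr hNn, ← MonoidHom.range_eq_map, Subgroup.range_subtype] at h1
    exact h1
  have hXr : IsPGroup r (N.map L.subtype) := hNr.map _
  generalize N.map L.subtype = X at hXR hXne hRX hXr
  have hrd : r ∣ Nat.card A * Nat.card B := by
    rw [← h.card_eq]
    have h1 : r ∣ Nat.card X := by
      obtain ⟨n, hn⟩ := IsPGroup.iff_card.mp hXr
      have h2 : n ≠ 0 := by
        rintro rfl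
        rw [pow_zero, Subgroup.card_eq_one] at hn
        exact hXne hn
      rw [hn]
      exact dvd_pow_self r h2
    exact h1.trans (Subgroup.card_subgroup_dvd_card X)
  rcases (Nat.Prime.dvd_mul hr).mp hrd with hrA | hrB
  · -- `X ≤ pp A r`
    have hXp : X ≤ pp A r := by
      refine le_of_normal_pGroup hXr hXR hRX (isPGroup_pp h.nilA r) ((pp_le A r).trans hAL) ?_
      intro hd
      exact h.not_dvd_index hrA (hd.trans (Subgroup.relIndex_dvd_index_of_le
        ((pp_le A r).trans hAL)))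
    obtain ⟨s, hs, hsr, hsA⟩ := h.exists_other r
    have : Fact s.Prime := ⟨hs⟩
    have h1 : L ≤ Subgroup.normalizer (pp A s : Set G) :=
      hRX.trans (normalizer_le_normalizer_pp_of_ne h hsr hXne hXp (hAL.trans hRX))
    have h2 : ∀ (t : ℕ) [Fact t.Prime], L ≤ Subgroup.normalizer (pp A t : Set G) := by
      intro t ht
      by_cases hts : t = s
      · subst hts; exact h1
      · exact h1.trans (normalizer_le_normalizer_pp_of_ne h hts (pp_ne_bot h.nilA hsA) le_rfl
          (le_normalizer_pp A s))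
    intro g hg
    refine mem_normalizer_of_conj_le (le_of_pp_le fun t _ => ?_)
    rw [← conj_pp, conj_smul_eq_iff.mpr (h2 t hg)]
    exact pp_le A t
  · exfalso
    obtain ⟨p, hp, -, hpA⟩ := h.exists_other 0
    have : Fact p.Prime := ⟨hp⟩
    exact not_normalize h hpA hrB hXne hXr ((pp_le A p).trans (hAL.trans hRX))

/-- (7d) -/
theorem normalizer_pp_le (h : Cfg A B) {p : ℕ} [Fact p.Prime] (hpA : p ∣ Nat.card A) :
    Subgroup.normalizer (pp A p : Set G) ≤ Subgroup.normalizer (A : Set G) :=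
  le_normalizer_of_le h (le_normalizer_pp A p)
    (h.normalizer_ne_top (pp_ne_bot h.nilA hpA) (h.ne_top_of_le (pp_le A p)))

/-- (7b) -/
theorem mem_normalizer (h : Cfg A B) {p : ℕ} [Fact p.Prime]
    {z g : G} (hz : z ∈ pp A p) (hzc : ∀ a ∈ A, a * z = z * a) (hz1 : z ≠ 1)
    (hg : g * z * g⁻¹ ∈ A) : g ∈ Subgroup.normalizer (A : Set G) := by
  obtain ⟨r, hr, hrp, hrA⟩ := h.exists_other p
  have : Fact r.Prime := ⟨hr⟩
  exact normalizer_pp_le h hrA (mem_normalizer_pp h hrp hz hzc hz1 hg)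

/-- (7e) `p`-elements of `N(A)`, `p` a divisor of `|A|`, lie in `A` -/
theorem mem_pp_of_mem_normalizer (h : Cfg A B) {p : ℕ} [Fact p.Prime] (hpA : p ∣ Nat.card A)
    {x : G} (hx : x ∈ Subgroup.normalizer (A : Set G)) (hk : ∃ k : ℕ, x ^ p ^ k = 1) :
    x ∈ pp A p := by
  have h1 : IsPGroup p (Subgroup.zpowers x) := by
    obtain ⟨k, hk⟩ := hk
    refine IsPGroup.of_card (n := (Nat.factorization (orderOf x)) p) ?_
    rw [Nat.card_zpowers]
    obtain ⟨m, -, hm⟩ := (Nat.dvd_prime_pow (Fact.out : p.Prime)).mp (orderOf_dvd_of_pow_eq_one hk)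
    rw [hm, Nat.Prime.factorization_pow (Fact.out : p.Prime)]
    simp
  have h2 : Subgroup.zpowers x ≤ Subgroup.normalizer (pp A p : Set G) := by
    rw [Subgroup.zpowers_le]
    exact normalizer_le_normalizer_pp A p hx
  have h3 : IsPGroup p (Subgroup.zpowers x ⊔ pp A p : Subgroup G) :=
    h1.to_sup_of_normal_right' (isPGroup_pp h.nilA p) h2
  have h4 := ((isPGroup_pp h.nilA p).toSylow (h.not_dvd_index hpA)).is_maximal' h3 le_sup_right
  have h5 : x ∈ (Subgroup.zpowers x ⊔ pp A p : Subgroup G) :=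
    (le_sup_left : Subgroup.zpowers x ≤ _) (Subgroup.mem_zpowers x)
  rw [h4] at h5
  exact h5

end Cfsg.Agent.SolvableStructure.WielandtLocal
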