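import Mathlib
import Cfsg.Agent.SolvableStructure.WielandtLocal
import Cfsg.Agent.S0023
import Cfsg.Agent.S0071

/-!
Core of Wielandt's theorem: a finite simple group is not the product of two nilpotent subgroups of
coprime orders, each order divisible by two primes, if all proper factorized subgroups are solvable.
-/

set_option autoImplicit false
open Pointwise

namespace Cfsg.Agent.SolvableStructure.WielandtCore

open Cfsg.Agent.SolvableStructure.PrimaryPart Cfsg.Agent.SolvableStructure.WielandtCfg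
open Cfsg.Agent.SolvableStructure.WielandtLocal

variable {G : Type*} [Group G] [Finite G] {A B : Subgroup G}

omit [Finite G] in
/-- centralizers of elements normalizing `A` are factorized. -/
theorem fac_centralizer (h : Cfg A B) {x : G} (hx : x ∈ B)
    (hxA : x ∈ Subgroup.normalizer (A : Set G)) : Fac A B (Subgroup.centralizer ({x} : Set G)) := by
  intro g hg
  rw [mem_centralizer_singleton] at hg
  obtain ⟨a, ha, b, hb, rfl⟩ := h.fac g
  -- `b x b⁻¹ = a⁻¹ x a`
  have h1 : b * x * b⁻¹ = a⁻¹ * x * a := by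
    calc b * x * b⁻¹ = a⁻¹ * (a * b * x) * b⁻¹ := by group
      _ = a⁻¹ * (x * (a * b)) * b⁻¹ := by rw [hg]
      _ = a⁻¹ * x * a := by group
  have h2 : x⁻¹ * (b * x * b⁻¹) ∈ B :=
    B.mul_mem (B.inv_mem hx) (B.mul_mem (B.mul_mem hb hx) (B.inv_mem hb))
  have h3 : x⁻¹ * (b * x * b⁻¹) ∈ A := by
    rw [h1]
    have h4 : x⁻¹ * a⁻¹ * x ∈ A := by
      have := (Subgroup.mem_normalizer_iff''.mp hxA a⁻¹).mp (A.inv_mem ha)
      exact this
    have h5 : x⁻¹ * (a⁻¹ * x * a) = (x⁻¹ * a⁻¹ * x) * a := by group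
    rw [h5]
    exact A.mul_mem h4 ha
  have h4 : x⁻¹ * (b * x * b⁻¹) = 1 := by
    have : x⁻¹ * (b * x * b⁻¹) ∈ A ⊓ B := ⟨h3, h2⟩
    rwa [h.inf_eq_bot, Subgroup.mem_bot] at this
  have h5 : b * x * b⁻¹ = x := (inv_mul_eq_one.mp h4).symm
  have h6 : x * b = b * x := by
    calc x * b = (b * x * b⁻¹) * b := by rw [h5]
      _ = b * x := by group
  have h7 : x * a = a * x := by
    rw [h5] at h1
    calc x * a = a * (a⁻¹ * x * a) := by group
      _ = a * x := by rw [← h1]
  exact ⟨a, ⟨mem_centralizer_singleton.mpr h7, ha⟩, b, ⟨mem_centralizer_singleton.mpr h6, hb⟩, rfl⟩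

/-- (8) -/
theorem comm_mem (h : Cfg A B) {p q : ℕ} [Fact p.Prime] [Fact q.Prime] {x y : G}
    (hx : x ∈ pp B q) (hx1 : x ≠ 1) (hxA : x ∈ Subgroup.normalizer (A : Set G))
    (hy : y ∈ pp A p) (hc : x * y = y * x) : y ∈ Subgroup.normalizer (B : Set G) := by
  by_cases hy1 : y = 1
  · rw [hy1]; exact Subgroup.one_mem _
  have hpA := dvd_card_of_mem_pp h.nilA hy hy1
  have hf := fac_centralizer h (pp_le B q hx) hxA
  have ht := centralizer_ne_top h.symm (pp_le B q hx) hx1
  have hs := h.sol _ ht hf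
  obtain ⟨q₁, hq₁, hne, hq₁B⟩ := h.symm.exists_other q
  have : Fact q₁.Prime := ⟨hq₁⟩
  obtain ⟨R, hRL, hR⟩ := h.perm hs hf hpA hq₁B (p := p) (q := q₁)
  have h1 : Subgroup.centralizer ({x} : Set G) ⊓ pp B q₁ = pp B q₁ := by
    rw [inf_eq_right]
    intro y hy
    rw [mem_centralizer_singleton]
    exact commute_pp h.nilB hne.symm hx hy
  rw [h1] at hR
  have hQR : pp B q₁ ≤ R := by
    intro y hy
    rw [← SetLike.mem_coe, hR]
    exact ⟨1, Subgroup.one_mem _, y, hy, one_mul y⟩
  have hRb : R ≠ ⊥ := by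
    intro e
    exact pp_ne_bot h.nilB hq₁B (by rw [eq_bot_iff, ← e]; exact hQR)
  have hRs : Group.IsSolvable R := by
    have := hs
    exact Group.isSolvable_of_isSolvable_injective (f := Subgroup.inclusion hRL)
      (Subgroup.inclusion_injective hRL)
  have hpq : p ≠ q₁ := by
    rintro rfl
    exact h.not_dvd Fact.out hpA hq₁B
  obtain ⟨X, hX, hXR, hRX, hor⟩ := exists_normal_le hRs hRb hR hpq
    ((isPGroup_pp h.nilA p).to_le inf_le_right) (isPGroup_pp h.nilB q₁)
  rcases hor with hXP | hXQ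
  · exact (not_normalize h.symm hq₁B hpA hX
      ((isPGroup_pp h.nilA p).to_le (hXP.trans inf_le_right)) (hQR.trans hRX)).elim
  · have h2 : Subgroup.normalizer (X : Set G) ≤ Subgroup.normalizer (B : Set G) :=
      WielandtLocal.le_normalizer_of_le h.symm (le_normalizer_of_le_pp h.nilB hXQ (hQR.trans hRX))
        (h.symm.normalizer_ne_top hX (h.symm.ne_top_of_le (hXQ.trans (pp_le B q₁))))
    refine h2 (hRX ?_)
    rw [← SetLike.mem_coe, hR]
    exact ⟨y, ⟨mem_centralizer_singleton.mpr hc, hy⟩, 1, Subgroup.one_mem _, mul_one y⟩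

/-- (8'') -/
theorem centralizer_le (h : Cfg A B) {p : ℕ} [Fact p.Prime] {y : G} (hy : y ∈ pp A p)
    (hy1 : y ≠ 1) (hyB : y ∈ Subgroup.normalizer (B : Set G)) :
    Subgroup.centralizer ({y} : Set G) ≤ Subgroup.normalizer (A : Set G) := by
  have hf := fac_centralizer h.symm (pp_le A p hy) hyB
  have h1 : Subgroup.centralizer ({y} : Set G) ⊓ B ≤ Subgroup.normalizer (A : Set G) := by
    refine le_of_primary fun q _ x hx hk => ?_
    exact comm_mem h.symm hy hy1 hyB (mem_pp_of hx.2 hk) (mem_centralizer_singleton.mp hx.1)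
  intro g hg
  obtain ⟨b, hb, a, ha, rfl⟩ := hf g hg
  exact Subgroup.mul_mem _ (h1 hb) (Subgroup.le_normalizer ha.2)

theorem isPGroup_zpowers {p : ℕ} [Fact p.Prime] {x : G} (hk : ∃ k : ℕ, x ^ p ^ k = 1) :
    IsPGroup p (Subgroup.zpowers x) := by
  obtain ⟨k, hk⟩ := hk
  refine IsPGroup.of_card (n := (Nat.factorization (orderOf x)) p) ?_
  rw [Nat.card_zpowers]
  obtain ⟨m, -, hm⟩ := (Nat.dvd_prime_pow (Fact.out : p.Prime)).mp (orderOf_dvd_of_pow_eq_one hk)
  rw [hm, Nat.Prime.factorization_pow (Fact.out : p.Prime)]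
  simp

omit [Finite G] in
theorem mem_centralizer_conj {d g a : G} :
    g ∈ Subgroup.centralizer ({a⁻¹ * d * a} : Set G) ↔
      a * g * a⁻¹ ∈ Subgroup.centralizer ({d} : Set G) := by
  rw [mem_centralizer_singleton, mem_centralizer_singleton]
  constructor
  · intro e
    calc d * (a * g * a⁻¹) = a * ((a⁻¹ * d * a) * g) * a⁻¹ := by group
      _ = a * (g * (a⁻¹ * d * a)) * a⁻¹ := by rw [e]
      _ = a * g * a⁻¹ * d := by group
  · intro e
    calc (a⁻¹ * d * a) * g = a⁻¹ * (d * (a * g * a⁻¹)) * a := by group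
      _ = a⁻¹ * ((a * g * a⁻¹) * d) * a := by rw [e]
      _ = g * (a⁻¹ * d * a) := by group

/-- (c) if `C(d)` is not inside `N(A)` then `C(d) ∩ N(A) ≤ A`. -/
theorem inf_normalizer_le (h : Cfg A B) {p : ℕ} [Fact p.Prime] {d : G} (hd : d ∈ pp A p)
    (hd1 : d ≠ 1) (hC : ¬ Subgroup.centralizer ({d} : Set G) ≤ Subgroup.normalizer (A : Set G)) :
    Subgroup.centralizer ({d} : Set G) ⊓ Subgroup.normalizer (A : Set G) ≤ A := by
  refine le_of_primary fun t ht x hx hk => ?_
  by_cases htA : t ∣ Nat.card A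
  · exact pp_le A t (mem_pp_of_mem_normalizer h htA hx.2 hk)
  by_cases htB : t ∣ Nat.card B
  · by_cases hx1 : x = 1
    · rw [hx1]; exact A.one_mem
    exfalso
    apply hC
    obtain ⟨g, hg⟩ := h.symm.exists_conj_ge htB (isPGroup_zpowers hk)
    obtain ⟨a, ha, b, hb, rfl⟩ := h.fac g
    have h2 : MulAut.conj b • pp B t = pp B t := conj_smul_eq_iff.mpr (le_normalizer_pp B t hb)
    rw [map_mul, mul_smul, h2] at hg
    have h3 : a⁻¹ * x * a ∈ pp B t := conj_mem_iff.mp (hg (Subgroup.mem_zpowers x))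
    have h4 : a⁻¹ * d * a ∈ pp A p :=
      (Subgroup.mem_normalizer_iff''.mp (le_normalizer_pp A p ha) d).mp hd
    have h5 : a⁻¹ * x * a ∈ Subgroup.normalizer (A : Set G) :=
      Subgroup.mul_mem _ (Subgroup.mul_mem _ (Subgroup.inv_mem _ (Subgroup.le_normalizer ha)) hx.2)
        (Subgroup.le_normalizer ha)
    have h6 : a⁻¹ * x * a ≠ 1 := by
      intro e
      apply hx1
      have : x = a * (a⁻¹ * x * a) * a⁻¹ := by group
      rw [this, e]; group
    have h7 : a⁻¹ * d * a ≠ 1 := by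
      intro e
      apply hd1
      have : d = a * (a⁻¹ * d * a) * a⁻¹ := by group
      rw [this, e]; group
    have h8 : (a⁻¹ * x * a) * (a⁻¹ * d * a) = (a⁻¹ * d * a) * (a⁻¹ * x * a) := by
      have := mem_centralizer_singleton.mp hx.1
      calc (a⁻¹ * x * a) * (a⁻¹ * d * a) = a⁻¹ * (x * d) * a := by group
        _ = a⁻¹ * (d * x) * a := by rw [this]
        _ = (a⁻¹ * d * a) * (a⁻¹ * x * a) := by group
    have h9 := comm_mem h h3 h6 h5 h4 h8
    have h10 := centralizer_le h h4 h7 h9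
    intro g hg
    have h11 : a⁻¹ * g * a ∈ Subgroup.normalizer (A : Set G) := by
      apply h10
      rw [mem_centralizer_conj]
      have : a * (a⁻¹ * g * a) * a⁻¹ = g := by group
      rwa [this]
    have h12 : g = a * (a⁻¹ * g * a) * a⁻¹ := by group
    rw [h12]
    exact Subgroup.mul_mem _ (Subgroup.mul_mem _ (Subgroup.le_normalizer ha) h11)
      (Subgroup.inv_mem _ (Subgroup.le_normalizer ha))
  · have h1 : ¬ t ∣ Nat.card (⊤ : Subgroup G) := by
      rw [Subgroup.card_top, h.card_eq]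
      intro h2
      rcases (Nat.Prime.dvd_mul Fact.out).mp h2 with h3 | h3
      · exact htA h3
      · exact htB h3
    rw [eq_one_of_not_dvd h1 (Subgroup.mem_top x) hk]
    exact A.one_mem

/-- there is a nontrivial central element of `A` inside `pp A p` -/
theorem exists_central_pp (h : Cfg A B) {p : ℕ} [Fact p.Prime] (hpA : p ∣ Nat.card A) :
    ∃ z ∈ pp A p, z ≠ 1 ∧ ∀ a ∈ A, a * z = z * a :=
  exists_central h (pp_ne_bot h.nilA hpA) (pp_le A p) (le_normalizer_pp A p)

/-- `V = pp A p ⊓ C(d)`: its normalizer lies in `N(A)`. -/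
theorem normalizer_V_le (h : Cfg A B) {p : ℕ} [Fact p.Prime] {d : G} (hd : d ∈ pp A p)
    (hd1 : d ≠ 1) :
    Subgroup.normalizer ((pp A p ⊓ Subgroup.centralizer ({d} : Set G) : Subgroup G) : Set G) ≤
      Subgroup.normalizer (A : Set G) := by
  obtain ⟨z, hz, hz1, hzc⟩ := exists_central_pp h (dvd_card_of_mem_pp h.nilA hd hd1) (p := p)
  intro g hg
  have hzV : z ∈ pp A p ⊓ Subgroup.centralizer ({d} : Set G) :=
    ⟨hz, mem_centralizer_singleton.mpr (hzc d (pp_le A p hd))⟩
  have h1 := (Subgroup.mem_normalizer_iff.mp hg z).mp hzV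
  exact mem_normalizer h hz hzc hz1 (pp_le A p h1.1)

omit [Finite G] in
/-- In a nilpotent subgroup `P`, a proper subgroup `D` of `P` is properly contained in
`P ⊓ N(D)`. -/
theorem lt_inf_normalizer {P D : Subgroup G} (hP : Group.IsNilpotent P)
    (hD : D < P) : D < P ⊓ Subgroup.normalizer (D : Set G) := by
  have := hP
  have hne : D.subgroupOf P < ⊤ := by
    rw [lt_top_iff_ne_top, Ne, Subgroup.subgroupOf_eq_top]
    exact not_le_of_gt hD
  have h1 := Group.normalizerCondition_of_isNilpotent (G := P) _ hne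
  rw [← Subgroup.subgroupOf_normalizer_eq hD.le] at h1
  obtain ⟨x, hx, hx'⟩ := SetLike.exists_of_lt h1
  refine lt_of_le_of_ne (le_inf hD.le Subgroup.le_normalizer) ?_
  intro h
  apply hx'
  rw [Subgroup.mem_subgroupOf, h]
  exact Subgroup.mem_inf.2 ⟨x.2, hx⟩

/-- `V = pp A p ⊓ C(d)` is a maximal `p`-subgroup of `C(d)`. -/
theorem V_maximal (h : Cfg A B) {p : ℕ} [Fact p.Prime] {d : G} (hd : d ∈ pp A p)
    (hd1 : d ≠ 1) {S : Subgroup G} (hS : IsPGroup p S)
    (hSC : S ≤ Subgroup.centralizer ({d} : Set G))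
    (hVS : pp A p ⊓ Subgroup.centralizer ({d} : Set G) ≤ S) :
    S = pp A p ⊓ Subgroup.centralizer ({d} : Set G) := by
  by_contra hne
  have hlt : pp A p ⊓ Subgroup.centralizer ({d} : Set G) < S := lt_of_le_of_ne hVS (Ne.symm hne)
  have hSn : Group.IsNilpotent S := hS.isNilpotent
  have h1 := lt_inf_normalizer hSn hlt
  obtain ⟨x, hx, hxV⟩ := SetLike.exists_of_lt h1
  apply hxV
  refine ⟨?_, hSC hx.1⟩
  refine mem_pp_of_mem_normalizer h (dvd_card_of_mem_pp h.nilA hd hd1)
    (normalizer_V_le h hd hd1 hx.2) ?_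
  obtain ⟨k, hk⟩ := hS ⟨x, hx.1⟩
  exact ⟨k, congrArg Subtype.val hk⟩

/-- the Sylow trick -/
theorem exists_conj_V (h : Cfg A B) {p : ℕ} [Fact p.Prime] {d : G} (hd : d ∈ pp A p)
    (hd1 : d ≠ 1) {F : Subgroup G} (hFC : F ≤ Subgroup.centralizer ({d} : Set G))
    (hVF : pp A p ⊓ Subgroup.centralizer ({d} : Set G) ≤ F) {g : G}
    (hgF : MulAut.conj g • (pp A p ⊓ Subgroup.centralizer ({d} : Set G)) ≤ F) :
    ∃ c ∈ F, c * g ∈ Subgroup.normalizer (A : Set G) := by
  set V : Subgroup G := pp A p ⊓ Subgroup.centralizer ({d} : Set G) with hV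
  have hVp : IsPGroup p V := (isPGroup_pp h.nilA p).to_le inf_le_left
  have hVFp : IsPGroup p (V.subgroupOf F) := hVp.comap_of_injective F.subtype F.subtype_injective
  let VS : Sylow p F := ⟨V.subgroupOf F, hVFp, by
    intro Q hQ hVQ
    have h1 : Q.map F.subtype = V := by
      refine V_maximal h hd hd1 (hQ.map _) ((Subgroup.map_subtype_le Q).trans hFC) ?_
      have := Subgroup.map_mono (f := F.subtype) hVQ
      rwa [Subgroup.subgroupOf_map_subtype, inf_eq_left.mpr hVF] at this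
    rw [← h1, Subgroup.subgroupOf, Subgroup.comap_map_eq_self_of_injective F.subtype_injective]⟩
  have hgp : IsPGroup p ((MulAut.conj g • V).subgroupOf F) := by
    refine IsPGroup.comap_of_injective ?_ F.subtype F.subtype_injective
    exact hVp.map _
  obtain ⟨Q, hQ⟩ := hgp.exists_le_sylow
  obtain ⟨f, hf⟩ := MulAction.exists_smul_eq F VS Q
  refine ⟨(f : G)⁻¹, F.inv_mem f.2, ?_⟩
  apply normalizer_V_le h hd hd1
  apply mem_normalizer_of_conj_le
  rw [map_mul, mul_smul, map_inv, Subgroup.pointwise_smul_subset_iff, inv_inv]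
  intro x hx
  have h1 : (⟨x, hgF hx⟩ : F) ∈ (Q : Subgroup F) := hQ (by rw [Subgroup.mem_subgroupOf]; exact hx)
  rw [← hf] at h1
  have h2 : (⟨x, hgF hx⟩ : F) ∈ MulAut.conj f • (VS : Subgroup F) := h1
  rw [conj_mem_iff] at h2
  rw [conj_mem_iff]
  exact h2

/-- An element of a nilpotent subgroup `A`: some `r`-power power centralizes `pp A r`. -/
theorem exists_pow_centralizes (hA : Group.IsNilpotent A) {r : ℕ} [Fact r.Prime] {m : G}
    (hm : m ∈ A) : ∃ k : ℕ, ∀ t ∈ pp A r, m ^ r ^ k * t = t * m ^ r ^ k := by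
  have hr : r.Prime := Fact.out
  refine ⟨(Nat.card A).factorization r, fun t ht => ?_⟩
  obtain ⟨htA, l, hl⟩ := (mem_pp hA).mp ht
  have := hA
  have h1 : Commute ((⟨m, hm⟩ : A) ^ r ^ (Nat.card A).factorization r) (⟨t, htA⟩ : A) := by
    refine Cfsg.Agent.Lib.NilpotentCoprime.commute_of_pow_eq_one
      (m := Nat.card A / r ^ (Nat.card A).factorization r) (n := r ^ l) ?_ ?_ (Subtype.ext hl)
    · exact (Nat.Coprime.pow_left _ (Nat.coprime_ordCompl hr Nat.card_pos.ne')).symm
    · rw [← pow_mul, Nat.ordProj_mul_ordCompl_eq_self]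
      exact pow_card_eq_one'
  exact congrArg Subtype.val h1.eq

/-- (9) -/
theorem centralizer_le_normalizer (h : Cfg A B) {p : ℕ} [Fact p.Prime] {d : G} (hd : d ∈ pp A p)
    (hd1 : d ≠ 1) : Subgroup.centralizer ({d} : Set G) ≤ Subgroup.normalizer (A : Set G) := by
  by_contra hC
  have hp : p.Prime := Fact.out
  have hpA := dvd_card_of_mem_pp h.nilA hd hd1
  have hCA := inf_normalizer_le h hd hd1 hC
  obtain ⟨r, hr, hrp, hrA⟩ := h.exists_other p
  have : Fact r.Prime := ⟨hr⟩
  have hArC : ∀ (t : ℕ) [Fact t.Prime], t ≠ p → pp A t ≤ Subgroup.centralizer ({d} : Set G) := by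
    intro t _ htp y hy
    rw [mem_centralizer_singleton]
    exact commute_pp h.nilA htp.symm hd hy
  set C : Subgroup G := Subgroup.centralizer ({d} : Set G) with hCdef
  -- local condition
  have key : ∀ Q : Subgroup G, Q ≤ pp A r → ∀ g ∈ C, g ∈ Subgroup.normalizer (Q : Set G) →
      (orderOf g).Coprime r → g ∈ Subgroup.centralizer (Q : Set G) := by
    intro Q hQ g hgC hgQ hgr
    have hVF : pp A p ⊓ C ≤ C ⊓ Subgroup.centralizer (Q : Set G) := by
      refine le_inf inf_le_right (inf_le_left.trans ?_)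
      exact (pp_le_centralizer h.nilA hrp).trans (Subgroup.centralizer_le hQ)
    have hgF : MulAut.conj g • (pp A p ⊓ C) ≤ C ⊓ Subgroup.centralizer (Q : Set G) := by
      intro x hx
      rw [conj_mem_iff] at hx
      have h1 := hVF hx
      have e : x = g * (g⁻¹ * x * g) * g⁻¹ := by group
      refine Subgroup.mem_inf.mpr ⟨?_, ?_⟩
      · rw [e]
        exact C.mul_mem (C.mul_mem hgC h1.1) (C.inv_mem hgC)
      · rw [Subgroup.mem_centralizer_iff]
        intro t ht
        have h2 : g⁻¹ * t * g ∈ Q := (Subgroup.mem_normalizer_iff''.mp hgQ t).mp ht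
        have h3 := Subgroup.mem_centralizer_iff.mp h1.2 _ h2
        calc t * x = g * ((g⁻¹ * t * g) * (g⁻¹ * x * g)) * g⁻¹ := by group
          _ = g * ((g⁻¹ * x * g) * (g⁻¹ * t * g)) * g⁻¹ := by rw [h3]
          _ = x * t := by group
    obtain ⟨c, hc, hcg⟩ := exists_conj_V h hd hd1 (F := C ⊓ Subgroup.centralizer (Q : Set G))
      inf_le_left hVF hgF
    have hmA : c * g ∈ A := hCA ⟨C.mul_mem hc.1 hgC, hcg⟩
    -- action of `m = c * g` on `Q` is that of `g`
    have hact : ∀ t ∈ Q, (c * g) * t * (c * g)⁻¹ = g * t * g⁻¹ := by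
      intro t ht
      have h1 : g * t * g⁻¹ ∈ Q := (Subgroup.mem_normalizer_iff.mp hgQ t).mp ht
      have h2 := Subgroup.mem_centralizer_iff.mp hc.2 _ h1
      calc (c * g) * t * (c * g)⁻¹ = (c * (g * t * g⁻¹)) * c⁻¹ := by group
        _ = ((g * t * g⁻¹) * c) * c⁻¹ := by rw [h2]
        _ = g * t * g⁻¹ := by group
    have hactn : ∀ (n : ℕ), ∀ t ∈ Q, (c * g) ^ n * t * ((c * g) ^ n)⁻¹ = g ^ n * t * (g ^ n)⁻¹ := by
      intro n
      induction n with
      | zero => intro t _; simp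
      | succ n ih =>
        intro t ht
        have h1 : g * t * g⁻¹ ∈ Q := (Subgroup.mem_normalizer_iff.mp hgQ t).mp ht
        calc (c * g) ^ (n + 1) * t * ((c * g) ^ (n + 1))⁻¹
            = (c * g) ^ n * ((c * g) * t * (c * g)⁻¹) * ((c * g) ^ n)⁻¹ := by
              rw [pow_succ]; group
          _ = (c * g) ^ n * (g * t * g⁻¹) * ((c * g) ^ n)⁻¹ := by rw [hact t ht]
          _ = g ^ n * (g * t * g⁻¹) * (g ^ n)⁻¹ := ih _ h1
          _ = g ^ (n + 1) * t * (g ^ (n + 1))⁻¹ := by rw [pow_succ]; group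
    obtain ⟨k, hk⟩ := exists_pow_centralizes h.nilA (r := r) hmA
    rw [Subgroup.mem_centralizer_iff]
    intro t ht
    -- `m` commutes with `t`
    have h1 : Commute ((c * g) ^ r ^ k) t := hk t (hQ ht)
    have h2 : Commute ((c * g) ^ orderOf g) t := by
      have := hactn (orderOf g) t ht
      rw [pow_orderOf_eq_one g, one_mul, inv_one, mul_one] at this
      exact mul_inv_eq_iff_eq_mul.mp this
    have h3 : (r ^ k).Coprime (orderOf g) := Nat.Coprime.pow_left k hgr.symm
    have h4 : Commute (c * g) t := by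
      have hb := Nat.gcd_eq_gcd_ab (r ^ k) (orderOf g)
      rw [Nat.coprime_iff_gcd_eq_one.mp h3] at hb
      have h5 : (c * g) = ((c * g) ^ r ^ k) ^ (Nat.gcdA (r ^ k) (orderOf g)) *
          ((c * g) ^ orderOf g) ^ (Nat.gcdB (r ^ k) (orderOf g)) := by
        rw [← zpow_natCast, ← zpow_natCast, ← zpow_mul, ← zpow_mul, ← zpow_add, ← hb]
        simp
      rw [h5]
      exact (h1.zpow_left _).mul_left (h2.zpow_left _)
    have h5 := hact t ht
    rw [h4.eq, mul_inv_cancel_right] at h5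
    -- `t = g t g⁻¹`
    calc t * g = (g * t * g⁻¹) * g := by rw [← h5]
      _ = g * t := by group
  -- Sylow `r`-subgroup of `C`
  have hrC : ∀ (t : ℕ) [Fact t.Prime], t ∣ Nat.card A → t ≠ p →
      ¬ t ∣ ((pp A t).subgroupOf C).index := by
    intro t _ htA htp hd'
    exact h.not_dvd_index htA (hd'.trans (Subgroup.relIndex_dvd_index_of_le (hArC t htp)))
  have hrP : ∀ (t : ℕ) [Fact t.Prime], IsPGroup t ((pp A t).subgroupOf C) := fun t _ =>
    (isPGroup_pp h.nilA t).comap_of_injective C.subtype C.subtype_injective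
  let P : Sylow r C := (hrP r).toSylow (hrC r hrA hrp)
  have hPdef : (P : Subgroup C) = (pp A r).subgroupOf C := rfl
  obtain ⟨N, hN, hNP⟩ := (Cfsg.Agent.S0071.result P).mpr (by
    intro Q hQ g hg hgr
    rw [Subgroup.mem_centralizer_iff]
    intro t ht
    have hQ' : Q.map C.subtype ≤ pp A r := by
      have := Subgroup.map_mono (f := C.subtype) hQ
      rw [hPdef, Subgroup.subgroupOf_map_subtype] at this
      exact this.trans inf_le_left
    have h1 : (g : G) ∈ Subgroup.normalizer ((Q.map C.subtype : Subgroup G) : Set G) :=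
      Subgroup.le_normalizer_map C.subtype ⟨g, hg, rfl⟩
    have h2 := key _ hQ' g g.2 h1 (by rwa [Subgroup.orderOf_coe])
    rw [Subgroup.mem_centralizer_iff] at h2
    exact Subtype.ext (h2 t ⟨t, ht, rfl⟩))
  -- a prime divisor `q` of `|B|` divides `|C|`
  have hq : ∃ q : ℕ, q.Prime ∧ q ∣ Nat.card B ∧ q ∣ Nat.card C := by
    by_contra hcon
    push Not at hcon
    apply hC
    have h1 : A.subgroupOf C = ⊤ := by
      refine Cfsg.Agent.Lib.Cores.eq_top_of_sylow_le fun t ht => ?_
      by_cases htA : t ∣ Nat.card A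
      · by_cases htp : t = p
        · subst htp
          have hVFp : IsPGroup t ((pp A t ⊓ C).subgroupOf C) :=
            ((isPGroup_pp h.nilA t).to_le inf_le_left).comap_of_injective C.subtype
              C.subtype_injective
          refine ⟨⟨(pp A t ⊓ C).subgroupOf C, hVFp, ?_⟩, ?_⟩
          · intro Q hQ hVQ
            have h1 : Q.map C.subtype = pp A t ⊓ C := by
              refine V_maximal h hd hd1 (hQ.map _) (Subgroup.map_subtype_le Q) ?_
              have := Subgroup.map_mono (f := C.subtype) hVQ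
              rwa [Subgroup.subgroupOf_map_subtype, inf_assoc, inf_idem] at this
            rw [← h1, Subgroup.subgroupOf, Subgroup.comap_map_eq_self_of_injective
              C.subtype_injective]
          · exact Subgroup.comap_mono (inf_le_left.trans (pp_le A t))
        · exact ⟨(hrP t).toSylow (hrC t htA htp), Subgroup.comap_mono (pp_le A t)⟩
      · have htC : ¬ t ∣ Nat.card C := by
          by_cases htB : t ∣ Nat.card B
          · exact hcon t ht.out htB
          · intro htC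
            have h2 := htC.trans (Subgroup.card_subgroup_dvd_card C)
            rw [h.card_eq] at h2
            rcases (Nat.Prime.dvd_mul ht.out).mp h2 with h3 | h3
            · exact htA h3
            · exact htB h3
        obtain ⟨Q⟩ : Nonempty (Sylow t C) := inferInstance
        refine ⟨Q, ?_⟩
        have h2 : (Q : Subgroup C) = ⊥ := by
          rw [← Subgroup.card_eq_one, Q.card_eq_multiplicity,
            Nat.factorization_eq_zero_of_not_dvd htC, pow_zero]
        rw [h2]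
        exact bot_le
    exact (Subgroup.subgroupOf_eq_top.mp h1).trans Subgroup.le_normalizer
  obtain ⟨q, hqp, hqB, hqC⟩ := hq
  have : Fact q.Prime := ⟨hqp⟩
  have hqr : q ≠ r := by
    rintro rfl
    exact h.not_dvd hqp hrA hqB
  -- the normal complement as a subgroup of `G`
  have hcardK : Nat.card (N.map C.subtype) = Nat.card N :=
    Nat.card_congr (N.equivMapOfInjective C.subtype C.subtype_injective).symm.toEquiv
  have hcardC : Nat.card N * Nat.card (P : Subgroup C) = Nat.card C := hNP.card_mul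
  have hrN : ¬ r ∣ Nat.card N := by
    have h1 : (P : Subgroup C).index = Nat.card N := hNP.index_eq_card
    rw [← h1]
    exact hrC r hrA hrp
  have hCK : C ≤ Subgroup.normalizer ((N.map C.subtype : Subgroup G) : Set G) := by
    have h1 := Subgroup.le_normalizer_map (H := N) C.subtype
    rw [Subgroup.normalizer_eq_top_iff.mpr hN, ← MonoidHom.range_eq_map, Subgroup.range_subtype] at h1
    exact h1
  have hqN : q ∣ Nat.card N := by
    rw [← hcardC] at hqC
    rcases (Nat.Prime.dvd_mul hqp).mp hqC with h1 | h1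
    · exact h1
    · exfalso
      obtain ⟨n, hn⟩ := IsPGroup.iff_card.mp (hrP r)
      rw [hPdef, hn] at h1
      exact hqr ((Nat.prime_dvd_prime_iff_eq hqp hr).mp (hqp.dvd_of_dvd_pow h1))
  obtain ⟨n, hn⟩ := IsPGroup.iff_card.mp (isPGroup_pp h.nilA r)
  obtain ⟨Y, hY⟩ := Cfsg.Agent.S0023.result (pp A r) (N.map C.subtype) ((hArC r hrp).trans hCK)
    (by
      rw [hcardK, hn]
      exact Nat.Coprime.pow_left n ((Nat.Prime.coprime_iff_not_dvd hr).mpr hrN))
    (Or.inl (by
      have : Group.IsNilpotent (pp A r) := (isPGroup_pp h.nilA r).isNilpotent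
      infer_instance)) q
  refine not_normalize h hrA hqB (Y := (Y : Subgroup (N.map C.subtype)).map
    (N.map C.subtype).subtype) ?_ (Y.isPGroup'.map _) hY
  rw [Ne, Subgroup.map_eq_bot_iff_of_injective _ (Subgroup.subtype_injective _)]
  exact Y.ne_bot_of_dvd_card (by rw [hcardK]; exact hqN)

/-- (10a) -/
theorem inf_conj_eq_bot (h : Cfg A B) {g : G} (hg : g ∉ Subgroup.normalizer (A : Set G)) :
    A ⊓ MulAut.conj g • A = ⊥ := by
  rw [eq_bot_iff]
  intro x hx
  rw [Subgroup.mem_bot]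
  by_contra hx1
  obtain ⟨p, m, hp, hm⟩ := exists_pow_prime hx1
  have : Fact p.Prime := ⟨hp⟩
  have hd1 : x ^ m ≠ 1 := by
    intro e
    rw [e, orderOf_one] at hm
    exact hp.one_lt.ne hm
  have hk : ∃ k : ℕ, (x ^ m) ^ p ^ k = 1 := ⟨1, by rw [pow_one, ← hm, pow_orderOf_eq_one]⟩
  have hd : x ^ m ∈ pp A p := mem_pp_of (A.pow_mem hx.1 m) hk
  have hd' : x ^ m ∈ MulAut.conj g • pp A p := by
    rw [conj_pp]
    exact mem_pp_of (Subgroup.pow_mem _ hx.2 m) hk
  have hC := centralizer_le_normalizer h hd hd1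
  obtain ⟨r, hr, hrp, hrA⟩ := h.exists_other p
  have : Fact r.Prime := ⟨hr⟩
  apply hg
  apply normalizer_pp_le h hrA
  apply mem_normalizer_of_conj_le
  intro y hy
  have hy' := hy
  rw [conj_pp] at hd' hy
  have h1 : y ∈ Subgroup.normalizer (A : Set G) := by
    apply hC
    rw [mem_centralizer_singleton]
    exact commute_pp (isNilpotent_conj h.nilA g) hrp.symm hd' hy
  exact mem_pp_of_mem_normalizer h hrA h1 ((mem_pp (isNilpotent_conj h.nilA g)).mp hy).2

/-- (10b) -/
theorem card_le (h : Cfg A B) : Nat.card A ≤ Nat.card B := by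
  have hM := h.normalizer_ne_top h.ne_bot h.ne_top
  obtain ⟨g, hg⟩ : ∃ g : G, g ∉ Subgroup.normalizer (A : Set G) := by
    by_contra hcon
    push Not at hcon
    exact hM ((Subgroup.eq_top_iff' _).mpr hcon)
  have h1 := Cfsg.Agent.Lib.ProductSet.card_mul_card_inf A (MulAut.conj g • A)
  rw [inf_conj_eq_bot h hg, Subgroup.card_bot, mul_one, card_conj] at h1
  have h2 : Nat.card ((A : Set G) * ((MulAut.conj g • A : Subgroup G) : Set G) : Set G)
      ≤ Nat.card G := Nat.card_le_card_of_injective _ Subtype.val_injective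
  rw [h1, h.card_eq] at h2
  exact Nat.le_of_mul_le_mul_left h2 Nat.card_pos

theorem false_of_cfg (h : Cfg A B) : False := by
  have h1 := card_le h
  have h2 := card_le h.symm
  have h3 : Nat.card A = Nat.card B := le_antisymm h1 h2
  have h4 := h.cop
  rw [← h3, Nat.coprime_self] at h4
  have := h.one_lt
  omega

/-- The core of Wielandt's theorem. -/
theorem core {G : Type*} [Group G] [Finite G] [hsimple : IsSimpleGroup G] (A B : Subgroup G)
    (hA : Group.IsNilpotent A) (hB : Group.IsNilpotent B)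
    (hcop : (Nat.card A).Coprime (Nat.card B)) (hAB : ∀ g : G, ∃ a ∈ A, ∃ b ∈ B, g = a * b)
    (hA2 : ∃ p q : ℕ, p.Prime ∧ q.Prime ∧ p ≠ q ∧ p ∣ Nat.card A ∧ q ∣ Nat.card A)
    (hB2 : ∃ p q : ℕ, p.Prime ∧ q.Prime ∧ p ≠ q ∧ p ∣ Nat.card B ∧ q ∣ Nat.card B)
    (hsol : ∀ L : Subgroup G, L ≠ ⊤ → (∀ g ∈ L, ∃ a ∈ L ⊓ A, ∃ b ∈ L ⊓ B, g = a * b) →
      Group.IsSolvable L) : False :=
  false_of_cfg (A := A) (B := B) ⟨hsimple, hA, hB, hcop, hAB, hA2, hB2, hsol⟩

end Cfsg.Agent.SolvableStructure.WielandtCore
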