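import Mathlib
import Cfsg.Agent.S0007
import Cfsg.Agent.S0143
import Cfsg.Agent.S0561

/-! # Reduction of Wielandt's theorem (product of coprime nilpotent groups) to the simple case -/

set_option autoImplicit false
set_option linter.style.haveILetI false
open Pointwise

universe u

namespace Cfsg.Agent.SolvableStructure.WielandtReduce

/-- Images of nilpotent subgroups are nilpotent. -/
theorem map_nilpotent {G G' : Type*} [Group G] [Group G'] (f : G →* G') (A : Subgroup G)
    (hA : Group.IsNilpotent A) : Group.IsNilpotent (A.map f) := by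
  haveI := hA
  exact Group.nilpotent_of_surjective (f.subgroupMap A) (f.subgroupMap_surjective A)

theorem nilpotent_of_injective {G G' : Type*} [Group G] [Group G'] (f : G →* G')
    (hf : Function.Injective f) (h : Group.IsNilpotent G') : Group.IsNilpotent G := by
  haveI := h
  exact (Group.isNilpotent_congr (MonoidHom.ofInjective hf)).2 inferInstance

/-- Subgroups of nilpotent subgroups are nilpotent. -/
theorem nilpotent_of_le {G : Type*} [Group G] (A B : Subgroup G) (h : A ≤ B)
    (hB : Group.IsNilpotent B) : Group.IsNilpotent A :=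
  nilpotent_of_injective (Subgroup.inclusion h) (Subgroup.inclusion_injective h) hB

/-- `subgroupOf` of nilpotent subgroups are nilpotent. -/
theorem nilpotent_subgroupOf {G : Type*} [Group G] (A L : Subgroup G)
    (hA : Group.IsNilpotent A) : Group.IsNilpotent (A.subgroupOf L) := by
  refine nilpotent_of_injective (L.subtype.subgroupComap A) ?_ hA
  intro x y hxy
  exact Subtype.ext (Subtype.ext (congrArg (Subtype.val : A → G) hxy))

theorem card_subgroupOf_dvd {G : Type*} [Group G] (A L : Subgroup G) :
    Nat.card (A.subgroupOf L) ∣ Nat.card A := by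
  apply Subgroup.card_dvd_of_injective (L.subtype.subgroupComap A)
  intro x y hxy
  exact Subtype.ext (Subtype.ext (congrArg (Subtype.val : A → G) hxy))

/-- The statement of the core theorem. -/
def Core : Prop := ∀ (G : Type u) [Group G] [Finite G] [IsSimpleGroup G] (A B : Subgroup G),
    Group.IsNilpotent A → Group.IsNilpotent B → (Nat.card A).Coprime (Nat.card B) →
    (∀ g : G, ∃ a ∈ A, ∃ b ∈ B, g = a * b) →
    (∃ p q : ℕ, p.Prime ∧ q.Prime ∧ p ≠ q ∧ p ∣ Nat.card A ∧ q ∣ Nat.card A) →
    (∃ p q : ℕ, p.Prime ∧ q.Prime ∧ p ≠ q ∧ p ∣ Nat.card B ∧ q ∣ Nat.card B) →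
    (∀ L : Subgroup G, L ≠ ⊤ → (∀ g ∈ L, ∃ a ∈ L ⊓ A, ∃ b ∈ L ⊓ B, g = a * b) →
      Group.IsSolvable L) → False

theorem prime_pow_of_not {n : ℕ} (hn : n ≠ 0)
    (h : ¬ ∃ p q : ℕ, p.Prime ∧ q.Prime ∧ p ≠ q ∧ p ∣ n ∧ q ∣ n) :
    ∃ p k : ℕ, p.Prime ∧ n = p ^ k := by
  by_cases h1 : n = 1
  · exact ⟨2, 0, Nat.prime_two, by simpa using h1⟩
  · refine ⟨n.minFac, n.primeFactorsList.length, Nat.minFac_prime h1, ?_⟩
    apply Nat.eq_prime_pow_of_unique_prime_dvd hn
    intro d hd hdn
    by_contra hne
    exact h ⟨d, n.minFac, hd, Nat.minFac_prime h1, hne, hdn, Nat.minFac_dvd n⟩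

theorem isComplement_of_factor {G : Type*} [Group G]
    (A B : Subgroup G) (hcop : (Nat.card A).Coprime (Nat.card B))
    (hAB : ∀ g : G, ∃ a ∈ A, ∃ b ∈ B, g = a * b) : Subgroup.IsComplement' A B := by
  apply Subgroup.isComplement'_of_disjoint_and_mul_eq_univ
  · exact Subgroup.disjoint_of_coprime_natCard hcop
  · rw [Set.eq_univ_iff_forall]
    intro g
    obtain ⟨a, ha, b, hb, rfl⟩ := hAB g
    exact Set.mul_mem_mul ha hb

/-- one-prime case: `|A|` a prime power -/
theorem solvable_of_simple_of_prime_pow {G : Type u} [Group G] [Finite G] [IsSimpleGroup G]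
    (A B : Subgroup G) (hA : Group.IsNilpotent A) (hB : Group.IsNilpotent B)
    (hcop : (Nat.card A).Coprime (Nat.card B))
    (hAB : ∀ g : G, ∃ a ∈ A, ∃ b ∈ B, g = a * b) (p k : ℕ) (hp : p.Prime)
    (hk : Nat.card A = p ^ k) : Group.IsSolvable G := by
  by_cases hB1 : B = ⊥
  · have : A = ⊤ := by
      rw [eq_top_iff]
      intro g _
      obtain ⟨a, ha, b, hb, rfl⟩ := hAB g
      rw [hB1, Subgroup.mem_bot] at hb
      simpa [hb] using ha
    subst this
    haveI := hA
    have : Group.IsSolvable (⊤ : Subgroup G) := inferInstance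
    exact Group.isSolvable_of_surjective (f := (⊤ : Subgroup G).subtype)
      (by intro x; exact ⟨⟨x, Subgroup.mem_top x⟩, rfl⟩)
  · haveI := hB
    haveI : Nontrivial B := (Subgroup.nontrivial_iff_ne_bot B).2 hB1
    have hc : Nontrivial (Subgroup.center B) :=
      (Subgroup.nontrivial_iff_ne_bot _).2 (Group.IsNilpotent.center_ne_bot B)
    obtain ⟨z, hz⟩ := exists_ne (1 : Subgroup.center B)
    have hz1 : ((z : B) : G) ≠ 1 := by
      intro h
      apply hz
      apply Subtype.ext
      apply Subtype.ext
      exact h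
    have hBle : B ≤ Subgroup.centralizer ({((z : B) : G)} : Set G) := by
      intro b hb
      rw [Subgroup.mem_centralizer_singleton_iff]
      have := Subgroup.mem_center_iff.1 z.2 ⟨b, hb⟩
      have := congrArg (Subtype.val) this
      simpa using this
    have hidx : (Subgroup.centralizer ({((z : B) : G)} : Set G)).index ∣ p ^ k := by
      have h1 : (Subgroup.centralizer ({((z : B) : G)} : Set G)).index ∣ B.index :=
        Subgroup.index_dvd_of_le hBle
      rwa [(isComplement_of_factor A B hcop hAB).index_eq_card, hk] at h1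
    obtain ⟨j, hj1, hj2⟩ := (Nat.dvd_prime_pow hp).1 hidx
    have hprime := Cfsg.Agent.S0143.result p j hp ((z : B) : G) hz1 hj2
    haveI : Fact (Nat.card G).Prime := ⟨hprime⟩
    have hcyc : IsCyclic G := isCyclic_of_prime_card (p := Nat.card G) rfl
    exact Group.isSolvable_of_comm (fun a b => by
      letI := IsCyclic.commGroup (α := G)
      exact mul_comm a b)

theorem relIndex_dvd_index_of_normal_right {G : Type*} [Group G] [Finite G] (A N : Subgroup G)
    [N.Normal] : A.relIndex N ∣ A.index := by
  have h1 : A.relIndex (A ⊔ N) ∣ A.index := Subgroup.relIndex_dvd_index_of_le le_sup_left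
  suffices h : A.relIndex N = A.relIndex (A ⊔ N) by rwa [h]
  -- numeric
  have e1 : A.relIndex (A ⊔ N) * Nat.card A = Nat.card (A ⊔ N : Subgroup G) := by
    rw [mul_comm, ← Subgroup.relIndex_bot_left, ← Subgroup.relIndex_bot_left]
    exact Subgroup.relIndex_mul_relIndex ⊥ A (A ⊔ N) bot_le le_sup_left
  have e2 : N.relIndex (A ⊔ N) * Nat.card N = Nat.card (A ⊔ N : Subgroup G) := by
    rw [mul_comm, ← Subgroup.relIndex_bot_left, ← Subgroup.relIndex_bot_left]
    exact Subgroup.relIndex_mul_relIndex ⊥ N (A ⊔ N) bot_le le_sup_right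
  have e3 : N.relIndex (A ⊔ N) = N.relIndex A := Subgroup.relIndex_sup_right A N
  have e4 : N.relIndex A * Nat.card (A ⊓ N : Subgroup G) = Nat.card A := by
    rw [mul_comm, ← Subgroup.inf_relIndex_left, ← Subgroup.relIndex_bot_left,
      ← Subgroup.relIndex_bot_left]
    exact Subgroup.relIndex_mul_relIndex ⊥ (A ⊓ N) A bot_le inf_le_left
  have e5 : A.relIndex N * Nat.card (A ⊓ N : Subgroup G) = Nat.card N := by
    rw [mul_comm, ← Subgroup.inf_relIndex_right, ← Subgroup.relIndex_bot_left,
      ← Subgroup.relIndex_bot_left]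
    exact Subgroup.relIndex_mul_relIndex ⊥ (A ⊓ N) N bot_le inf_le_right
  have pos1 : 0 < Nat.card (A ⊓ N : Subgroup G) := Nat.card_pos
  have pos2 : 0 < Nat.card A := Nat.card_pos
  have e6 : A.relIndex (A ⊔ N) * Nat.card A = A.relIndex N * Nat.card A := by
    rw [e1, ← e2, e3, ← e5]
    calc N.relIndex A * (A.relIndex N * Nat.card (A ⊓ N : Subgroup G))
        = A.relIndex N * (N.relIndex A * Nat.card (A ⊓ N : Subgroup G)) := by ring
      _ = A.relIndex N * Nat.card A := by rw [e4]
  exact (Nat.eq_of_mul_eq_mul_right pos2 e6).symm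

/-- Solvability of a product of nilpotent groups of coprime orders, given the core theorem. -/
theorem solvable_of_core (core : Core.{u}) : ∀ (n : ℕ) (G : Type u) [Group G] [Finite G]
    (A B : Subgroup G), Nat.card G = n →
    Group.IsNilpotent A → Group.IsNilpotent B → (Nat.card A).Coprime (Nat.card B) →
    (∀ g : G, ∃ a ∈ A, ∃ b ∈ B, g = a * b) → Group.IsSolvable G := by
  intro n
  induction n using Nat.strong_induction_on with
  | _ n ih =>
  intro G _ _ A B hn hA hB hcop hAB
  by_cases htriv : Subsingleton G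
  · infer_instance
  rw [not_subsingleton_iff_nontrivial] at htriv
  by_cases hsimple : IsSimpleGroup G
  · by_cases hA2 : ∃ p q : ℕ, p.Prime ∧ q.Prime ∧ p ≠ q ∧ p ∣ Nat.card A ∧ q ∣ Nat.card A
    · by_cases hB2 : ∃ p q : ℕ, p.Prime ∧ q.Prime ∧ p ≠ q ∧ p ∣ Nat.card B ∧ q ∣ Nat.card B
      · exfalso
        refine core G A B hA hB hcop hAB hA2 hB2 ?_
        intro L hL hfac
        have hlt : Nat.card L < n := by
          rw [← hn]
          exact lt_of_le_of_ne (Nat.card_le_card_of_injective L.subtype L.subtype_injective)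
            (fun h => hL (Subgroup.eq_top_of_card_eq L h))
        refine ih (Nat.card L) hlt L (A.subgroupOf L) (B.subgroupOf L) rfl
          (nilpotent_subgroupOf A L hA) (nilpotent_subgroupOf B L hB)
          (Nat.Coprime.coprime_dvd_left (card_subgroupOf_dvd A L)
            (Nat.Coprime.coprime_dvd_right (card_subgroupOf_dvd B L) hcop)) ?_
        intro g
        obtain ⟨a, ha, b, hb, hg⟩ := hfac g g.2
        refine ⟨⟨a, ha.1⟩, ?_, ⟨b, hb.1⟩, ?_, Subtype.ext hg⟩
        · exact Subgroup.mem_subgroupOf.2 ha.2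
        · exact Subgroup.mem_subgroupOf.2 hb.2
      · obtain ⟨p, k, hp, hk⟩ := prime_pow_of_not Nat.card_pos.ne' hB2
        refine solvable_of_simple_of_prime_pow B A hB hA hcop.symm ?_ p k hp hk
        intro g
        obtain ⟨a, ha, b, hb, hg⟩ := hAB g⁻¹
        exact ⟨b⁻¹, inv_mem hb, a⁻¹, inv_mem ha, by rw [← inv_inv g, hg]; simp⟩
    · obtain ⟨p, k, hp, hk⟩ := prime_pow_of_not Nat.card_pos.ne' hA2
      exact solvable_of_simple_of_prime_pow A B hA hB hcop hAB p k hp hk
  · -- non-simple case
    have : ∃ N : Subgroup G, N.Normal ∧ N ≠ ⊥ ∧ N ≠ ⊤ := by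
      by_contra hcon
      push Not at hcon
      apply hsimple
      refine ⟨?_⟩
      intro N hN
      by_cases hb : N = ⊥
      · exact Or.inl hb
      · exact Or.inr (hcon N hN hb)
    obtain ⟨N, hNn, hN1, hN2⟩ := this
    haveI := hNn
    have hltN : Nat.card N < n := by
      rw [← hn]
      exact lt_of_le_of_ne (Nat.card_le_card_of_injective N.subtype N.subtype_injective)
        (fun h => hN2 (Subgroup.eq_top_of_card_eq N h))
    have hcompl := isComplement_of_factor A B hcop hAB
    have hsolN : Group.IsSolvable N := by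
      refine ih (Nat.card N) hltN N (A.subgroupOf N) (B.subgroupOf N) rfl
          (nilpotent_subgroupOf A N hA) (nilpotent_subgroupOf B N hB)
          (Nat.Coprime.coprime_dvd_left (card_subgroupOf_dvd A N)
            (Nat.Coprime.coprime_dvd_right (card_subgroupOf_dvd B N) hcop)) ?_
      refine (Cfsg.Agent.S0007.result (A.subgroupOf N) (B.subgroupOf N) ?_).2
      have h1 : (A.subgroupOf N).index ∣ Nat.card B := by
        rw [← hcompl.symm.index_eq_card]
        exact relIndex_dvd_index_of_normal_right A N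
      have h2 : (B.subgroupOf N).index ∣ Nat.card A := by
        rw [← hcompl.index_eq_card]
        exact relIndex_dvd_index_of_normal_right B N
      exact Nat.Coprime.coprime_dvd_left h1 (Nat.Coprime.coprime_dvd_right h2 hcop.symm)
    have hsolQ : Group.IsSolvable (G ⧸ N) := by
      have hlt : Nat.card (G ⧸ N) < n := by
        have e : Nat.card (G ⧸ N) * Nat.card N = n := by
          rw [← hn]; exact (Subgroup.card_eq_card_quotient_mul_card_subgroup N).symm
        have h1 : 1 < Nat.card N := (Subgroup.one_lt_card_iff_ne_bot N).2 hN1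
        have h2 : 0 < Nat.card (G ⧸ N) := Nat.card_pos
        nlinarith
      refine ih (Nat.card (G ⧸ N)) hlt (G ⧸ N) (A.map (QuotientGroup.mk' N))
        (B.map (QuotientGroup.mk' N)) rfl (map_nilpotent _ A hA) (map_nilpotent _ B hB)
        (Nat.Coprime.coprime_dvd_left (Subgroup.card_map_dvd A _)
            (Nat.Coprime.coprime_dvd_right (Subgroup.card_map_dvd B _) hcop)) ?_
      intro x
      obtain ⟨g, rfl⟩ := QuotientGroup.mk'_surjective N x
      obtain ⟨a, ha, b, hb, hg⟩ := hAB g
      exact ⟨_, Subgroup.mem_map_of_mem _ ha, _, Subgroup.mem_map_of_mem _ hb, by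
        rw [hg, map_mul]⟩
    exact (Group.isSolvable_iff_subgroup_quotient N).2 ⟨hsolN, hsolQ⟩

/-- Sylow subgroups of the factors permute. -/
theorem sylow_permute {G : Type*} [Group G] [Finite G] [Group.IsSolvable G] (A B : Subgroup G)
    (hA : Group.IsNilpotent A) (hB : Group.IsNilpotent B)
    (hcop : (Nat.card A).Coprime (Nat.card B))
    (hAB : ∀ g : G, ∃ a ∈ A, ∃ b ∈ B, g = a * b) (p q : ℕ) [Fact p.Prime] [Fact q.Prime]
    (P : Sylow p A) (Q : Sylow q B) :
    ∃ S : Subgroup G, (S : Set G) = (((P : Subgroup A).map A.subtype : Subgroup G) : Set G) *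
      (((Q : Subgroup B).map B.subtype : Subgroup G) : Set G) := by
  have hcompl := isComplement_of_factor A B hcop hAB
  haveI := hA
  haveI := hB
  have key : ∀ (A B : Subgroup G) (_ : Group.IsNilpotent A)
      (_ : (Nat.card A).Coprime (Nat.card B)) (_ : Subgroup.IsComplement' A B) (p : ℕ)
      (_ : Fact p.Prime) (P : Sylow p A),
      (P : Subgroup A).map A.subtype ≤ A ∧
      (((P : Subgroup A).map A.subtype).subgroupOf A).Normal ∧
      (Nat.card ((P : Subgroup A).map A.subtype)).Coprime
        ((P : Subgroup A).map A.subtype).index := by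
    intro A B hA hcop hcompl p hp P
    have hle : (P : Subgroup A).map A.subtype ≤ A := Subgroup.map_subtype_le _
    have hPn : (P : Subgroup A).Normal := inferInstance
    refine ⟨hle, ?_, ?_⟩
    · have : (((P : Subgroup A).map A.subtype).subgroupOf A) = (P : Subgroup A) := by
        rw [Subgroup.subgroupOf, Subgroup.comap_map_eq_self_of_injective A.subtype_injective]
      rw [this]; exact hPn
    · have hcard : Nat.card ((P : Subgroup A).map A.subtype) = Nat.card P :=
        (Nat.card_congr (Subgroup.equivMapOfInjective (P : Subgroup A) A.subtype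
          A.subtype_injective).toEquiv).symm
      have hidx : ((P : Subgroup A).map A.subtype).index = (P : Subgroup A).index * A.index :=
        Subgroup.index_map_subtype _
      rw [hcard, hidx]
      refine Nat.Coprime.mul_right ?_ ?_
      · exact P.card_coprime_index
      · rw [hcompl.symm.index_eq_card]
        exact Nat.Coprime.coprime_dvd_left (Subgroup.card_subgroup_dvd_card _) hcop
  obtain ⟨a1, a2, a3⟩ := key A B hA hcop hcompl p ‹_› P
  obtain ⟨b1, b2, b3⟩ := key B A hB hcop.symm hcompl.symm q ‹_› Q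
  have := Cfsg.Agent.S0561.result A B _ _ hAB a1 a2 b1 b2 a3 b3 1 1
  simpa using this

end Cfsg.Agent.SolvableStructure.WielandtReduce
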