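import Mathlib
import Cfsg.Agent.SolvableStructure.ConverseLagrange

set_option autoImplicit false

/-!
Minimal non-nilpotent groups, assuming solvability: a finite solvable group that is not nilpotent
but all of whose proper subgroups are nilpotent is generated by a cyclic Sylow `p`-subgroup and a
normal Sylow `q`-subgroup.
-/

namespace Cfsg.Agent.SolvableStructure.MinNonNilpotent

/-- A nontrivial finite solvable group has a normal subgroup of prime index. -/
theorem exists_normal_index_prime {G : Type*} [Group G] [Finite G] [Nontrivial G]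
    [Group.IsSolvable G] : ∃ N : Subgroup G, N.Normal ∧ N.index.Prime := by
  classical
  have h1 : commutator G < ⊤ := Group.IsSolvable.commutator_lt_top_of_nontrivial G
  have hcard : Nat.card (Abelianization G) ≠ 1 := by
    intro h
    apply h1.ne
    have : (commutator G).index = 1 := h
    exact Subgroup.index_eq_one.mp this
  obtain ⟨p, hp, hpd⟩ := Nat.exists_prime_and_dvd hcard
  obtain ⟨m, hm⟩ := hpd
  obtain ⟨H, hH⟩ := ConverseLagrange.comm_exists_subgroup_card (A := Abelianization G) m
    (hm ▸ dvd_mul_left m p)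
  have hidx : H.index = p := by
    have h2 := Subgroup.card_mul_index H
    rw [hH, hm, mul_comm p m] at h2
    have hm0 : 0 < m := by
      rcases Nat.eq_zero_or_pos m with h | h
      · exact absurd (hm.trans (by rw [h, mul_zero])) Nat.card_pos.ne'
      · exact h
    exact Nat.eq_of_mul_eq_mul_left hm0 h2
  refine ⟨H.comap (Abelianization.of : G →* Abelianization G), ?_, ?_⟩
  · infer_instance
  · have h3 : (H.comap (Abelianization.of : G →* Abelianization G)).index = H.index :=
      Subgroup.index_comap_of_surjective H (QuotientGroup.mk'_surjective (commutator G))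
    rw [h3, hidx]
    exact hp

/-- In a finite nilpotent group, subgroups of coprime prime power orders commute. -/
theorem commute_of_isNilpotent {G : Type*} [Group G] [Finite G] [Group.IsNilpotent G] {p q : ℕ}
    [Fact p.Prime] [Fact q.Prime] (hpq : p ≠ q) {A B : Subgroup G} (hA : IsPGroup p A)
    (hB : IsPGroup q B) {x y : G} (hx : x ∈ A) (hy : y ∈ B) : Commute x y := by
  obtain ⟨P, hP⟩ := hA.exists_le_sylow
  obtain ⟨Q, hQ⟩ := hB.exists_le_sylow
  have hPn : (P : Subgroup G).Normal := (Group.isNilpotent_of_finite_tfae.out 0 3 rfl rfl).mp ‹_› p ‹_› P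
  have hQn : (Q : Subgroup G).Normal := (Group.isNilpotent_of_finite_tfae.out 0 3 rfl rfl).mp ‹_› q ‹_› Q
  exact Subgroup.commute_of_normal_of_disjoint _ _ hPn hQn
    (IsPGroup.disjoint_of_ne p q hpq _ _ P.isPGroup' Q.isPGroup') x y (hP hx) (hQ hy)

/-- Two subgroups of coprime prime power orders contained in a nilpotent subgroup commute. -/
theorem commute_of_le_isNilpotent {G : Type*} [Group G] [Finite G] {H : Subgroup G}
    (hH : Group.IsNilpotent H) {p q : ℕ}
    [Fact p.Prime] [Fact q.Prime] (hpq : p ≠ q) {A B : Subgroup G} (hA : IsPGroup p A)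
    (hB : IsPGroup q B) (hAH : A ≤ H) (hBH : B ≤ H) {x y : G} (hx : x ∈ A) (hy : y ∈ B) :
    Commute x y := by
  have h := commute_of_isNilpotent (G := H) hpq
    (A := A.subgroupOf H) (B := B.subgroupOf H)
    (hA.comap_of_injective H.subtype H.subtype_injective)
    (hB.comap_of_injective H.subtype H.subtype_injective)
    (x := ⟨x, hAH hx⟩) (y := ⟨y, hBH hy⟩)
    (Subgroup.mem_subgroupOf.mpr hx) (Subgroup.mem_subgroupOf.mpr hy)
  have h2 := congrArg (Subgroup.subtype H) h.eq
  exact h2

/-- If `N` is a normal nilpotent subgroup of index a prime `p`, all Sylow `q`-subgroups with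
`q ≠ p` are normal. -/
theorem sylow_normal_of_normal_nilpotent_index {G : Type*} [Group G] [Finite G] (N : Subgroup G)
    [N.Normal] (hN : Group.IsNilpotent N) {p : ℕ} (hp : p.Prime) (hidx : N.index = p)
    {q : ℕ} [Fact q.Prime] (hpq : q ≠ p) (Q : Sylow q G) : (Q : Subgroup G).Normal := by
  -- `Q ≤ N`
  have hQN : (Q : Subgroup G) ≤ N := by
    intro x hx
    have h1 : orderOf (QuotientGroup.mk' N x) ∣ orderOf x := orderOf_map_dvd _ x
    have h2 : orderOf (QuotientGroup.mk' N x) ∣ N.index := by
      rw [Subgroup.index]; exact orderOf_dvd_natCard _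
    obtain ⟨k, hk⟩ := Q.isPGroup' ⟨x, hx⟩
    have hk' : x ^ q ^ k = 1 := congrArg Subtype.val hk
    have h3 : orderOf (QuotientGroup.mk' N x) ∣ q ^ k := h1.trans (orderOf_dvd_of_pow_eq_one hk')
    have h4 : Nat.Coprime (q ^ k) N.index := by
      rw [hidx]
      exact Nat.Coprime.pow_left k ((Nat.coprime_primes Fact.out hp).mpr hpq)
    have h5 : orderOf (QuotientGroup.mk' N x) = 1 := Nat.eq_one_of_dvd_coprimes h4 h3 h2
    rw [orderOf_eq_one_iff] at h5
    exact (QuotientGroup.eq_one_iff x).mp h5
  let Q' : Sylow q N := Q.subtype hQN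
  have hQ'n : (Q' : Subgroup N).Normal :=
    (Group.isNilpotent_of_finite_tfae.out 0 3 rfl rfl).mp hN q ‹_› Q'
  have hQ'c : (Q' : Subgroup N).Characteristic := Q'.characteristic_of_normal hQ'n
  have hmap : ((Q' : Subgroup N).map N.subtype).Normal := inferInstance
  have heq : (Q' : Subgroup N).map N.subtype = (Q : Subgroup G) := by
    change ((Q : Subgroup G).subgroupOf N).map N.subtype = Q
    rw [Subgroup.subgroupOf_map_subtype, inf_eq_left.mpr hQN]
  rwa [heq] at hmap

/-- A subgroup containing a Sylow subgroup for each prime is everything. -/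
theorem eq_top_of_forall_sylow_le {G : Type*} [Group G] [Finite G] (K : Subgroup G)
    (h : ∀ (q : ℕ) [Fact q.Prime], ∃ Q : Sylow q G, (Q : Subgroup G) ≤ K) : K = ⊤ := by
  rw [← Subgroup.index_eq_one]
  by_contra hne
  obtain ⟨q, hq, hqd⟩ := Nat.exists_prime_and_dvd hne
  have : Fact q.Prime := ⟨hq⟩
  obtain ⟨Q, hQ⟩ := h q
  exact Q.not_dvd_index (hqd.trans (Subgroup.index_dvd_of_le hQ))

/-- Structure of solvable minimal non-nilpotent groups, in a more precise form. -/
theorem structure_of_isSolvable {G : Type*} [Group G] [Finite G] [Group.IsSolvable G]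
    (hG : ¬ Group.IsNilpotent G) (hsub : ∀ H : Subgroup G, H ≠ ⊤ → Group.IsNilpotent H) :
    ∃ p q : ℕ, p.Prime ∧ q.Prime ∧ p ≠ q ∧ ∃ (P : Sylow p G) (Q : Sylow q G),
      IsCyclic P ∧ (Q : Subgroup G).Normal ∧ (P : Subgroup G) ⊔ Q = ⊤ := by
  classical
  have hnt : Nontrivial G := by
    by_contra h
    rw [not_nontrivial_iff_subsingleton] at h
    exact hG inferInstance
  obtain ⟨N, hN, hidx⟩ := exists_normal_index_prime (G := G)
  obtain ⟨p, hpdef⟩ : ∃ p, p = N.index := ⟨_, rfl⟩
  rw [← hpdef] at hidx
  have hNtop : N ≠ ⊤ := by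
    intro h
    rw [← Subgroup.index_eq_one, ← hpdef] at h
    exact hidx.one_lt.ne' h
  have hNn : Group.IsNilpotent N := hsub N hNtop
  have : Fact p.Prime := ⟨hidx⟩
  have hnorm : ∀ (q : ℕ) [Fact q.Prime], q ≠ p → ∀ Q : Sylow q G, (Q : Subgroup G).Normal :=
    fun q _ hq Q => sylow_normal_of_normal_nilpotent_index N hNn hidx hpdef.symm hq Q
  obtain ⟨P⟩ : Nonempty (Sylow p G) := inferInstance
  -- there is a `q` and a Sylow `q`-subgroup not centralizing `P`
  have hex : ∃ (q : ℕ) (_ : Fact q.Prime) (Q : Sylow q G), q ≠ p ∧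
      ¬ (∀ x ∈ (P : Subgroup G), ∀ y ∈ (Q : Subgroup G), Commute x y) := by
    by_contra hcon
    apply hG
    apply (Group.isNilpotent_of_finite_tfae.out 0 3).mpr
    intro r hr R
    by_cases hrp : r = p
    · -- the normalizer of `R` is everything
      have hPn : (P : Subgroup G).Normal := by
        rw [← Subgroup.normalizer_eq_top_iff]
        apply eq_top_of_forall_sylow_le
        intro q hq
        by_cases hqp : q = p
        · subst hqp
          exact ⟨P, Subgroup.le_normalizer⟩
        · obtain ⟨Q⟩ : Nonempty (Sylow q G) := inferInstance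
          refine ⟨Q, ?_⟩
          have hc : ∀ x ∈ (P : Subgroup G), ∀ y ∈ (Q : Subgroup G), Commute x y := by
            by_contra hc
            exact hcon ⟨q, hq, Q, hqp, hc⟩
          intro y hy
          rw [Subgroup.mem_normalizer_iff]
          intro x
          constructor
          · intro hx
            have := (hc x hx y hy).eq
            rw [← this, mul_inv_cancel_right]
            exact hx
          · intro hx
            have := (hc _ hx y hy).eq
            have h2 : y * x = y * (y * x * y⁻¹) := by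
              rw [← this]; group
            have h3 := mul_left_cancel h2
            rw [h3]; exact hx
      subst hrp
      have := Sylow.unique_of_normal P hPn
      rw [Subsingleton.elim R P]
      exact hPn
    · exact hnorm r hrp R
  obtain ⟨q, hq, Q, hqp, hnc⟩ := hex
  have hQn : (Q : Subgroup G).Normal := hnorm q hqp Q
  refine ⟨p, q, hidx, hq.out, hqp.symm, P, Q, ?_, hQn, ?_⟩
  · by_contra hcyc
    apply hnc
    intro x hx y hy
    have hne : Subgroup.zpowers x ⊔ (Q : Subgroup G) ≠ ⊤ := by
      intro htop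
      apply hcyc
      refine ⟨⟨⟨x, hx⟩, ?_⟩⟩
      rintro ⟨z, hz⟩
      have hz' : z ∈ Subgroup.zpowers x ⊔ (Q : Subgroup G) := htop ▸ Subgroup.mem_top z
      rw [Subgroup.mem_sup_of_normal_right] at hz'
      obtain ⟨a, ha, b, hb, hab⟩ := hz'
      have haP : a ∈ (P : Subgroup G) := (Subgroup.zpowers_le.mpr hx) ha
      have hbP : b ∈ (P : Subgroup G) := by
        have : b = a⁻¹ * z := by rw [← hab]; group
        rw [this]
        exact mul_mem (inv_mem haP) hz
      have hb1 : b = 1 := by
        have hd := IsPGroup.disjoint_of_ne p q hqp.symm _ _ P.isPGroup' Q.isPGroup'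
        exact Subgroup.disjoint_def.mp hd hbP hb
      rw [hb1, mul_one] at hab
      obtain ⟨k, hk⟩ := Subgroup.mem_zpowers_iff.mp ha
      refine Subgroup.mem_zpowers_iff.mpr ⟨k, ?_⟩
      apply Subtype.ext
      exact hk.trans hab
    exact commute_of_le_isNilpotent (hsub _ hne) hqp.symm
      (A := Subgroup.zpowers x) (B := Q)
      (P.isPGroup'.to_le (Subgroup.zpowers_le.mpr hx)) Q.isPGroup' le_sup_left le_sup_right
      (Subgroup.mem_zpowers x) hy
  · by_contra hne
    apply hnc
    intro x hx y hy
    exact commute_of_le_isNilpotent (hsub _ hne) hqp.symm P.isPGroup' Q.isPGroup'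
      le_sup_left le_sup_right hx hy

end Cfsg.Agent.SolvableStructure.MinNonNilpotent
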