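import Mathlib.GroupTheory.GroupAction.Primitive
import Mathlib.GroupTheory.Solvable
import Mathlib.GroupTheory.GroupAction.Basic
import Mathlib.GroupTheory.GroupAction.Quotient
import Mathlib.GroupTheory.Complement
import Cfsg.Agent.SolvableStructure.MinimalNormal

/-!
# Primitive solvable permutation groups

A minimal normal subgroup of a primitive solvable group acts regularly.
-/

set_option autoImplicit false

namespace Cfsg.Agent.SolvableStructure.PrimitiveSolvable

open Cfsg.Agent.SolvableStructure.MinimalNormal

variable {G : Type*} [Group G] {Ω : Type*} [MulAction G Ω]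

/-- A nontrivial normal subgroup of a faithful primitive group is transitive. -/
theorem isPretransitive_of_normal [FaithfulSMul G Ω] (hprim : MulAction.IsPreprimitive G Ω)
    (M : Subgroup G) [M.Normal] (hM : M ≠ ⊥) : MulAction.IsPretransitive M Ω := by
  have := hprim
  refine MulAction.IsQuasiPreprimitive.isPretransitive_of_normal (G := G) (X := Ω) (N := M) ?_
  intro h
  apply hM
  rw [eq_bot_iff]
  intro m hm
  rw [Subgroup.mem_bot]
  apply FaithfulSMul.eq_of_smul_eq_smul (α := Ω)
  intro a
  have ha : a ∈ MulAction.fixedPoints M Ω := by rw [h]; trivial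
  rw [one_smul]
  exact ha ⟨m, hm⟩

/-- An element which centralizes a transitive subgroup and fixes a point is trivial. -/
theorem eq_one_of_mem_centralizer_of_smul_eq [FaithfulSMul G Ω] (M : Subgroup G)
    [MulAction.IsPretransitive M Ω] {g : G} (hg : ∀ m ∈ M, m * g = g * m) {ω : Ω}
    (h : g • ω = ω) : g = 1 := by
  apply FaithfulSMul.eq_of_smul_eq_smul (α := Ω)
  intro a
  obtain ⟨m, rfl⟩ := MulAction.exists_smul_eq M ω a
  rw [one_smul]
  change g • ((m : G) • ω) = (m : G) • ω
  rw [← mul_smul, ← hg m m.2, mul_smul, h]

/-- A transitive abelian subgroup of a faithful permutation group has trivial point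
stabilizers. -/
theorem stabilizer_eq_bot_of_comm [FaithfulSMul G Ω] (M : Subgroup G)
    [MulAction.IsPretransitive M Ω] (hcomm : ∀ a ∈ M, ∀ b ∈ M, a * b = b * a) (ω : Ω) :
    MulAction.stabilizer M ω = ⊥ := by
  rw [eq_bot_iff]
  intro m hm
  rw [Subgroup.mem_bot]
  apply Subtype.ext
  have hm' : (m : G) • ω = ω := hm
  exact eq_one_of_mem_centralizer_of_smul_eq M (fun a ha => hcomm a ha m m.2) hm'

theorem card_eq_of_regular (M : Type*) [Group M] [MulAction M Ω] [MulAction.IsPretransitive M Ω]
    (ω : Ω) (h : MulAction.stabilizer M ω = ⊥) : Nat.card Ω = Nat.card M := by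
  rw [← MulAction.index_stabilizer_of_transitive M ω, h, Subgroup.index_bot]

end Cfsg.Agent.SolvableStructure.PrimitiveSolvable
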