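import Mathlib
import Cfsg.Prelude.Def_SolvableStructure

/-!
Basic API for `Cfsg.IsSupersolvable`.
-/

set_option autoImplicit false

namespace Cfsg.Agent.SolvableStructure.SupersolvableBasic

open Subgroup

universe u v

/-- Supersolvability via a chain indexed by `ℕ`. -/
theorem iff_nat_chain {G : Type u} [Group G] :
    Cfsg.IsSupersolvable G ↔ ∃ (n : ℕ) (H : ℕ → Subgroup G), H 0 = ⊥ ∧ H n = ⊤ ∧
      (∀ i, (H i).Normal) ∧ ∀ i, i < n → ∃ g : G, H (i + 1) = H i ⊔ Subgroup.zpowers g := by
  constructor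
  · rintro ⟨n, H, h0, hn, hnorm, hstep⟩
    refine ⟨n, fun i => if h : i < n + 1 then H ⟨i, h⟩ else ⊤, ?_, ?_, ?_, ?_⟩
    · simpa using h0
    · simpa [Fin.last] using hn
    · intro i
      by_cases h : i < n + 1
      · simpa [h] using hnorm ⟨i, h⟩
      · simp only [h, dite_false]; infer_instance
    · intro i hi
      obtain ⟨g, hg⟩ := hstep ⟨i, hi⟩
      refine ⟨g, ?_⟩
      have h1 : i < n + 1 := by omega
      have h2 : i + 1 < n + 1 := by omega
      simp only [h1, h2, dite_true]
      exact hg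
  · rintro ⟨n, H, h0, hn, hnorm, hstep⟩
    refine ⟨n, fun i => H i, by simpa using h0, by simpa using hn, fun i => hnorm _, ?_⟩
    intro i
    obtain ⟨g, hg⟩ := hstep i i.2
    exact ⟨g, by simpa using hg⟩

/-- Pulling back one cyclic step along a homomorphism gives a cyclic step. -/
theorem comap_sup_zpowers {K : Type v} {G : Type u} [Group K] [Group G] (f : K →* G)
    (A : Subgroup G) [A.Normal] (g : G) :
    ∃ k : K, (A ⊔ zpowers g).comap f = A.comap f ⊔ zpowers k := by
  classical
  set π : G →* G ⧸ A := QuotientGroup.mk' A with hπ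
  have hker : ∀ x : G, π x = 1 ↔ x ∈ A := fun x => by
    rw [hπ]; exact QuotientGroup.eq_one_iff x
  have hcomap : ∀ x : G, x ∈ A ⊔ zpowers g ↔ π x ∈ zpowers (π g) := by
    intro x
    constructor
    · intro hx
      obtain ⟨a, ha, b, hb, rfl⟩ := (Subgroup.mem_sup_of_normal_left (s := A) (t := zpowers g)).1 hx
      obtain ⟨n, rfl⟩ := mem_zpowers_iff.1 hb
      rw [map_mul, (hker a).2 ha, one_mul, map_zpow]
      exact zpow_mem (mem_zpowers _) n
    · intro hx
      obtain ⟨n, hn⟩ := mem_zpowers_iff.1 hx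
      have : x * (g ^ n)⁻¹ ∈ A := by
        rw [← hker, map_mul, map_inv, map_zpow, hn, mul_inv_cancel]
      have h2 : x = x * (g ^ n)⁻¹ * g ^ n := by group
      rw [h2]
      exact mul_mem (mem_sup_left this) (mem_sup_right (zpow_mem (mem_zpowers g) n))
  set T : Subgroup (G ⧸ A) := (π.comp f).range with hT
  -- the intersection is cyclic
  have hcyc : IsCyclic (T.subgroupOf (zpowers (π g))) := by
    infer_instance
  obtain ⟨⟨c, hcT⟩, hc⟩ := hcyc.exists_generator
  obtain ⟨k, hk⟩ : (c : G ⧸ A) ∈ (π.comp f).range := hcT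
  refine ⟨k, le_antisymm ?_ ?_⟩
  · intro x hx
    rw [mem_comap, hcomap] at hx
    have hxT : π (f x) ∈ T := ⟨x, rfl⟩
    obtain ⟨n, hn⟩ := mem_zpowers_iff.1 (hc ⟨⟨π (f x), hx⟩, by simpa [mem_subgroupOf] using hxT⟩)
    have hn' : (c : G ⧸ A) ^ n = π (f x) := by
      have := congrArg (fun z => ((z : zpowers (π g)) : G ⧸ A)) (congrArg Subtype.val hn)
      simpa using this
    have h3 : x * (k ^ n)⁻¹ ∈ A.comap f := by
      rw [mem_comap, ← hker, map_mul, map_mul, map_inv, map_inv, map_zpow, map_zpow]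
      have : π (f k) = c := hk
      rw [this, hn', mul_inv_cancel]
    have h4 : x = x * (k ^ n)⁻¹ * k ^ n := by group
    rw [h4]
    exact mul_mem (mem_sup_left h3) (mem_sup_right (zpow_mem (mem_zpowers k) n))
  · apply sup_le
    · exact comap_mono le_sup_left
    · rw [zpowers_le, mem_comap, hcomap]
      have : π (f k) = c := hk
      rw [this]
      exact c.2

/-- A group that maps injectively to a supersolvable group is supersolvable. -/
theorem of_injective {K : Type v} {G : Type u} [Group K] [Group G]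
    (hG : Cfsg.IsSupersolvable G) (f : K →* G) (hf : Function.Injective f) :
    Cfsg.IsSupersolvable K := by
  rw [iff_nat_chain] at hG ⊢
  obtain ⟨n, H, h0, hn, hnorm, hstep⟩ := hG
  refine ⟨n, fun i => (H i).comap f, ?_, ?_, ?_, ?_⟩
  · show (H 0).comap f = ⊥
    rw [h0]
    exact (MonoidHom.ker_eq_bot_iff f).2 hf
  · show (H n).comap f = ⊤
    rw [hn, comap_top]
  · intro i
    have := hnorm i
    exact Subgroup.normal_comap f
  · intro i hi
    obtain ⟨g, hg⟩ := hstep i hi
    have := hnorm i
    obtain ⟨k, hk⟩ := comap_sup_zpowers f (H i) g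
    refine ⟨k, ?_⟩
    show (H (i + 1)).comap f = _
    rw [hg, hk]

/-- Subgroups of supersolvable groups are supersolvable. -/
theorem subgroup {G : Type u} [Group G] (hG : Cfsg.IsSupersolvable G) (K : Subgroup G) :
    Cfsg.IsSupersolvable K :=
  of_injective hG K.subtype K.subtype_injective

/-- Homomorphic images of supersolvable groups are supersolvable. -/
theorem of_surjective {G : Type u} {K : Type v} [Group G] [Group K]
    (hG : Cfsg.IsSupersolvable G) (f : G →* K) (hf : Function.Surjective f) :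
    Cfsg.IsSupersolvable K := by
  rw [iff_nat_chain] at hG ⊢
  obtain ⟨n, H, h0, hn, hnorm, hstep⟩ := hG
  refine ⟨n, fun i => (H i).map f, ?_, ?_, ?_, ?_⟩
  · show (H 0).map f = ⊥
    rw [h0, Subgroup.map_bot]
  · show (H n).map f = ⊤
    rw [hn, map_top_of_surjective f hf]
  · intro i
    exact (hnorm i).map f hf
  · intro i hi
    obtain ⟨g, hg⟩ := hstep i hi
    refine ⟨f g, ?_⟩
    show (H (i + 1)).map f = _
    rw [hg, Subgroup.map_sup, MonoidHom.map_zpowers]

/-- Quotients of supersolvable groups are supersolvable. -/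
theorem quotient {G : Type u} [Group G] (hG : Cfsg.IsSupersolvable G) (N : Subgroup G)
    [N.Normal] : Cfsg.IsSupersolvable (G ⧸ N) :=
  of_surjective hG (QuotientGroup.mk' N) (QuotientGroup.mk'_surjective N)

/-- Supersolvability is invariant under isomorphism. -/
theorem of_mulEquiv {G : Type u} {K : Type v} [Group G] [Group K]
    (hG : Cfsg.IsSupersolvable G) (e : G ≃* K) : Cfsg.IsSupersolvable K :=
  of_surjective hG e.toMonoidHom e.surjective

theorem iff_of_mulEquiv {G : Type u} {K : Type v} [Group G] [Group K] (e : G ≃* K) :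
    Cfsg.IsSupersolvable G ↔ Cfsg.IsSupersolvable K :=
  ⟨fun h => of_mulEquiv h e, fun h => of_mulEquiv h e.symm⟩

/-- The trivial group is supersolvable. -/
theorem of_subsingleton {G : Type u} [Group G] [Subsingleton G] : Cfsg.IsSupersolvable G := by
  rw [iff_nat_chain]
  refine ⟨0, fun _ => ⊥, rfl, Subsingleton.elim _ _, fun _ => inferInstance, ?_⟩
  intro i hi
  omega

/-- An extension of a cyclic normal subgroup by a supersolvable group is supersolvable. -/
theorem of_normal_isCyclic {G : Type u} [Group G] (N : Subgroup G) [N.Normal]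
    (hN : IsCyclic N) (h : Cfsg.IsSupersolvable (G ⧸ N)) : Cfsg.IsSupersolvable G := by
  rw [iff_nat_chain] at h ⊢
  obtain ⟨n, H, h0, hn, hnorm, hstep⟩ := h
  obtain ⟨⟨g₀, hg₀⟩, hgen⟩ := hN.exists_generator
  have hNz : N = zpowers g₀ := by
    apply le_antisymm
    · intro x hx
      obtain ⟨m, hm⟩ := mem_zpowers_iff.1 (hgen ⟨x, hx⟩)
      exact mem_zpowers_iff.2 ⟨m, by simpa using congrArg Subtype.val hm⟩
    · rwa [zpowers_le]
  set π : G →* G ⧸ N := QuotientGroup.mk' N with hπ
  have hπs : Function.Surjective π := QuotientGroup.mk'_surjective N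
  refine ⟨n + 1, fun i => if i = 0 then ⊥ else (H (i - 1)).comap π, by simp, ?_, ?_, ?_⟩
  · show (if n + 1 = 0 then ⊥ else (H (n + 1 - 1)).comap π) = ⊤
    rw [if_neg (by omega), Nat.add_sub_cancel, hn, comap_top]
  · intro i
    by_cases hi : i = 0
    · simp only [hi, if_true]; infer_instance
    · simp only [hi, if_false]
      have := hnorm (i - 1)
      exact Subgroup.normal_comap π
  · intro i hi
    show ∃ g : G, (if i + 1 = 0 then ⊥ else (H (i + 1 - 1)).comap π) =
      (if i = 0 then ⊥ else (H (i - 1)).comap π) ⊔ zpowers g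
    rw [if_neg (by omega), Nat.add_sub_cancel]
    by_cases hi0 : i = 0
    · refine ⟨g₀, ?_⟩
      rw [if_pos hi0, hi0, h0, bot_sup_eq, ← hNz]
      exact QuotientGroup.ker_mk' N
    · rw [if_neg hi0]
      obtain ⟨j, rfl⟩ : ∃ j, i = j + 1 := ⟨i - 1, by omega⟩
      rw [Nat.add_sub_cancel]
      obtain ⟨gb, hgb⟩ := hstep j (by omega)
      obtain ⟨g, rfl⟩ := hπs gb
      refine ⟨g, ?_⟩
      rw [hgb, ← MonoidHom.map_zpowers]
      apply le_antisymm
      · rw [← comap_sup_eq π (H j) (map π (zpowers g)) hπs, comap_map_eq]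
        apply sup_le le_sup_left
        apply sup_le le_sup_right
        exact le_trans (Subgroup.ker_le_comap π (H j)) le_sup_left
      · apply sup_le (comap_mono le_sup_left)
        rw [← map_le_iff_le_comap]
        exact le_sup_right

/-- A nontrivial supersolvable group has a nontrivial cyclic normal subgroup. -/
theorem exists_normal_isCyclic {G : Type u} [Group G] [Nontrivial G]
    (hG : Cfsg.IsSupersolvable G) : ∃ N : Subgroup G, N.Normal ∧ IsCyclic N ∧ N ≠ ⊥ := by
  classical
  rw [iff_nat_chain] at hG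
  obtain ⟨n, H, h0, hn, hnorm, hstep⟩ := hG
  have hex : ∃ i, H i ≠ ⊥ := ⟨n, by rw [hn]; exact top_ne_bot⟩
  have hspec := Nat.find_spec hex
  have hmin := fun {m : ℕ} (h : m < Nat.find hex) => not_not.1 (Nat.find_min hex h)
  set i := Nat.find hex with hi
  have hi0 : i ≠ 0 := by
    intro h
    rw [h] at hspec
    exact hspec h0
  have hin : i ≤ n := Nat.find_min' hex (by rw [hn]; exact top_ne_bot)
  obtain ⟨j, hj⟩ : ∃ j, i = j + 1 := ⟨i - 1, by omega⟩
  obtain ⟨g, hg⟩ := hstep j (by omega)
  have hHj : H j = ⊥ := hmin (by omega)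
  rw [hHj, bot_sup_eq, ← hj] at hg
  refine ⟨H i, hnorm i, ?_, hspec⟩
  rw [hg]
  infer_instance

/-- A subgroup of a cyclic normal subgroup is normal. -/
theorem normal_of_le_isCyclic {G : Type u} [Group G] {N M : Subgroup G}
    (hN : N.Normal) (hc : IsCyclic N) (hMN : M ≤ N) : M.Normal := by
  obtain ⟨⟨g₀, hg₀⟩, hgen⟩ := hc.exists_generator
  have hz : ∀ x ∈ N, ∃ m : ℤ, g₀ ^ m = x := by
    intro x hx
    obtain ⟨m, hm⟩ := mem_zpowers_iff.1 (hgen ⟨x, hx⟩)
    exact ⟨m, by simpa using congrArg Subtype.val hm⟩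
  refine ⟨fun h hh x => ?_⟩
  obtain ⟨s, hs⟩ := hz h (hMN hh)
  obtain ⟨k, hk⟩ := hz (x * g₀ * x⁻¹) (hN.conj_mem g₀ hg₀ x)
  have : x * h * x⁻¹ = h ^ k := by
    rw [← hs, ← conj_zpow, ← hk, ← zpow_mul, ← zpow_mul, mul_comm]
  rw [this]
  exact zpow_mem hh k

/-- A nontrivial finite supersolvable group has a normal subgroup of prime order. -/
theorem exists_normal_prime_card {G : Type u} [Group G] [Finite G] [Nontrivial G]
    (hG : Cfsg.IsSupersolvable G) : ∃ N : Subgroup G, N.Normal ∧ (Nat.card N).Prime := by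
  obtain ⟨N, hN, hc, hne⟩ := exists_normal_isCyclic hG
  have hcard : Nat.card N ≠ 1 := by
    rw [Ne, Subgroup.card_eq_one]; exact hne
  obtain ⟨p, hp, hpd⟩ := Nat.exists_prime_and_dvd hcard
  have := Fact.mk hp
  obtain ⟨x, hx⟩ := exists_prime_orderOf_dvd_card' (G := N) p hpd
  refine ⟨zpowers (x : G), normal_of_le_isCyclic hN hc (by rw [zpowers_le]; exact x.2), ?_⟩
  rw [Nat.card_zpowers, Subgroup.orderOf_coe, hx]
  exact hp

/-- A minimal normal subgroup of a finite supersolvable group has prime order. More precisely,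
every nontrivial normal subgroup `K` of a finite supersolvable group contains a normal subgroup of
`G` of prime order. -/
theorem exists_normal_prime_card_le {G : Type u} [Group G] [Finite G]
    (hG : Cfsg.IsSupersolvable G) (K : Subgroup G) (hK : K.Normal) (hne : K ≠ ⊥) :
    ∃ N : Subgroup G, N.Normal ∧ N ≤ K ∧ (Nat.card N).Prime := by
  classical
  rw [iff_nat_chain] at hG
  obtain ⟨n, H, h0, hn, hnorm, hstep⟩ := hG
  have hex : ∃ i, K ⊓ H i ≠ ⊥ := ⟨n, by rw [hn, inf_top_eq]; exact hne⟩
  have hspec := Nat.find_spec hex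
  have hmin := fun {m : ℕ} (h : m < Nat.find hex) => not_not.1 (Nat.find_min hex h)
  set i := Nat.find hex with hi
  have hi0 : i ≠ 0 := by
    intro h
    rw [h, h0, inf_bot_eq] at hspec
    exact hspec rfl
  have hin : i ≤ n := Nat.find_min' hex (by rw [hn, inf_top_eq]; exact hne)
  obtain ⟨j, hj⟩ : ∃ j, i = j + 1 := ⟨i - 1, by omega⟩
  obtain ⟨g, hg⟩ := hstep j (by omega)
  have hKj : K ⊓ H j = ⊥ := hmin (by omega)
  rw [← hj] at hg
  have hni := hnorm i
  have hnj := hnorm j
  obtain ⟨k, hk⟩ := comap_sup_zpowers K.subtype (H j) g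
  rw [← hg] at hk
  have hbot : (H j).comap K.subtype = ⊥ := by
    rw [eq_bot_iff]
    intro x hx
    have : (x : G) ∈ K ⊓ H j := ⟨x.2, hx⟩
    rw [hKj, mem_bot] at this
    exact Subtype.ext this
  rw [hbot, bot_sup_eq] at hk
  have hKi : K ⊓ H i = zpowers (k : G) := by
    have h1 : ((H i).comap K.subtype).map K.subtype = (zpowers k).map K.subtype := by rw [hk]
    have h2 : ((H i).comap K.subtype).map K.subtype = H i ⊓ K := Subgroup.subgroupOf_map_subtype _ _
    rw [h2, MonoidHom.map_zpowers] at h1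
    rw [inf_comm, h1]; rfl
  have hc : IsCyclic (K ⊓ H i : Subgroup G) := by
    rw [hKi]; infer_instance
  have hN : (K ⊓ H i : Subgroup G).Normal := by infer_instance
  have hcard : Nat.card (K ⊓ H i : Subgroup G) ≠ 1 := by
    rw [Ne, Subgroup.card_eq_one]; exact hspec
  obtain ⟨p, hp, hpd⟩ := Nat.exists_prime_and_dvd hcard
  have := Fact.mk hp
  obtain ⟨x, hx⟩ := exists_prime_orderOf_dvd_card' (G := (K ⊓ H i : Subgroup G)) p hpd
  refine ⟨zpowers (x : G), normal_of_le_isCyclic hN hc (by rw [zpowers_le]; exact x.2), ?_, ?_⟩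
  · rw [zpowers_le]; exact x.2.1
  · rw [Nat.card_zpowers, Subgroup.orderOf_coe, hx]
    exact hp

/-- The commutators of the elements of `A ⊔ zpowers g` lie in the normal subgroup `A`. -/
theorem commutator_sup_zpowers_le {G : Type u} [Group G] (A : Subgroup G) [A.Normal] (g : G) :
    ⁅A ⊔ zpowers g, A ⊔ zpowers g⁆ ≤ A := by
  set π : G →* G ⧸ A := QuotientGroup.mk' A with hπ
  have hker : ∀ x : G, π x = 1 ↔ x ∈ A := fun x => by
    rw [hπ]; exact QuotientGroup.eq_one_iff x
  have hz : ∀ x ∈ A ⊔ zpowers g, ∃ n : ℤ, π x = π g ^ n := by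
    intro x hx
    obtain ⟨a, ha, b, hb, rfl⟩ := (Subgroup.mem_sup_of_normal_left (s := A) (t := zpowers g)).1 hx
    obtain ⟨n, rfl⟩ := mem_zpowers_iff.1 hb
    exact ⟨n, by rw [map_mul, (hker a).2 ha, one_mul, map_zpow]⟩
  rw [Subgroup.commutator_le]
  intro x hx y hy
  obtain ⟨m, hm⟩ := hz x hx
  obtain ⟨n, hn⟩ := hz y hy
  rw [← hker, map_commutatorElement, hm, hn, commutatorElement_eq_one_iff_mul_comm,
    ← zpow_add, ← zpow_add, add_comm]

/-- Supersolvable groups are solvable. -/
theorem isSolvable {G : Type u} [Group G] (hG : Cfsg.IsSupersolvable G) :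
    Group.IsSolvable G := by
  rw [iff_nat_chain] at hG
  obtain ⟨n, H, h0, hn, hnorm, hstep⟩ := hG
  rw [Group.isSolvable_def]
  refine ⟨n, ?_⟩
  suffices hk : ∀ k, k ≤ n → derivedSeries G k ≤ H (n - k) by
    have := hk n le_rfl
    rw [Nat.sub_self, h0] at this
    exact eq_bot_iff.2 this
  intro k
  induction k with
  | zero => intro _; rw [Nat.sub_zero, hn]; exact le_top
  | succ k ih =>
    intro hk
    obtain ⟨j, hj⟩ : ∃ j, n - k = j + 1 := ⟨n - k - 1, by omega⟩
    have h1 := ih (by omega)
    obtain ⟨g, hg⟩ := hstep j (by omega)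
    rw [hj] at h1
    have hj' : n - (k + 1) = j := by omega
    rw [hj', derivedSeries_succ]
    have := hnorm j
    refine le_trans (Subgroup.commutator_mono h1 h1) ?_
    rw [hg]
    exact commutator_sup_zpowers_le (H j) g

/-- Induction along normal subgroups of prime order. -/
theorem induction_on {P : ∀ (G : Type u) [Group G] [Finite G], Prop}
    (h0 : ∀ (G : Type u) [Group G] [Finite G], Subsingleton G → P G)
    (h1 : ∀ (G : Type u) [Group G] [Finite G] (N : Subgroup G) [N.Normal],
      Cfsg.IsSupersolvable G → (Nat.card N).Prime → P (G ⧸ N) → P G)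
    (G : Type u) [Group G] [Finite G] (hG : Cfsg.IsSupersolvable G) : P G := by
  suffices H : ∀ n : ℕ, ∀ (G : Type u) [Group G] [Finite G], Cfsg.IsSupersolvable G →
      Nat.card G = n → P G from H _ G hG rfl
  intro n
  induction n using Nat.strong_induction_on with
  | _ n ih =>
    intro G _ _ hG hn
    rcases subsingleton_or_nontrivial G with hs | hs
    · exact h0 G hs
    · obtain ⟨N, hN, hp⟩ := exists_normal_prime_card hG
      refine h1 G N hG hp (ih (Nat.card (G ⧸ N)) ?_ (G ⧸ N) (quotient hG N) rfl)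
      rw [← hn, Subgroup.card_eq_card_quotient_mul_card_subgroup N]
      exact lt_mul_of_one_lt_right Nat.card_pos hp.one_lt

/-- A finite supersolvable group has a subgroup of index `p` for each prime `p` dividing its
order. -/
theorem exists_index_eq_prime {G : Type u} [Group G] [Finite G] (hG : Cfsg.IsSupersolvable G)
    {p : ℕ} (hp : p.Prime) (h : p ∣ Nat.card G) : ∃ M : Subgroup G, M.index = p := by
  revert h
  refine induction_on (P := fun G _ _ => p ∣ Nat.card G → ∃ M : Subgroup G, M.index = p)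
    ?_ ?_ G hG
  · intro G _ _ hs h
    rw [Nat.card_unique] at h
    exact absurd (Nat.dvd_one.1 h) hp.one_lt.ne'
  · intro G _ _ N _ hG hN ih h
    by_cases hpq : p ∣ Nat.card (G ⧸ N)
    · obtain ⟨M, hM⟩ := ih hpq
      refine ⟨M.comap (QuotientGroup.mk' N), ?_⟩
      rw [Subgroup.index_comap_of_surjective _ (QuotientGroup.mk'_surjective N), hM]
    · have hcardN : Nat.card N = p := by
        rw [Subgroup.card_eq_card_quotient_mul_card_subgroup N] at h
        have := (hp.dvd_mul.1 h).resolve_left hpq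
        exact ((Nat.prime_dvd_prime_iff_eq hp hN).1 this).symm
      have hcop : (Nat.card N).Coprime N.index := by
        rw [hcardN, Nat.Prime.coprime_iff_not_dvd hp]
        exact hpq
      obtain ⟨M, hM⟩ := Subgroup.exists_right_complement'_of_coprime hcop
      exact ⟨M, by rw [hM.index_eq_card, hcardN]⟩

/-- A finite supersolvable group satisfies the converse of Lagrange's theorem. -/
theorem exists_card_eq {G : Type u} [Group G] [Finite G] (hG : Cfsg.IsSupersolvable G)
    {d : ℕ} (hd : d ∣ Nat.card G) : ∃ H : Subgroup G, Nat.card H = d := by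
  suffices H : ∀ n : ℕ, ∀ (G : Type u) [Group G] [Finite G], Cfsg.IsSupersolvable G →
      Nat.card G = n → ∀ d, d ∣ Nat.card G → ∃ H : Subgroup G, Nat.card H = d from
    H _ G hG rfl d hd
  clear hd d hG
  intro n
  induction n using Nat.strong_induction_on with
  | _ n ih =>
    intro G _ _ hG hn d hd
    by_cases hdn : Nat.card G / d = 1
    · refine ⟨⊤, ?_⟩
      rw [Subgroup.card_top]
      have := Nat.div_mul_cancel hd
      rw [hdn, one_mul] at this
      exact this.symm
    · obtain ⟨p, hp, hpd⟩ := Nat.exists_prime_and_dvd hdn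
      have hcd := Nat.div_mul_cancel hd
      obtain ⟨c, hc⟩ := hpd
      have hpG : p ∣ Nat.card G := ⟨c * d, by rw [← hcd, hc]; ring⟩
      obtain ⟨M, hM⟩ := exists_index_eq_prime hG hp hpG
      have hMc := M.card_mul_index
      rw [hM] at hMc
      have hMd : d ∣ Nat.card M := by
        refine ⟨c, ?_⟩
        have : p * Nat.card M = p * (d * c) := by
          rw [mul_comm p (Nat.card M), hMc, ← hcd, hc]; ring
        exact Nat.eq_of_mul_eq_mul_left hp.pos this
      have hlt : Nat.card M < n := by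
        rw [← hn, ← hMc]
        exact lt_mul_of_one_lt_right Nat.card_pos hp.one_lt
      obtain ⟨H, hH⟩ := ih _ hlt M (subgroup hG M) rfl d hMd
      refine ⟨H.map M.subtype, ?_⟩
      rw [← hH]
      exact Nat.card_congr (H.equivMapOfInjective M.subtype M.subtype_injective).toEquiv.symm

end Cfsg.Agent.SolvableStructure.SupersolvableBasic
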