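import Mathlib
import Cfsg.Prelude.Def_SolvableStructure

set_option autoImplicit false
open Cfsg

namespace Cfsg.Agent.SolvableStructure.HereditaryCLT

/-- The hereditary converse of Lagrange's theorem passes to subgroups. -/
theorem hereditary_subgroup {G : Type*} [Group G]
    (h : ∀ H : Subgroup G, Cfsg.HasSubgroupOfEveryOrder H) (K : Subgroup G) :
    ∀ H : Subgroup K, Cfsg.HasSubgroupOfEveryOrder H := by
  intro H d hd
  have e : H ≃* (H.map K.subtype) := H.equivMapOfInjective K.subtype K.subtype_injective
  have hd' : d ∣ Nat.card (H.map K.subtype) := by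
    rwa [← Nat.card_congr e.toEquiv]
  obtain ⟨L, hL⟩ := h (H.map K.subtype) d hd'
  refine ⟨L.map e.symm.toMonoidHom, ?_⟩
  rw [← hL]
  exact (Nat.card_congr (L.equivMapOfInjective e.symm.toMonoidHom e.symm.injective).toEquiv).symm

/-- A group with the hereditary converse of Lagrange's theorem has subgroups of each order
dividing its order. -/
theorem exists_subgroup_card {G : Type*} [Group G]
    (h : ∀ H : Subgroup G, Cfsg.HasSubgroupOfEveryOrder H) (d : ℕ) (hd : d ∣ Nat.card G) :
    ∃ H : Subgroup G, Nat.card H = d := by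
  have hd' : d ∣ Nat.card (⊤ : Subgroup G) := by
    rwa [Subgroup.card_top]
  obtain ⟨L, hL⟩ := h ⊤ d hd'
  refine ⟨L.map (⊤ : Subgroup G).subtype, ?_⟩
  rw [← hL]
  exact (Nat.card_congr
    (L.equivMapOfInjective (⊤ : Subgroup G).subtype (⊤ : Subgroup G).subtype_injective).toEquiv).symm

/-- A group with the hereditary converse of Lagrange's theorem has subgroups of each index
dividing its order. -/
theorem exists_subgroup_index {G : Type*} [Group G] [Finite G]
    (h : ∀ H : Subgroup G, Cfsg.HasSubgroupOfEveryOrder H) (d : ℕ) (hd : d ∣ Nat.card G) :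
    ∃ H : Subgroup G, H.index = d := by
  obtain ⟨c, hc⟩ := hd
  have hpos : 0 < Nat.card G := Nat.card_pos
  have hcpos : 0 < c := by
    rcases Nat.eq_zero_or_pos c with h0 | h0
    · subst h0; simp at hc; omega
    · exact h0
  obtain ⟨H, hH⟩ := exists_subgroup_card h c ⟨d, by rw [hc]; ring⟩
  refine ⟨H, ?_⟩
  have h1 := H.card_mul_index
  rw [hH, hc, mul_comm d c] at h1
  exact Nat.eq_of_mul_eq_mul_left hcpos h1

/-- A Sylow subgroup is contained in each normal subgroup whose index is prime to `p`. -/
theorem sylow_le_of_normal_of_not_dvd_index {G : Type*} [Group G] [Finite G] {p : ℕ}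
    [hp : Fact p.Prime] (P : Sylow p G) (N : Subgroup G) [N.Normal] (hN : ¬ p ∣ N.index) :
    (P : Subgroup G) ≤ N := by
  have h1 : IsPGroup p ((P : Subgroup G).map (QuotientGroup.mk' N)) := P.isPGroup'.map _
  have h2 : Nat.card ((P : Subgroup G).map (QuotientGroup.mk' N)) = 1 := by
    obtain ⟨k, hk⟩ := IsPGroup.iff_card.mp h1
    rcases Nat.eq_zero_or_pos k with h0 | h0
    · rw [hk, h0, pow_zero]
    · exfalso
      apply hN
      have h3 : Nat.card ((P : Subgroup G).map (QuotientGroup.mk' N)) ∣ Nat.card (G ⧸ N) :=
        Subgroup.card_subgroup_dvd_card _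
      rw [hk] at h3
      exact (dvd_pow_self p h0.ne').trans h3
  have h4 : (P : Subgroup G).map (QuotientGroup.mk' N) = ⊥ := Subgroup.card_eq_one.mp h2
  have h5 := (Subgroup.map_eq_bot_iff _).mp h4
  rwa [QuotientGroup.ker_mk'] at h5

/-- S0532. -/
theorem normal_sylow_largest : ∀ (n : ℕ) {G : Type*} [Group G] [Finite G],
    Nat.card G ≤ n → (∀ H : Subgroup G, Cfsg.HasSubgroupOfEveryOrder H) →
    ∀ (p : ℕ) [Fact p.Prime], (∀ q : ℕ, q.Prime → q ∣ Nat.card G → q ≤ p) →
    ∀ P : Sylow p G, (P : Subgroup G).Normal := by
  intro n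
  induction n with
  | zero =>
    intro G _ _ hn
    have : 0 < Nat.card G := Nat.card_pos
    omega
  | succ n ih =>
    intro G _ _ hn h p hp hmax P
    by_cases hG1 : Nat.card G = 1
    · have : Subsingleton G := (Nat.card_eq_one_iff_unique.mp hG1).1
      have h1 : (P : Subgroup G) = ⊤ := Subsingleton.elim _ _
      rw [h1]; infer_instance
    set q := (Nat.card G).minFac with hq
    have hqp : q.Prime := Nat.minFac_prime hG1
    have hqd : q ∣ Nat.card G := Nat.minFac_dvd _
    have hqle : q ≤ p := hmax q hqp hqd
    rcases hqle.lt_or_eq with hlt | heq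
    · obtain ⟨H, hH⟩ := exists_subgroup_index h q hqd
      have hHn : H.Normal := Subgroup.normal_of_index_eq_minFac_card hH
      have hPH : (P : Subgroup G) ≤ H := by
        apply sylow_le_of_normal_of_not_dvd_index P H
        rw [hH]
        intro hd
        have := (Nat.prime_dvd_prime_iff_eq hp.out hqp).mp hd
        omega
      have hcard : Nat.card H ≤ n := by
        have h1 := H.card_mul_index
        rw [hH] at h1
        have h2 := hqp.two_le
        have h3 : 0 < Nat.card H := Nat.card_pos
        nlinarith
      have hdv : Nat.card H ∣ Nat.card G := Subgroup.card_subgroup_dvd_card H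
      have h1 : ((P.subtype hPH : Sylow p H) : Subgroup H).Normal :=
        ih hcard (hereditary_subgroup h H) p (fun r hr hrd => hmax r hr (hrd.trans hdv)) _
      have h2 : ((P.subtype hPH : Sylow p H) : Subgroup H).Characteristic :=
        Sylow.characteristic_of_normal _ h1
      have h3 : (((P.subtype hPH : Sylow p H) : Subgroup H).map H.subtype).Normal := inferInstance
      rw [Sylow.coe_subtype, Subgroup.subgroupOf_map_subtype, inf_eq_left.mpr hPH] at h3
      exact h3
    · -- `G` is a `p`-group
      have hpg : IsPGroup p G := by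
        rw [IsPGroup.iff_card]
        refine ⟨(Nat.card G).primeFactorsList.length, ?_⟩
        apply Nat.eq_prime_pow_of_unique_prime_dvd Nat.card_pos.ne'
        intro r hr hrd
        apply le_antisymm (hmax r hr hrd)
        rw [← heq]
        exact Nat.minFac_le_of_dvd hr.two_le hrd
      have h1 : (⊤ : Subgroup G) = (P : Subgroup G) :=
        P.is_maximal' (IsPGroup.to_subgroup hpg ⊤) le_top
      rw [← h1]; infer_instance

end Cfsg.Agent.SolvableStructure.HereditaryCLT
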