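import Mathlib
import Cfsg.Agent.S0019
import Cfsg.Agent.S0144

set_option autoImplicit false

namespace Cfsg.Agent.SolvableStructure.HallConverse

universe u

/-- Coprime indices multiply. -/
theorem index_inf_of_coprime {G : Type u} [Group G] [Finite G] (H K : Subgroup G)
    (h : H.index.Coprime K.index) : (H ⊓ K).index = H.index * K.index := by
  apply le_antisymm Subgroup.index_inf_le
  apply Nat.le_of_dvd (Nat.pos_of_ne_zero Subgroup.index_ne_zero_of_finite)
  exact h.mul_dvd_of_dvd_of_dvd (Subgroup.index_dvd_of_le inf_le_left)
    (Subgroup.index_dvd_of_le inf_le_right)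

theorem relIndex_of_coprime {G : Type u} [Group G] [Finite G] (H K : Subgroup G)
    (h : H.index.Coprime K.index) : K.relIndex H = K.index := by
  have h1 := index_inf_of_coprime H K h
  have h2 := Subgroup.relIndex_mul_index (H := H ⊓ K) (K := H) inf_le_left
  rw [Subgroup.inf_relIndex_left, h1, mul_comm] at h2
  exact Nat.eq_of_mul_eq_mul_left (Nat.pos_of_ne_zero Subgroup.index_ne_zero_of_finite) h2

/-- Subgroups of coprime index factorise the group. -/
theorem exists_mul_of_coprime {G : Type u} [Group G] [Finite G] (H K : Subgroup G)
    (h : H.index.Coprime K.index) : ∀ g : G, ∃ x ∈ H, ∃ y ∈ K, g = x * y := by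
  let f : H ⧸ K.subgroupOf H → G ⧸ K :=
    Quotient.map' (fun x : H => (x : G)) (by
      intro a b hab
      rw [QuotientGroup.leftRel_apply] at hab ⊢
      simpa [Subgroup.mem_subgroupOf] using hab)
  have hf : Function.Injective f := by
    intro a b
    induction a using QuotientGroup.induction_on with
    | H a =>
      induction b using QuotientGroup.induction_on with
      | H b =>
        intro hab
        have h1 : ((a : G) : G ⧸ K) = ((b : G) : G ⧸ K) := hab
        rw [QuotientGroup.eq] at h1 ⊢
        simpa [Subgroup.mem_subgroupOf] using h1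
  have hc : Nat.card (H ⧸ K.subgroupOf H) = Nat.card (G ⧸ K) := relIndex_of_coprime H K h
  have hb : Function.Bijective f := (Nat.bijective_iff_injective_and_card f).mpr ⟨hf, hc⟩
  intro g
  obtain ⟨a, ha⟩ := hb.2 (g : G ⧸ K)
  induction a using QuotientGroup.induction_on with
  | H a =>
    have h1 : ((a : G) : G ⧸ K) = (g : G ⧸ K) := ha
    rw [QuotientGroup.eq] at h1
    exact ⟨a, a.2, (a : G)⁻¹ * g, h1, by group⟩

/-- A finite group whose order has no three distinct prime divisors is solvable. -/
theorem isSolvable_of_no_three_primes {G : Type u} [Group G] [Finite G]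
    (h : (Nat.card G).primeFactors.card ≤ 2) : Group.IsSolvable G := by
  have hG : Nat.card G ≠ 0 := Nat.card_pos.ne'
  have key : ∃ p q : ℕ, p.Prime ∧ q.Prime ∧ p ≠ q ∧ (Nat.card G).primeFactors ⊆ {p, q} := by
    rcases Nat.lt_or_ge (Nat.card G).primeFactors.card 1 with h0 | h1
    · rw [Nat.lt_one_iff, Finset.card_eq_zero] at h0
      exact ⟨2, 3, Nat.prime_two, Nat.prime_three, by norm_num, by simp [h0]⟩
    · rcases Nat.lt_or_ge (Nat.card G).primeFactors.card 2 with h2 | h2
      · obtain ⟨p, hp⟩ := Finset.card_eq_one.mp (by omega : (Nat.card G).primeFactors.card = 1)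
        have hpp : p.Prime := Nat.prime_of_mem_primeFactors (n := Nat.card G) (by simp [hp])
        obtain ⟨q, hpq, hq⟩ := Nat.exists_infinite_primes (p + 1)
        exact ⟨p, q, hpp, hq, by omega, by rw [hp]; simp⟩
      · obtain ⟨p, q, hpq, hs⟩ :=
          Finset.card_eq_two.mp (by omega : (Nat.card G).primeFactors.card = 2)
        exact ⟨p, q, Nat.prime_of_mem_primeFactors (n := Nat.card G) (by simp [hs]),
          Nat.prime_of_mem_primeFactors (n := Nat.card G) (by simp [hs]), hpq, by rw [hs]⟩
  obtain ⟨p, q, hp, hq, hpq, hs⟩ := key
  refine Cfsg.Agent.S0144.result p q ((Nat.card G).factorization p) ((Nat.card G).factorization q)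
    hp hq ?_
  conv_lhs => rw [← Nat.prod_factorization_pow_eq_self hG]
  rw [Finsupp.prod_of_support_subset _ (s := {p, q}) (by simpa using hs) _ (by simp)]
  rw [Finset.prod_pair hpq]

/-- **Converse of Hall's theorem**: a finite group with a Hall `p`-complement for each prime `p`
is solvable. -/
theorem hall_converse : ∀ (n : ℕ) (G : Type u) [Group G] [Finite G], Nat.card G = n →
    (∀ p : ℕ, p.Prime → ∃ H : Subgroup G, H.index = p ^ (Nat.card G).factorization p) →
    Group.IsSolvable G := by
  intro n
  induction n using Nat.strong_induction_on with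
  | _ n ih =>
    intro G _ _ hn h
    by_cases h3 : (Nat.card G).primeFactors.card ≤ 2
    · exact isSolvable_of_no_three_primes h3
    · have hG : Nat.card G ≠ 0 := Nat.card_pos.ne'
      obtain ⟨p, hp, q, hq, r, hr, hpq, hpr, hqr⟩ := Finset.two_lt_card.mp (not_le.mp h3)
      -- the complement for a prime divisor is solvable
      have key : ∀ p : ℕ, p ∈ (Nat.card G).primeFactors → ∀ H : Subgroup G,
          H.index = p ^ (Nat.card G).factorization p → Group.IsSolvable H := by
        intro p hp H hH
        have hpp := Nat.prime_of_mem_primeFactors hp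
        have hpd := Nat.dvd_of_mem_primeFactors hp
        have hpos : 0 < (Nat.card G).factorization p :=
          hpp.factorization_pos_of_dvd hG hpd
        have hmul : Nat.card H * H.index = Nat.card G := Subgroup.card_mul_index H
        have hHi : 1 < H.index := by
          rw [hH]; exact Nat.one_lt_pow hpos.ne' hpp.one_lt
        have hlt : Nat.card H < n := by
          rw [← hn, ← hmul]
          exact lt_mul_of_one_lt_right Nat.card_pos hHi
        have hfac : ∀ s : ℕ, s.Prime → s ≠ p →
            (Nat.card H).factorization s = (Nat.card G).factorization s := by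
          intro s hs hsp
          rw [← hmul, Nat.factorization_mul Nat.card_pos.ne' (by omega), Finsupp.add_apply, hH,
            hpp.factorization_pow, Finsupp.single_apply, if_neg (Ne.symm hsp), add_zero]
        refine ih _ hlt H rfl fun s hs => ?_
        by_cases hsp : s = p
        · subst hsp
          refine ⟨⊤, ?_⟩
          have : (Nat.card H).factorization s = 0 := by
            have h1 : (Nat.card G).factorization s
                = (Nat.card H).factorization s + (Nat.card G).factorization s := by
              conv_lhs => rw [← hmul, Nat.factorization_mul Nat.card_pos.ne' (by omega),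
                Finsupp.add_apply, hH, hpp.factorization_pow, Finsupp.single_apply, if_pos rfl]
            omega
          rw [this, Subgroup.index_top, pow_zero]
        · obtain ⟨K, hK⟩ := h s hs
          refine ⟨K.subgroupOf H, ?_⟩
          have hcop : H.index.Coprime K.index := by
            rw [hH, hK]
            exact Nat.Coprime.pow _ _ ((Nat.coprime_primes hpp hs).mpr (Ne.symm hsp))
          have h1 : (K.subgroupOf H).index = K.index := relIndex_of_coprime H K hcop
          rw [h1, hK, hfac s hs hsp]
      have hpp := Nat.prime_of_mem_primeFactors hp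
      have hqp := Nat.prime_of_mem_primeFactors hq
      have hrp := Nat.prime_of_mem_primeFactors hr
      obtain ⟨H₁, h₁⟩ := h p hpp
      obtain ⟨H₂, h₂⟩ := h q hqp
      obtain ⟨H₃, h₃⟩ := h r hrp
      have c12 : H₁.index.Coprime H₂.index := by
        rw [h₁, h₂]; exact Nat.Coprime.pow _ _ ((Nat.coprime_primes hpp hqp).mpr hpq)
      have c13 : H₁.index.Coprime H₃.index := by
        rw [h₁, h₃]; exact Nat.Coprime.pow _ _ ((Nat.coprime_primes hpp hrp).mpr hpr)
      have c23 : H₂.index.Coprime H₃.index := by
        rw [h₂, h₃]; exact Nat.Coprime.pow _ _ ((Nat.coprime_primes hqp hrp).mpr hqr)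
      exact Cfsg.Agent.S0019.result H₁ H₂ H₃ (key p hp H₁ h₁) (key q hq H₂ h₂) (key r hr H₃ h₃)
        (exists_mul_of_coprime H₁ H₂ c12) (exists_mul_of_coprime H₁ H₃ c13) c23

end Cfsg.Agent.SolvableStructure.HallConverse
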