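import Mathlib
import Cfsg.Prelude.Def_SolvableStructure
import Cfsg.Agent.S0004

/-!
Hall complement systems of finite solvable groups: two complement systems `K`, `L` with
`K p ⊔ N = L p ⊔ N` for all `p` (`N` normal) are conjugate by an element of `N`; images of
complement systems in quotients.  The only input is conjugacy of Hall subgroups (S0004).
-/

set_option autoImplicit false

namespace Cfsg.Agent.SolvableStructure.ComplementSystem

open Subgroup
open scoped Pointwise

variable {G : Type*} [Group G]

/-- Index of the intersection of two subgroups of coprime index. -/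
theorem index_inf_of_coprime [Finite G] {H K : Subgroup G} (h : H.index.Coprime K.index) :
    (H ⊓ K).index = H.index * K.index := by
  apply le_antisymm (Subgroup.index_inf_le (H := H) (K := K))
  have h1 : H.index ∣ (H ⊓ K).index := Subgroup.index_dvd_of_le inf_le_left
  have h2 : K.index ∣ (H ⊓ K).index := Subgroup.index_dvd_of_le inf_le_right
  exact Nat.le_of_dvd (Nat.pos_of_ne_zero Subgroup.index_ne_zero_of_finite)
    (h.mul_dvd_of_dvd_of_dvd h1 h2)

/-- If two subgroups have coprime index, then every element is a product `x * y` with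
`x ∈ H` and `y ∈ K`. -/
theorem exists_mul_of_coprime [Finite G] {H K : Subgroup G} (h : H.index.Coprime K.index)
    (g : G) : ∃ x ∈ H, ∃ y ∈ K, g = x * y := by
  have h1 : (H ⊓ K).relIndex K * K.index = (H ⊓ K).index :=
    Subgroup.relIndex_mul_index inf_le_right
  rw [Subgroup.inf_relIndex_right, index_inf_of_coprime h] at h1
  have h2 : H.relIndex K = H.index :=
    Nat.eq_of_mul_eq_mul_right (Nat.pos_of_ne_zero Subgroup.index_ne_zero_of_finite) h1
  have h3 : (MulAction.stabilizer K ((1 : G) : G ⧸ H)) = H.subgroupOf K := by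
    ext k
    rw [MulAction.mem_stabilizer_iff, Subgroup.mem_subgroupOf]
    change (((k : G) • (1 : G) : G) : G ⧸ H) = ((1 : G) : G ⧸ H) ↔ _
    rw [smul_eq_mul, mul_one, QuotientGroup.eq, mul_one, inv_mem_iff]
  have h4 : (MulAction.orbit K ((1 : G) : G ⧸ H)).ncard = (Set.univ : Set (G ⧸ H)).ncard := by
    rw [← MulAction.index_stabilizer, h3, Set.ncard_univ]
    exact h2
  have h5 : MulAction.orbit K ((1 : G) : G ⧸ H) = Set.univ :=
    Set.eq_of_subset_of_ncard_le (Set.subset_univ _) h4.symm.le (Set.toFinite _)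
  have h6 : ((g⁻¹ : G) : G ⧸ H) ∈ MulAction.orbit K ((1 : G) : G ⧸ H) := h5 ▸ Set.mem_univ _
  obtain ⟨k, hk⟩ := h6
  change (((k : G) • (1 : G) : G) : G ⧸ H) = ((g⁻¹ : G) : G ⧸ H) at hk
  rw [smul_eq_mul, mul_one, QuotientGroup.eq] at hk
  refine ⟨g * k, ?_, (k : G)⁻¹, inv_mem k.2, by group⟩
  have := inv_mem hk
  simpa using this

/-- Index of the intersection of finitely many subgroups of pairwise coprime index. -/
theorem index_iInf_of_coprime [Finite G] {ι : Type*} (s : Finset ι) (H : ι → Subgroup G)
    (hH : ∀ i ∈ s, ∀ j ∈ s, i ≠ j → (H i).index.Coprime (H j).index) :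
    (⨅ i ∈ s, H i).index = ∏ i ∈ s, (H i).index := by
  classical
  induction s using Finset.induction_on with
  | empty => simp
  | insert a s ha ih =>
    have ih' := ih fun i hi j hj => hH i (Finset.mem_insert_of_mem hi) j (Finset.mem_insert_of_mem hj)
    rw [Finset.iInf_insert, Finset.prod_insert ha, ← ih']
    apply index_inf_of_coprime
    rw [ih']
    apply Nat.Coprime.prod_right
    intro i hi
    exact hH a (Finset.mem_insert_self a s) i (Finset.mem_insert_of_mem hi)
      (fun h => ha (h ▸ hi))

/-- Cosets of finitely many subgroups of pairwise coprime index have a common element. -/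
theorem exists_mem_of_coprime_index [Finite G] {ι : Type*} (s : Finset ι) (H : ι → Subgroup G)
    (hH : ∀ i ∈ s, ∀ j ∈ s, i ≠ j → (H i).index.Coprime (H j).index) (x : ι → G) :
    ∃ y : G, ∀ i ∈ s, (x i)⁻¹ * y ∈ H i := by
  classical
  induction s using Finset.induction_on with
  | empty => exact ⟨1, by simp⟩
  | insert a s ha ih =>
    obtain ⟨y, hy⟩ := ih fun i hi j hj =>
      hH i (Finset.mem_insert_of_mem hi) j (Finset.mem_insert_of_mem hj)
    have hcop : (H a).index.Coprime (⨅ i ∈ s, H i).index := by
      rw [index_iInf_of_coprime s H fun i hi j hj =>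
        hH i (Finset.mem_insert_of_mem hi) j (Finset.mem_insert_of_mem hj)]
      apply Nat.Coprime.prod_right
      intro i hi
      exact hH a (Finset.mem_insert_self a s) i (Finset.mem_insert_of_mem hi)
        (fun h => ha (h ▸ hi))
    obtain ⟨u, hu, v, hv, huv⟩ := exists_mul_of_coprime hcop ((x a)⁻¹ * y)
    refine ⟨y * v⁻¹, ?_⟩
    intro i hi
    rw [Finset.mem_insert] at hi
    rcases hi with rfl | hi
    · rw [← mul_assoc, huv, mul_inv_cancel_right]
      exact hu
    · rw [← mul_assoc]
      refine mul_mem (hy i hi) (inv_mem ?_)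
      simp only [Subgroup.mem_iInf] at hv
      exact hv i hi

/-- The order of a subgroup whose index is the full `p`-part of the group order is prime to `p`. -/
theorem coprime_card_of_index [Finite G] {p : ℕ} (hp : p.Prime) {H : Subgroup G}
    (h : H.index = p ^ (Nat.card G).factorization p) : (Nat.card H).Coprime p := by
  have h1 : Nat.card H * p ^ (Nat.card G).factorization p = Nat.card G := by
    rw [← h]; exact H.card_mul_index
  rw [Nat.coprime_comm, hp.coprime_iff_not_dvd]
  intro hd
  have h2 : p ^ ((Nat.card G).factorization p + 1) ∣ Nat.card G := by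
    conv_rhs => rw [← h1]
    rw [pow_succ, mul_comm]
    exact mul_dvd_mul_right hd _
  exact Nat.pow_succ_factorization_not_dvd Nat.card_pos.ne' hp h2

/-- A subgroup of `p`-power index and order prime to `p` has index the full `p`-part. -/
theorem index_eq_of_coprime [Finite G] {p b : ℕ} (hp : p.Prime) {H : Subgroup G}
    (h : H.index = p ^ b) (h' : (Nat.card H).Coprime p) :
    H.index = p ^ (Nat.card G).factorization p := by
  have h1 : Nat.card H * p ^ b = Nat.card G := by
    rw [← h]; exact H.card_mul_index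
  have h2 : ¬ p ∣ Nat.card H := by
    rw [Nat.coprime_comm, hp.coprime_iff_not_dvd] at h'
    exact h'
  rw [h, ← h1, Nat.factorization_mul Nat.card_pos.ne' (pow_ne_zero _ hp.ne_zero),
    hp.factorization_pow]
  simp [Nat.factorization_eq_zero_of_not_dvd h2]

/-- For a normal subgroup `N` the index of `H ⊓ N` in `N` divides the index of `H`. -/
theorem relIndex_dvd_index_of_normal' [Finite G] (H N : Subgroup G) [N.Normal] :
    H.relIndex N ∣ H.index := by
  have h1 : (H ⊓ N).relIndex N * N.index = (H ⊓ N).index :=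
    Subgroup.relIndex_mul_index inf_le_right
  have h2 : (H ⊓ N).relIndex H * H.index = (H ⊓ N).index :=
    Subgroup.relIndex_mul_index inf_le_left
  rw [Subgroup.inf_relIndex_right] at h1
  rw [Subgroup.inf_relIndex_left] at h2
  obtain ⟨c, hc⟩ := Subgroup.relIndex_dvd_index_of_normal (H := N) (K := H)
  have h3 : N.relIndex H ≠ 0 := by
    intro h0
    rw [h0, zero_mul] at hc
    exact Subgroup.index_ne_zero_of_finite hc
  refine ⟨c, ?_⟩
  have h4 : N.relIndex H * (H.relIndex N * c) = N.relIndex H * H.index := by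
    rw [h2, ← h1, hc]; ring
  exact (Nat.eq_of_mul_eq_mul_left (Nat.pos_of_ne_zero h3) h4).symm

/-- Image of a Hall `p`-complement in a quotient. -/
theorem isComplementSystem_map [Finite G] {K : Nat.Primes → Subgroup G}
    (hK : Cfsg.IsComplementSystem K) (N : Subgroup G) [N.Normal] :
    Cfsg.IsComplementSystem (fun p => (K p).map (QuotientGroup.mk' N)) := by
  intro p
  have h1 : ((K p).map (QuotientGroup.mk' N)).index ∣ (K p).index :=
    Subgroup.index_map_dvd (K p) (QuotientGroup.mk'_surjective N)
  rw [hK p] at h1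
  obtain ⟨b, -, hb⟩ := (Nat.dvd_prime_pow p.2).1 h1
  refine index_eq_of_coprime p.2 hb ?_
  exact Nat.Coprime.coprime_dvd_left (Subgroup.card_map_dvd (K p) _)
    (coprime_card_of_index p.2 (hK p))

/-- A conjugate of a complement system is a complement system. -/
theorem isComplementSystem_conj {K : Nat.Primes → Subgroup G}
    (hK : Cfsg.IsComplementSystem K) (g : G) :
    Cfsg.IsComplementSystem (fun p => MulAut.conj g • K p) := by
  intro p
  rw [← hK p]
  exact Subgroup.index_map_equiv (K p) (MulAut.conj g)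

/-- Conjugacy of two Hall `p`-complements `H`, `H'` with `H N = H' N` by an element of `N`. -/
theorem exists_conj_of_sup_eq_one [Finite G] [Group.IsSolvable G] {p : ℕ} (hp : p.Prime)
    {H H' : Subgroup G} (hH : H.index = p ^ (Nat.card G).factorization p)
    (hH' : H'.index = p ^ (Nat.card G).factorization p) (N : Subgroup G) [N.Normal]
    (h : H ⊔ N = H' ⊔ N) : ∃ n ∈ N, MulAut.conj n • H = H' := by
  have hcard : Nat.card H = Nat.card H' := by
    have h1 := H.card_mul_index
    have h2 := H'.card_mul_index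
    rw [hH] at h1
    rw [hH'] at h2
    exact Nat.eq_of_mul_eq_mul_right (pow_pos hp.pos _) (h1.trans h2.symm)
  have hle : H ≤ H ⊔ N := le_sup_left
  have hle' : H' ≤ H ⊔ N := h ▸ le_sup_left
  have hc1 : Nat.card (H.subgroupOf (H ⊔ N)) = Nat.card H :=
    Nat.card_congr (Subgroup.subgroupOfEquivOfLe hle).toEquiv
  have hc2 : Nat.card (H'.subgroupOf (H ⊔ N)) = Nat.card H := by
    rw [hcard]
    exact Nat.card_congr (Subgroup.subgroupOfEquivOfLe hle').toEquiv
  have hcard2 : Nat.card (H ⊔ N : Subgroup G) = Nat.card H * H.relIndex (H ⊔ N) := by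
    rw [← hc1]
    exact (Subgroup.card_mul_index _).symm
  have hcop : (Nat.card H).Coprime (H.relIndex (H ⊔ N)) := by
    have h1 : H.relIndex (H ⊔ N) ∣ p ^ (Nat.card G).factorization p := by
      rw [← hH]; exact Subgroup.relIndex_dvd_index_of_le hle
    exact Nat.Coprime.coprime_dvd_right h1 ((coprime_card_of_index hp hH).pow_right _)
  obtain ⟨g, hg⟩ := Cfsg.Agent.S0004.result (Nat.card H) (H.relIndex (H ⊔ N)) hcard2 hcop
    (H.subgroupOf (H ⊔ N)) (H'.subgroupOf (H ⊔ N)) hc1 hc2
  have hg' : MulAut.conj (g : G) • H = H' := by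
    have h1 := congrArg (Subgroup.map (H ⊔ N).subtype) hg
    rw [Subgroup.subgroupOf_map_subtype, inf_eq_left.2 hle'] at h1
    rw [← h1]
    ext x
    constructor
    · rintro ⟨y, hy, rfl⟩
      refine ⟨g * ⟨y, hle hy⟩ * g⁻¹, ?_, by simp⟩
      exact ⟨⟨y, hle hy⟩, by simpa [Subgroup.mem_subgroupOf] using hy, by simp⟩
    · rintro ⟨_, ⟨y, hy, rfl⟩, rfl⟩
      exact ⟨y, hy, by simp⟩
  obtain ⟨n, hn, k, hk, hnk⟩ := Subgroup.mem_sup_of_normal_left.1
    (show (g : G) ∈ N ⊔ H by rw [sup_comm]; exact g.2)
  refine ⟨n, hn, ?_⟩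
  rw [← hg', ← hnk, map_mul, mul_smul]
  congr 1
  ext x
  constructor
  · intro hx
    exact ⟨k⁻¹ * x * k, mul_mem (mul_mem (inv_mem hk) hx) hk, by simp; group⟩
  · rintro ⟨y, hy, rfl⟩
    simpa using mul_mem (mul_mem hk hy) (inv_mem hk)

theorem mem_normalizer_iff_conj_smul {H : Subgroup G} {g : G} :
    g ∈ Subgroup.normalizer (H : Set G) ↔ MulAut.conj g • H = H := by
  rw [Subgroup.mem_normalizer_iff_map_conj_eq]
  exact Iff.rfl

/-- Two complement systems with `K p N = L p N` for all `p` are conjugate by an element of the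
normal subgroup `N`. -/
theorem exists_conj_of_sup_eq [Finite G] [Group.IsSolvable G] {K L : Nat.Primes → Subgroup G}
    (hK : Cfsg.IsComplementSystem K) (hL : Cfsg.IsComplementSystem L) (N : Subgroup G) [N.Normal]
    (h : ∀ p, K p ⊔ N = L p ⊔ N) : ∃ n ∈ N, ∀ p, MulAut.conj n • K p = L p := by
  classical
  have h1 : ∀ p : Nat.Primes, ∃ n : N, MulAut.conj (n : G) • K p = L p := by
    intro p
    obtain ⟨n, hn, hn'⟩ := exists_conj_of_sup_eq_one p.2 (hK p) (hL p) N (h p)
    exact ⟨⟨n, hn⟩, hn'⟩
  choose x hx using h1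
  let s : Finset Nat.Primes := (Nat.card G).primeFactors.subtype Nat.Prime
  have hindex : ∀ p : Nat.Primes,
      ((Subgroup.normalizer (K p : Set G)).subgroupOf N).index ∣
        (p : ℕ) ^ (Nat.card G).factorization p := by
    intro p
    have h2 : ((Subgroup.normalizer (K p : Set G)).subgroupOf N).index ∣
        ((K p).subgroupOf N).index :=
      Subgroup.index_dvd_of_le (Subgroup.comap_mono Subgroup.le_normalizer)
    rw [← hK p]
    exact h2.trans (relIndex_dvd_index_of_normal' (K p) N)
  obtain ⟨y, hy⟩ := exists_mem_of_coprime_index s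
    (fun p => (Subgroup.normalizer (K p : Set G)).subgroupOf N) (by
      intro p _ q _ hpq
      refine Nat.Coprime.coprime_dvd_left (hindex p) (Nat.Coprime.coprime_dvd_right (hindex q) ?_)
      refine Nat.Coprime.pow _ _ ((Nat.coprime_primes p.2 q.2).2 ?_)
      exact fun h => hpq (Subtype.ext h)) x
  refine ⟨y, y.2, fun p => ?_⟩
  by_cases hp : (p : ℕ) ∈ (Nat.card G).primeFactors
  · have h3 := hy p (Finset.mem_subtype.2 hp)
    rw [Subgroup.mem_subgroupOf, mem_normalizer_iff_conj_smul] at h3
    rw [← hx p]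
    conv_rhs => rw [← h3]
    rw [← mul_smul, ← map_mul]
    simp
  · have h4 : (Nat.card G).factorization p = 0 := by
      rw [← Finsupp.notMem_support_iff]
      exact hp
    have h5 : K p = ⊤ := by
      rw [← Subgroup.index_eq_one, hK p, h4, pow_zero]
    have h6 : L p = ⊤ := by
      rw [← Subgroup.index_eq_one, hL p, h4, pow_zero]
    rw [h5, h6]
    exact mem_normalizer_iff_conj_smul.1
      (Subgroup.mem_normalizer_iff.2 fun z => by simp)

/-- The system normalizer of the image in `G ⧸ N` is the image of the system normalizer. -/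
theorem systemNormalizer_map [Finite G] [Group.IsSolvable G] {K : Nat.Primes → Subgroup G}
    (hK : Cfsg.IsComplementSystem K) (N : Subgroup G) [N.Normal] :
    Cfsg.systemNormalizer (fun p => (K p).map (QuotientGroup.mk' N)) =
      (Cfsg.systemNormalizer K).map (QuotientGroup.mk' N) := by
  apply le_antisymm
  · intro y hy
    obtain ⟨g, rfl⟩ := QuotientGroup.mk'_surjective N y
    have hy' : ∀ p, QuotientGroup.mk' N g ∈
        Subgroup.normalizer (((K p).map (QuotientGroup.mk' N) : Subgroup (G ⧸ N)) : Set (G ⧸ N)) :=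
      fun p => (Subgroup.mem_iInf.1 hy) p
    obtain ⟨n, hn, hn'⟩ := exists_conj_of_sup_eq hK (isComplementSystem_conj hK g) N (by
      intro p
      have h1 := mem_normalizer_iff_conj_smul.1 (hy' p)
      have h2 : (MulAut.conj g • K p).map (QuotientGroup.mk' N) =
          MulAut.conj (QuotientGroup.mk' N g) • (K p).map (QuotientGroup.mk' N) := by
        ext z
        constructor
        · rintro ⟨_, ⟨k, hk, rfl⟩, rfl⟩
          exact ⟨QuotientGroup.mk' N k, ⟨k, hk, rfl⟩, by simp⟩
        · rintro ⟨_, ⟨k, hk, rfl⟩, rfl⟩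
          exact ⟨g * k * g⁻¹, ⟨k, hk, by simp⟩, by simp⟩
      rw [h1] at h2
      have h3 := congrArg (Subgroup.comap (QuotientGroup.mk' N)) h2
      rw [Subgroup.comap_map_eq, Subgroup.comap_map_eq, QuotientGroup.ker_mk'] at h3
      exact h3.symm)
    refine ⟨n⁻¹ * g, ?_, ?_⟩
    · refine Subgroup.mem_iInf.2 fun p => ?_
      rw [mem_normalizer_iff_conj_smul, map_mul, mul_smul, ← hn' p, ← mul_smul, ← map_mul]
      simp
    · have : QuotientGroup.mk' N n = 1 := (QuotientGroup.eq_one_iff n).2 hn
      rw [map_mul, map_inv, this, inv_one, one_mul]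
  · rintro _ ⟨g, hg, rfl⟩
    refine Subgroup.mem_iInf.2 fun p => ?_
    exact Subgroup.le_normalizer_map _ ⟨g, (Subgroup.mem_iInf.1 hg) p, rfl⟩

end Cfsg.Agent.SolvableStructure.ComplementSystem
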