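import Mathlib
import Cfsg.Agent.Lib.SolvableNormalP
import Cfsg.Agent.SolvableStructure.ComplementSystem

/-!
Non-central (eccentric) minimal normal `p`-subgroups of finite solvable groups: no nontrivial
element is centralized by a subgroup of `p`-power index (a Hall `p`-complement).
-/

set_option autoImplicit false

namespace Cfsg.Agent.SolvableStructure.EccentricFactor

open Subgroup
open scoped Pointwise

/-- Let `V` be a minimal normal subgroup of `Q`, and `N` a subgroup of the group of automorphisms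
of `V` induced by `Q`, normal in that group.  If `N` fixes a nontrivial element of `V`, then `N`
is trivial. -/
theorem eq_bot_of_fixed {Q : Type*} [Group Q] (V : Subgroup Q) [V.Normal]
    (hmin : ∀ M : Subgroup Q, M.Normal → M ≤ V → M = ⊥ ∨ M = V)
    (N : Subgroup (MulAut.conjNormal : Q →* MulAut V).range) [hNn : N.Normal] (x : V) (hx : x ≠ 1)
    (hfix : ∀ n ∈ N, (n : MulAut V) x = x) : N = ⊥ := by
  -- the fixed points
  let F : Subgroup Q :=
    { carrier := {y | ∃ v : V, (v : Q) = y ∧ ∀ n ∈ N, (n : MulAut V) v = v}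
      one_mem' := ⟨1, rfl, fun n _ => map_one _⟩
      mul_mem' := by
        rintro a b ⟨v, rfl, hv⟩ ⟨w, rfl, hw⟩
        exact ⟨v * w, rfl, fun n hn => by rw [map_mul, hv n hn, hw n hn]⟩
      inv_mem' := by
        rintro a ⟨v, rfl, hv⟩
        exact ⟨v⁻¹, rfl, fun n hn => by rw [map_inv, hv n hn]⟩ }
  have hF : ∀ y, y ∈ F ↔ ∃ v : V, (v : Q) = y ∧ ∀ n ∈ N, (n : MulAut V) v = v := fun y => Iff.rfl
  have hFn : F.Normal := by
    refine ⟨fun y hy g => ?_⟩
    rw [hF] at hy ⊢
    obtain ⟨v, rfl, hv⟩ := hy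
    let ψ : Q →* (MulAut.conjNormal : Q →* MulAut V).range := MonoidHom.rangeRestrict _
    refine ⟨MulAut.conjNormal g v, MulAut.conjNormal_apply g v, fun n hn => ?_⟩
    have h1 : (ψ g)⁻¹ * n * ((ψ g)⁻¹)⁻¹ ∈ N := hNn.conj_mem n hn _
    have h2 := hv _ h1
    have h3 : (((ψ g)⁻¹ * n * ((ψ g)⁻¹)⁻¹ : (MulAut.conjNormal : Q →* MulAut V).range) :
        MulAut V) = (MulAut.conjNormal g)⁻¹ * (n : MulAut V) * MulAut.conjNormal g := by
      simp [ψ]
    rw [h3] at h2
    rw [MulAut.mul_apply, MulAut.mul_apply] at h2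
    have h4 := congrArg (MulAut.conjNormal g) h2
    rwa [MulAut.apply_inv_self] at h4
  have hFV : F ≤ V := by
    intro y hy
    obtain ⟨v, rfl, -⟩ := (hF y).1 hy
    exact v.2
  have hxF : (x : Q) ∈ F := (hF _).2 ⟨x, rfl, hfix⟩
  rcases hmin F hFn hFV with h | h
  · exfalso
    rw [h, Subgroup.mem_bot] at hxF
    exact hx (Subtype.ext hxF)
  · rw [eq_bot_iff]
    intro n hn
    rw [Subgroup.mem_bot]
    apply Subtype.ext
    ext v
    have hv : (v : Q) ∈ F := h.ge v.2
    obtain ⟨w, hw, hw'⟩ := (hF _).1 hv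
    have h5 : w = v := Subtype.ext hw
    rw [← h5, hw' n hn]
    rfl

/-- A nontrivial element of a non-central minimal normal `p`-subgroup of a finite solvable group is
not centralized by any subgroup of `p`-power index. -/
theorem eq_one_of_commute {Q : Type*} [Group Q] [Finite Q] [Group.IsSolvable Q] (V : Subgroup Q)
    [V.Normal] (hmin : ∀ M : Subgroup Q, M.Normal → M ≤ V → M = ⊥ ∨ M = V)
    (hVc : ¬ V ≤ Subgroup.center Q) {p : ℕ} (hp : p.Prime) (hV : IsPGroup p V)
    (S : Subgroup Q) {k : ℕ} (hS : S.index = p ^ k) (x : Q) (hx : x ∈ V)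
    (hxS : ∀ s ∈ S, s * x = x * s) : x = 1 := by
  classical
  by_contra hx1
  have hfp : Fact p.Prime := ⟨hp⟩
  let φ : Q →* MulAut V := MulAut.conjNormal
  -- the group of induced automorphisms is nontrivial
  have hnt : Nontrivial φ.range := by
    rw [Subgroup.nontrivial_iff_exists_ne_one]
    by_contra hcon
    push Not at hcon
    apply hVc
    intro v hv
    rw [Subgroup.mem_center_iff]
    intro g
    have h1 := hcon (φ g) ⟨g, rfl⟩
    have h2 : ((φ g ⟨v, hv⟩ : V) : Q) = v := by rw [h1]; rfl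
    rw [MulAut.conjNormal_apply] at h2
    exact mul_inv_eq_iff_eq_mul.1 h2
  have hsolv : Group.IsSolvable φ.range :=
    Group.isSolvable_of_surjective φ.rangeRestrict_surjective
  obtain ⟨q, N, hq, hNn, hNq, -, hN⟩ :=
    Cfsg.Agent.Lib.SolvableNormalP.exists_normal_pSubgroup φ.range
  have hfq : Fact q.Prime := ⟨hq⟩
  by_cases hqp : q = p
  · subst hqp
    -- fixed points of the `p`-group `N` on the `p`-group `V`
    have h1 : (1 : V) ∈ MulAction.fixedPoints N V := by
      intro n
      exact map_one ((n : φ.range) : MulAut V)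
    have h2 : q ∣ Nat.card V := by
      obtain ⟨m, hm⟩ := IsPGroup.iff_card.1 hV
      rw [hm]
      rcases Nat.eq_zero_or_pos m with rfl | hm0
      · exfalso
        rw [pow_zero, Subgroup.card_eq_one] at hm
        rw [hm, Subgroup.mem_bot] at hx
        exact hx1 hx
      · exact dvd_pow_self _ hm0.ne'
    obtain ⟨y, hy, hy1⟩ := hNq.exists_fixed_point_of_prime_dvd_card_of_fixed_point V h2 h1
    exact hN (eq_bot_of_fixed V hmin N y hy1.symm fun n hn => hy ⟨n, hn⟩)
  · -- `N` is contained in the image of `S`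
    have h1 : (S.map φ.rangeRestrict).index ∣ p ^ k := by
      rw [← hS]
      exact Subgroup.index_map_dvd S φ.rangeRestrict_surjective
    have h2 : (S.map φ.rangeRestrict).relIndex N ∣ p ^ k :=
      (ComplementSystem.relIndex_dvd_index_of_normal' _ N).trans h1
    have h3 : (S.map φ.rangeRestrict).relIndex N ∣ Nat.card N := Subgroup.index_dvd_card _
    obtain ⟨m, hm⟩ := IsPGroup.iff_card.1 hNq
    rw [hm] at h3
    have h4 : (S.map φ.rangeRestrict).relIndex N = 1 := by
      refine Nat.eq_one_of_dvd_coprimes ?_ h3 h2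
      exact Nat.Coprime.pow _ _ ((Nat.coprime_primes hq hp).2 hqp)
    have h5 : N ≤ S.map φ.rangeRestrict := Subgroup.relIndex_eq_one.1 h4
    refine hN (eq_bot_of_fixed V hmin N ⟨x, hx⟩ (fun h => hx1 (congrArg Subtype.val h)) ?_)
    intro n hn
    obtain ⟨s, hs, rfl⟩ := h5 hn
    apply Subtype.ext
    change ((φ s ⟨x, hx⟩ : V) : Q) = x
    rw [MulAut.conjNormal_apply, mul_inv_eq_iff_eq_mul]
    exact hxS s hs

end Cfsg.Agent.SolvableStructure.EccentricFactor
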