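import Mathlib
import Cfsg.Prelude.Def_SolvableStructure
import Cfsg.Agent.Lib.Cores
import Cfsg.Agent.SolvableStructure.ComplementSystem

/-!
System normalizers: nilpotency, and the case of nilpotent-by-nilpotent groups, where they are
exactly the Carter subgroups.
-/

set_option autoImplicit false
set_option linter.style.haveILetI false

namespace Cfsg.Agent.SolvableStructure.SystemNormalizer

open Subgroup
open scoped Pointwise
open Cfsg.Agent.SolvableStructure.ComplementSystem

variable {G : Type*} [Group G]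

/-! ### Subgroups of `p`-power index -/

/-- A natural number dividing a power of `p` and coprime to `p` is one. -/
theorem eq_one_of_dvd_pow_of_coprime {p n k a : ℕ} (h1 : n ∣ p ^ k) (h2 : n ∣ a)
    (h3 : a.Coprime p) : n = 1 := by
  have h4 : n.Coprime (p ^ k) := (Nat.Coprime.coprime_dvd_left h2 h3).pow_right k
  exact Nat.Coprime.eq_one_of_dvd h4 h1

/-- A subgroup of order prime to `p` which normalizes a subgroup of `p`-power index lies in it. -/
theorem le_of_le_normalizer [Finite G] {p k : ℕ} {H N : Subgroup G} (hH : H.index = p ^ k)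
    (hN : (Nat.card N).Coprime p) (hle : N ≤ normalizer (H : Set G)) : N ≤ H := by
  rw [← Subgroup.relIndex_eq_one]
  refine eq_one_of_dvd_pow_of_coprime (k := k) ?_ (Subgroup.relIndex_dvd_card H N) hN
  rw [← hH]
  set M := normalizer (H : Set G) with hM
  haveI : (H.subgroupOf M).Normal := Subgroup.normal_in_normalizer
  have h1 : H.relIndex N = (H.subgroupOf M).relIndex (N.subgroupOf M) :=
    (Subgroup.relIndex_subgroupOf hle).symm
  rw [h1]
  exact (Subgroup.relIndex_dvd_index_of_normal _ _).trans
    (Subgroup.relIndex_dvd_index_of_le Subgroup.le_normalizer)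

/-- Any subgroup of order prime to `p` contained in and of `p`-power index ... equality. -/
theorem eq_of_le_of_index [Finite G] {p k : ℕ} {E H : Subgroup G} (hle : E ≤ H)
    (hE : E.index = p ^ k) (hH : (Nat.card H).Coprime p) : E = H := by
  refine le_antisymm hle ?_
  rw [← Subgroup.relIndex_eq_one]
  exact eq_one_of_dvd_pow_of_coprime (k := k)
    (hE ▸ Subgroup.relIndex_dvd_index_of_le hle) (Subgroup.relIndex_dvd_card E H) hH

/-! ### Nilpotency of system normalizers -/

/-- The system normalizer of a complement system is nilpotent. -/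
theorem isNilpotent_systemNormalizer [Finite G] {K : Nat.Primes → Subgroup G}
    (hK : Cfsg.IsComplementSystem K) : Group.IsNilpotent (Cfsg.systemNormalizer K) := by
  classical
  set D := Cfsg.systemNormalizer K with hD
  have hDle : ∀ q, D ≤ normalizer (K q : Set G) := fun q => iInf_le _ q
  refine ((Group.isNilpotent_of_finite_tfae (G := D)).out 0 3).mpr ?_
  intro p hp P
  let p' : Nat.Primes := ⟨p, hp.out⟩
  set S : Subgroup G := ⨅ q : {q : Nat.Primes // q ≠ p'}, K q.1 with hS
  -- `S` is a `p`-group
  have hSp : IsPGroup p S := by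
    rw [IsPGroup.iff_card]
    refine ⟨_, Nat.eq_prime_pow_of_unique_prime_dvd Nat.card_pos.ne' ?_⟩
    intro q hq hqd
    by_contra hne
    have hle : S ≤ K ⟨q, hq⟩ := iInf_le_of_le ⟨⟨q, hq⟩, fun h => hne (congrArg Subtype.val h)⟩ le_rfl
    have h1 : q ∣ Nat.card (K ⟨q, hq⟩) := hqd.trans (Subgroup.card_dvd_of_le hle)
    have h2 := coprime_card_of_index hq (hK ⟨q, hq⟩)
    exact (hq.coprime_iff_not_dvd.mp h2.symm) h1
  -- `P ≤ S`
  have hPS : (P : Subgroup D).map D.subtype ≤ S := by
    refine le_iInf ?_
    rintro ⟨q, hq⟩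
    have hqp : (p : ℕ) ≠ q := fun h => hq (Subtype.ext h.symm)
    refine le_of_le_normalizer (hK q) ?_ ((Subgroup.map_subtype_le _).trans (hDle q))
    obtain ⟨k, hk⟩ := IsPGroup.iff_card.mp P.2
    have : Nat.card ((P : Subgroup D).map D.subtype) = p ^ k := by
      rw [← hk]
      exact Nat.card_congr ((P : Subgroup D).equivMapOfInjective _ D.subtype_injective).symm.toEquiv
    rw [this]
    exact Nat.Coprime.pow_left _ ((Nat.coprime_primes hp.out q.2).mpr hqp)
  have hPS' : (P : Subgroup D) ≤ S.subgroupOf D := by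
    intro x hx
    exact Subgroup.mem_subgroupOf.mpr (hPS ⟨x, hx, rfl⟩)
  have hSD : IsPGroup p (S.subgroupOf D) :=
    hSp.comap_of_injective D.subtype D.subtype_injective
  have heq : S.subgroupOf D = (P : Subgroup D) := P.3 hSD hPS'
  rw [← heq]
  -- normality
  constructor
  intro n hn g
  rw [Subgroup.mem_subgroupOf] at hn ⊢
  rw [hS, Subgroup.mem_iInf] at hn ⊢
  intro q
  have h1 := hDle q.1 g.2
  rw [Subgroup.mem_normalizer_iff] at h1
  exact (h1 _).mp (hn q)

/-! ### Hall `p'`-subgroups of nilpotent groups -/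

/-- In a finite nilpotent group, `O_{p'}` has `p`-power index. -/
theorem exists_index_pPrimeCore [Finite G] [Group.IsNilpotent G] {p : ℕ} (hp : p.Prime) :
    ∃ k, (Cfsg.pPrimeCore p G).index = p ^ k := by
  refine ⟨_, Nat.eq_prime_pow_of_unique_prime_dvd Subgroup.index_ne_zero_of_finite ?_⟩
  intro q hq hqd
  by_contra hne
  haveI : Fact q.Prime := ⟨hq⟩
  let Q : Sylow q G := default
  have h1 : (Q : Subgroup G) ≤ Cfsg.pPrimeCore p G := by
    refine Cfsg.Agent.Lib.Cores.le_pPrimeCore inferInstance ?_
    obtain ⟨k, hk⟩ := IsPGroup.iff_card.mp Q.2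
    rw [hk]
    exact Nat.Coprime.pow_left _ ((Nat.coprime_primes hq hp).mpr hne)
  have h2 : q ∣ (Q : Subgroup G).index := hqd.trans (Subgroup.index_dvd_of_le h1)
  exact Q.not_dvd_index h2

/-- The `p'`-part of a subgroup, as a subgroup of the big group. -/
def ppart (p : ℕ) (F : Subgroup G) : Subgroup G := (Cfsg.pPrimeCore p F).map F.subtype

theorem ppart_def (p : ℕ) (F : Subgroup G) :
    ppart p F = (Cfsg.pPrimeCore p F).map F.subtype := rfl

theorem ppart_le (p : ℕ) (F : Subgroup G) : ppart p F ≤ F := Subgroup.map_subtype_le _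

theorem ppart_coprime [Finite G] (p : ℕ) (F : Subgroup G) : (Nat.card (ppart p F)).Coprime p := by
  have h := Cfsg.Agent.Lib.Cores.pPrimeCore_coprime (G := F) p
  have : Nat.card (ppart p F) = Nat.card (Cfsg.pPrimeCore p F) :=
    Nat.card_congr ((Cfsg.pPrimeCore p F).equivMapOfInjective _ F.subtype_injective).symm.toEquiv
  rwa [this]

/-- Anything normalizing `F` normalizes its `p'`-part. -/
theorem normalizer_le_normalizer_ppart (p : ℕ) (F : Subgroup G) :
    normalizer (F : Set G) ≤ normalizer (ppart p F : Set G) := by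
  intro g hg
  rw [Subgroup.mem_normalizer_iff_map_conj_eq] at hg ⊢
  -- conjugation by `g` restricts to an automorphism of `F`
  have hg' : F.map (MulAut.conj g : G →* G) = F := hg
  let e : F ≃* F := (F.equivMapOfInjective (MulAut.conj g : G →* G) (MulAut.conj g).injective).trans
    (MulEquiv.subgroupCongr hg')
  have he : ∀ x : F, ((e x : F) : G) = g * x * g⁻¹ := by
    intro x
    simp [e]
  haveI : (Cfsg.pPrimeCore p F).Characteristic := Cfsg.Agent.Lib.Cores.pPrimeCore_characteristic p
  have hchar : (Cfsg.pPrimeCore p F).map e.toMonoidHom = Cfsg.pPrimeCore p F :=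
    Subgroup.characteristic_iff_map_eq.mp inferInstance e
  show (ppart p F).map (MulAut.conj g : G →* G) = ppart p F
  rw [ppart_def, Subgroup.map_map]
  conv_rhs => rw [← hchar, Subgroup.map_map]
  congr 1

theorem ppart_normal (p : ℕ) (F : Subgroup G) [hF : F.Normal] : (ppart p F).Normal := by
  rw [← Subgroup.normalizer_eq_top_iff, eq_top_iff]
  refine le_trans ?_ (normalizer_le_normalizer_ppart p F)
  rw [Subgroup.normalizer_eq_top_iff.mpr hF]

theorem exists_relIndex_ppart [Finite G] {p : ℕ} (hp : p.Prime) (F : Subgroup G)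
    (hF : Group.IsNilpotent F) : ∃ k, (ppart p F).relIndex F = p ^ k := by
  obtain ⟨k, hk⟩ := exists_index_pPrimeCore (G := F) hp
  refine ⟨k, ?_⟩
  rw [← hk, Subgroup.relIndex]
  congr 1
  rw [ppart_def, Subgroup.subgroupOf, Subgroup.comap_map_eq_self_of_injective F.subtype_injective]

/-! ### Nilpotent normal subgroup with a nilpotent supplement -/

/-- `|E F : E| = |F : E ∩ F|` for `F` normal. -/
theorem relIndex_sup_eq [Finite G] (E F : Subgroup G) [F.Normal] :
    E.relIndex (F ⊔ E) = E.relIndex F := by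
  have h1 : Nat.card E * E.relIndex (F ⊔ E) = Nat.card (F ⊔ E : Subgroup G) := by
    have := Subgroup.relIndex_mul_relIndex ⊥ E (F ⊔ E) bot_le le_sup_right
    rwa [Subgroup.relIndex_bot_left, Subgroup.relIndex_bot_left] at this
  have h2 : Nat.card F * F.relIndex E = Nat.card (F ⊔ E : Subgroup G) := by
    have := Subgroup.relIndex_mul_relIndex ⊥ F (F ⊔ E) bot_le le_sup_left
    rwa [Subgroup.relIndex_bot_left, Subgroup.relIndex_bot_left, Subgroup.relIndex_sup_left] at this
  have h3 : Nat.card (E ⊓ F : Subgroup G) * F.relIndex E = Nat.card E := by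
    have := Subgroup.relIndex_mul_relIndex ⊥ (E ⊓ F) E bot_le inf_le_left
    rwa [Subgroup.relIndex_bot_left, Subgroup.relIndex_bot_left, Subgroup.inf_relIndex_left] at this
  have h4 : Nat.card (E ⊓ F : Subgroup G) * E.relIndex F = Nat.card F := by
    have := Subgroup.relIndex_mul_relIndex ⊥ (E ⊓ F) F bot_le inf_le_right
    rwa [Subgroup.relIndex_bot_left, Subgroup.relIndex_bot_left, Subgroup.inf_relIndex_right] at this
  have hpos : 0 < Nat.card E := Nat.card_pos
  apply Nat.eq_of_mul_eq_mul_left hpos
  rw [h1, ← h2, ← h4, ← h3]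
  ring

/-- If `G = F D` with `F` normal, both nilpotent, then `F_{p'} D_{p'}` has `p`-power index. -/
theorem exists_index_ppart_sup [Finite G] {p : ℕ} (hp : p.Prime) (F D : Subgroup G) [F.Normal]
    (hF : Group.IsNilpotent F) (hD : Group.IsNilpotent D) (hFD : F ⊔ D = ⊤) :
    ∃ k, (ppart p F ⊔ ppart p D).index = p ^ k := by
  set E := ppart p F ⊔ ppart p D with hE
  -- first part: index of `F ⊔ E`
  obtain ⟨a, ha⟩ : ∃ a, (F ⊔ E).index = p ^ a := by
    obtain ⟨k, hk⟩ := exists_index_pPrimeCore (G := D) hp
    let φ : D →* G ⧸ F := (QuotientGroup.mk' F).comp D.subtype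
    have hφ : Function.Surjective φ := by
      intro y
      obtain ⟨g, rfl⟩ := QuotientGroup.mk'_surjective F y
      have hg : g ∈ F ⊔ D := hFD ▸ Subgroup.mem_top g
      obtain ⟨f, hf, d, hd, rfl⟩ := Subgroup.mem_sup_of_normal_left.1 hg
      refine ⟨⟨d, hd⟩, ?_⟩
      have : QuotientGroup.mk' F f = 1 := (QuotientGroup.eq_one_iff f).2 hf
      show QuotientGroup.mk' F d = _
      rw [map_mul, this, one_mul]
    have h1 : ((Cfsg.pPrimeCore p D).map φ).index ∣ p ^ k := by
      rw [← hk]; exact Subgroup.index_map_dvd _ hφ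
    have h2 : (Cfsg.pPrimeCore p D).map φ = (ppart p D).map (QuotientGroup.mk' F) := by
      rw [ppart_def, Subgroup.map_map]
    have h3 : (F ⊔ E).index = ((ppart p D).map (QuotientGroup.mk' F)).index := by
      have h4 : F ⊔ E = ((ppart p D).map (QuotientGroup.mk' F)).comap (QuotientGroup.mk' F) := by
        rw [Subgroup.comap_map_eq, QuotientGroup.ker_mk', hE, ← sup_assoc,
          sup_eq_left.mpr (ppart_le p F), sup_comm]
      rw [h4, Subgroup.index_comap_of_surjective _ (QuotientGroup.mk'_surjective F)]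
    rw [h3, ← h2]
    obtain ⟨b, -, hb⟩ := (Nat.dvd_prime_pow hp).1 h1
    exact ⟨b, hb⟩
  -- second part
  obtain ⟨b, hb⟩ : ∃ b, E.relIndex (F ⊔ E) = p ^ b := by
    rw [relIndex_sup_eq]
    obtain ⟨k, hk⟩ := exists_relIndex_ppart hp F hF
    have h1 : E.relIndex F ∣ p ^ k := by
      rw [← hk]
      exact Subgroup.relIndex_dvd_of_le_left F (le_sup_left : ppart p F ≤ E)
    obtain ⟨b, -, hb⟩ := (Nat.dvd_prime_pow hp).1 h1
    exact ⟨b, hb⟩
  refine ⟨b + a, ?_⟩
  rw [← Subgroup.relIndex_mul_index (le_sup_right : E ≤ F ⊔ E), ha, hb, pow_add]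

theorem card_ppart_sup_coprime [Finite G] (p : ℕ) (F D : Subgroup G) [F.Normal] :
    (Nat.card (ppart p F ⊔ ppart p D : Subgroup G)).Coprime p := by
  have h1 := Cfsg.Agent.Lib.Cores.card_sup_dvd (ppart p F) (ppart p D) (ppart_normal p F)
  exact Nat.Coprime.coprime_dvd_left h1 ((ppart_coprime p F).mul_left (ppart_coprime p D))

/-- Hall `p`-complements of `G = F D` normalized by `D`. -/
theorem eq_ppart_sup [Finite G] {p : ℕ} (hp : p.Prime) {F D H : Subgroup G} [F.Normal]
    (hF : Group.IsNilpotent F) (hD : Group.IsNilpotent D) (hFD : F ⊔ D = ⊤)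
    (hH : H.index = p ^ (Nat.card G).factorization p) (hDH : D ≤ normalizer (H : Set G)) :
    ppart p F ⊔ ppart p D = H := by
  obtain ⟨k, hk⟩ := exists_index_ppart_sup hp F D hF hD hFD
  refine eq_of_le_of_index (sup_le ?_ ?_) hk (coprime_card_of_index hp hH)
  · have hn := ppart_normal p F
    rw [← Subgroup.relIndex_eq_one]
    exact eq_one_of_dvd_pow_of_coprime (hH ▸ relIndex_dvd_index_of_normal' H (ppart p F))
      (Subgroup.relIndex_dvd_card _ _) (ppart_coprime p F)
  · exact le_of_le_normalizer hH (ppart_coprime p D) ((ppart_le p D).trans hDH)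

/-- The complement system attached to a nilpotent supplement of a nilpotent normal subgroup. -/
theorem isComplementSystem_ppart_sup [Finite G] (F D : Subgroup G) [F.Normal]
    (hF : Group.IsNilpotent F) (hD : Group.IsNilpotent D) (hFD : F ⊔ D = ⊤) :
    Cfsg.IsComplementSystem (fun p : Nat.Primes => ppart (p : ℕ) F ⊔ ppart (p : ℕ) D) := by
  intro p
  obtain ⟨k, hk⟩ := exists_index_ppart_sup p.2 F D hF hD hFD
  exact index_eq_of_coprime p.2 hk (card_ppart_sup_coprime p F D)

theorem normalizer_inf_le_normalizer_ppart_sup (p : ℕ) (F D : Subgroup G) [hF : F.Normal] :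
    normalizer (D : Set G) ≤ normalizer ((ppart p F ⊔ ppart p D : Subgroup G) : Set G) := by
  intro g hg
  have h1 : g ∈ normalizer (ppart p D : Set G) := normalizer_le_normalizer_ppart p D hg
  have h2 : g ∈ normalizer (ppart p F : Set G) := by
    refine normalizer_le_normalizer_ppart p F ?_
    rw [Subgroup.normalizer_eq_top_iff.mpr hF]
    exact Subgroup.mem_top g
  rw [mem_normalizer_iff_conj_smul] at h1 h2 ⊢
  rw [Subgroup.smul_sup, h1, h2]

/-- If `G = F D` with `F` nilpotent normal and `D` the system normalizer of a complement system,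
then `D` is self-normalizing. -/
theorem normalizer_systemNormalizer [Finite G] {K : Nat.Primes → Subgroup G}
    (hK : Cfsg.IsComplementSystem K) (F : Subgroup G) [F.Normal] (hF : Group.IsNilpotent F)
    (hFD : F ⊔ Cfsg.systemNormalizer K = ⊤) :
    normalizer (Cfsg.systemNormalizer K : Set G) = Cfsg.systemNormalizer K := by
  refine le_antisymm ?_ Subgroup.le_normalizer
  have hD := isNilpotent_systemNormalizer hK
  refine le_iInf fun p => ?_
  have h := eq_ppart_sup p.2 hF hD hFD (hK p) (iInf_le _ p)
  have h2 := normalizer_inf_le_normalizer_ppart_sup p F (Cfsg.systemNormalizer K)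
  rwa [h] at h2

/-- A self-normalizing subgroup contained in a nilpotent subgroup is equal to it. -/
theorem eq_of_le_nilpotent {C D : Subgroup G} (hC : normalizer (C : Set G) = C)
    (hD : Group.IsNilpotent D) (hle : C ≤ D) : C = D := by
  have h1 := normalizerCondition_iff_only_full_group_self_normalizing.mp
    (Group.normalizerCondition_of_isNilpotent (G := D)) (C.subgroupOf D)
  have h2 : normalizer (C.subgroupOf D : Set D) = C.subgroupOf D := by
    rw [← Subgroup.subgroupOf_normalizer_eq hle, hC]
  have h3 := h1 h2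
  exact le_antisymm hle (Subgroup.subgroupOf_eq_top.mp h3)

/-- A nilpotent self-normalizing supplement of a nilpotent normal subgroup is a system
normalizer. -/
theorem eq_systemNormalizer [Finite G] (F C : Subgroup G) [F.Normal]
    (hF : Group.IsNilpotent F) (hC : Group.IsNilpotent C) (hCn : normalizer (C : Set G) = C)
    (hFC : F ⊔ C = ⊤) :
    C = Cfsg.systemNormalizer (fun p : Nat.Primes => ppart (p : ℕ) F ⊔ ppart (p : ℕ) C) := by
  apply eq_of_le_nilpotent hCn
    (isNilpotent_systemNormalizer (isComplementSystem_ppart_sup F C hF hC hFC))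
  refine le_iInf fun p => ?_
  exact Subgroup.le_normalizer.trans (normalizer_inf_le_normalizer_ppart_sup p F C)

theorem systemNormalizer_conj (K : Nat.Primes → Subgroup G) (g : G) :
    Cfsg.systemNormalizer (fun p => MulAut.conj g • K p) =
      MulAut.conj g • Cfsg.systemNormalizer K := by
  ext x
  rw [Subgroup.mem_pointwise_smul_iff_inv_smul_mem]
  unfold Cfsg.systemNormalizer
  rw [Subgroup.mem_iInf, Subgroup.mem_iInf]
  refine forall_congr' fun p => ?_
  rw [mem_normalizer_iff_conj_smul, mem_normalizer_iff_conj_smul]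
  have h1 : MulAut.conj ((MulAut.conj g)⁻¹ • x) = (MulAut.conj g)⁻¹ * MulAut.conj x * MulAut.conj g := by
    ext y
    simp [mul_assoc]
  rw [h1, mul_smul, mul_smul, inv_smul_eq_iff]

/-- Two nilpotent self-normalizing supplements of a nilpotent normal subgroup are conjugate. -/
theorem exists_conj_eq [Finite G] (F C C' : Subgroup G) [F.Normal]
    (hG : Group.IsSolvable G)
    (hF : Group.IsNilpotent F) (hC : Group.IsNilpotent C) (hCn : normalizer (C : Set G) = C)
    (hFC : F ⊔ C = ⊤) (hC' : Group.IsNilpotent C') (hCn' : normalizer (C' : Set G) = C')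
    (hFC' : F ⊔ C' = ⊤) : ∃ g : G, MulAut.conj g • C = C' := by
  obtain ⟨g, -, hg⟩ := exists_conj_of_sup_eq (isComplementSystem_ppart_sup F C hF hC hFC)
    (isComplementSystem_ppart_sup F C' hF hC' hFC') (⊤ : Subgroup G) (fun p => by simp)
  refine ⟨g, ?_⟩
  calc MulAut.conj g • C = MulAut.conj g •
        Cfsg.systemNormalizer (fun p : Nat.Primes => ppart (p : ℕ) F ⊔ ppart (p : ℕ) C) :=
        congrArg _ (eq_systemNormalizer F C hF hC hCn hFC)
    _ = Cfsg.systemNormalizer
          (fun p : Nat.Primes => MulAut.conj g • (ppart (p : ℕ) F ⊔ ppart (p : ℕ) C)) :=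
        (systemNormalizer_conj _ _).symm
    _ = Cfsg.systemNormalizer (fun p : Nat.Primes => ppart (p : ℕ) F ⊔ ppart (p : ℕ) C') :=
        congrArg _ (funext hg)
    _ = C' := (eq_systemNormalizer F C' hF hC' hCn' hFC').symm

/-- Carter subgroups supplement a nilpotent normal subgroup with nilpotent quotient. -/
theorem sup_eq_top [Finite G] (F C : Subgroup G) [F.Normal] (hG : Group.IsSolvable G)
    (hF : Group.IsNilpotent F) (hGF : Group.IsNilpotent (G ⧸ F))
    (hC : Group.IsNilpotent C) (hCn : normalizer (C : Set G) = C) : F ⊔ C = ⊤ := by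
  set H := F ⊔ C with hH
  -- `H` is self-normalizing
  have hHn : normalizer (H : Set G) ≤ H := by
    intro x hx
    set C' := MulAut.conj x • C with hC'
    have hxH : MulAut.conj x • H = H := mem_normalizer_iff_conj_smul.mp hx
    have hxF : MulAut.conj x • F = F := Subgroup.Normal.conjAct ‹_› _
    have hC'H : C' ≤ H := by
      rw [← hxH]
      exact Subgroup.pointwise_smul_le_pointwise_smul_iff.mpr le_sup_right
    have hsup' : F ⊔ C' = H := by
      rw [← hxH, hH, Subgroup.smul_sup, hxF]
    have hC'nil : Group.IsNilpotent C' := by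
      haveI := hC
      exact Group.nilpotent_of_mulEquiv (Subgroup.equivSMul (MulAut.conj x) C)
    have hC'n : normalizer (C' : Set G) = C' := by
      ext y
      rw [mem_normalizer_iff_conj_smul]
      constructor
      · intro hy
        have h1 : MulAut.conj ((MulAut.conj x)⁻¹ • y) • C = C := by
          have h2 : MulAut.conj ((MulAut.conj x)⁻¹ • y) =
              (MulAut.conj x)⁻¹ * MulAut.conj y * MulAut.conj x := by
            ext z; simp [mul_assoc]
          rw [h2, mul_smul, mul_smul, inv_smul_eq_iff]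
          exact hy
        rw [← mem_normalizer_iff_conj_smul, hCn] at h1
        rw [hC', Subgroup.mem_pointwise_smul_iff_inv_smul_mem]
        exact h1
      · intro hy
        exact Subgroup.conj_smul_eq_self_of_mem hy
    -- move to the group `H`
    have hFle : F ≤ H := le_sup_left
    have hCle : C ≤ H := le_sup_right
    haveI : (F.subgroupOf H).Normal := inferInstance
    have hsolvH : Group.IsSolvable H := inferInstance
    have hnil : ∀ {A : Subgroup G}, A ≤ H → Group.IsNilpotent A →
        Group.IsNilpotent (A.subgroupOf H) := by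
      intro A hA hAn
      haveI := hAn
      exact Group.nilpotent_of_mulEquiv (Subgroup.subgroupOfEquivOfLe hA).symm
    have hself : ∀ {A : Subgroup G}, A ≤ H → normalizer (A : Set G) = A →
        normalizer (A.subgroupOf H : Set H) = A.subgroupOf H := by
      intro A hA hAn
      rw [← Subgroup.subgroupOf_normalizer_eq hA, hAn]
    have hsupH : ∀ {A : Subgroup G}, A ≤ H → F ⊔ A = H →
        F.subgroupOf H ⊔ A.subgroupOf H = ⊤ := by
      intro A hA hAs
      rw [← Subgroup.subgroupOf_sup hFle hA, hAs, Subgroup.subgroupOf_self]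
    obtain ⟨⟨h, hhH⟩, hh⟩ := exists_conj_eq (F.subgroupOf H) (C.subgroupOf H) (C'.subgroupOf H)
      hsolvH (hnil hFle hF) (hnil hCle hC) (hself hCle hCn) (hsupH hCle hH.symm)
      (hnil hC'H hC'nil) (hself hC'H hC'n) (hsupH hC'H hsup')
    have hh' : MulAut.conj h • C = C' := by
      have h1 := congrArg (Subgroup.map H.subtype) hh
      rw [Subgroup.subgroupOf_map_subtype, inf_eq_left.2 hC'H] at h1
      rw [← h1]
      ext z
      constructor
      · rintro ⟨y, hy, rfl⟩
        refine ⟨⟨h, hhH⟩ * ⟨y, hCle hy⟩ * ⟨h, hhH⟩⁻¹, ?_, by simp⟩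
        exact ⟨⟨y, hCle hy⟩, by simpa [Subgroup.mem_subgroupOf] using hy, by simp⟩
      · rintro ⟨_, ⟨y, hy, rfl⟩, rfl⟩
        exact ⟨y, hy, by simp⟩
    have hmem : h⁻¹ * x ∈ C := by
      rw [← hCn, mem_normalizer_iff_conj_smul, map_mul, mul_smul, ← hC', ← hh', map_inv,
        inv_smul_smul]
    have : x = h * (h⁻¹ * x) := by group
    rw [this]
    exact H.mul_mem hhH (hCle hmem)
  have h1 := normalizerCondition_iff_only_full_group_self_normalizing.mp
    (Group.normalizerCondition_of_isNilpotent (G := G ⧸ F)) (H.map (QuotientGroup.mk' F))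
  have hker : (QuotientGroup.mk' F).ker ≤ H := by
    rw [QuotientGroup.ker_mk']; exact le_sup_left
  have h2 : normalizer (H.map (QuotientGroup.mk' F) : Set (G ⧸ F)) =
      H.map (QuotientGroup.mk' F) := by
    apply Subgroup.comap_injective (QuotientGroup.mk'_surjective F)
    rw [Subgroup.comap_normalizer_eq_of_surjective _ (QuotientGroup.mk'_surjective F),
      Subgroup.comap_map_eq_self hker]
    exact le_antisymm hHn Subgroup.le_normalizer
  have h3 := h1 h2
  have h4 := congrArg (Subgroup.comap (QuotientGroup.mk' F)) h3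
  rwa [Subgroup.comap_map_eq_self hker, Subgroup.comap_top] at h4

/-- In a nilpotent group every member of a complement system is normal. -/
theorem systemNormalizer_eq_top_of_isNilpotent [Finite G] (hG : Group.IsNilpotent G)
    {K : Nat.Primes → Subgroup G} (hK : Cfsg.IsComplementSystem K) :
    Cfsg.systemNormalizer K = ⊤ := by
  rw [eq_top_iff]
  refine le_iInf fun p => ?_
  have h1 : Cfsg.pPrimeCore p G = K p := by
    obtain ⟨k, hk⟩ := exists_index_pPrimeCore (G := G) p.2
    haveI := Cfsg.Agent.Lib.Cores.pPrimeCore_normal (G := G) p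
    refine eq_of_le_of_index ?_ hk (coprime_card_of_index p.2 (hK p))
    rw [← Subgroup.relIndex_eq_one]
    exact eq_one_of_dvd_pow_of_coprime
      (hK p ▸ relIndex_dvd_index_of_normal' (K p) (Cfsg.pPrimeCore p G))
      (Subgroup.relIndex_dvd_card _ _) (Cfsg.Agent.Lib.Cores.pPrimeCore_coprime p)
  have h2 : (K p).Normal := h1 ▸ Cfsg.Agent.Lib.Cores.pPrimeCore_normal (G := G) p
  rw [Subgroup.normalizer_eq_top_iff.mpr h2]

/-- If `G ⧸ N` is nilpotent, system normalizers supplement `N`. -/
theorem sup_systemNormalizer_eq_top [Finite G] (hG : Group.IsSolvable G)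
    {K : Nat.Primes → Subgroup G} (hK : Cfsg.IsComplementSystem K) (N : Subgroup G) [N.Normal]
    (hN : Group.IsNilpotent (G ⧸ N)) : N ⊔ Cfsg.systemNormalizer K = ⊤ := by
  have h1 := systemNormalizer_map hK N
  rw [systemNormalizer_eq_top_of_isNilpotent hN (isComplementSystem_map hK N)] at h1
  have h2 := congrArg (Subgroup.comap (QuotientGroup.mk' N)) h1
  rw [Subgroup.comap_map_eq, QuotientGroup.ker_mk', Subgroup.comap_top] at h2
  rw [sup_comm]
  exact h2.symm

end Cfsg.Agent.SolvableStructure.SystemNormalizer
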