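import Mathlib

set_option autoImplicit false

namespace Cfsg.Agent.SolvableStructure.MaxPrimeIndex

open Subgroup

universe u

/-- If every maximal subgroup of the finite group `G` has prime index and `p` is at least every
prime divisor of `|G|`, then the Sylow `p`-subgroups of `G` are normal. -/
theorem sylow_normal_of_maximal_prime_index {G : Type*} [Group G] [Finite G]
    (h : ∀ M : Subgroup G, IsCoatom M → M.index.Prime) {p : ℕ} [hpf : Fact p.Prime]
    (hp : ∀ q : ℕ, q.Prime → q ∣ Nat.card G → q ≤ p) (P : Sylow p G) :
    (P : Subgroup G).Normal := by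
  by_contra hP
  have hN : normalizer (P : Set G) ≠ ⊤ := by
    intro hN
    exact hP (normalizer_eq_top_iff.mp hN)
  obtain ⟨M, hM, hNM⟩ := (eq_top_or_exists_le_coatom (normalizer (P : Set G))).resolve_left hN
  have hq := h M hM
  have hPM : (P : Subgroup G) ≤ M := le_trans le_normalizer hNM
  have h1 : Nat.card (Sylow p M) = (normalizer ((P.subtype hPM : Sylow p M) : Set M)).index :=
    Sylow.card_eq_index_normalizer _
  have h2 : Nat.card (Sylow p G) = (normalizer (P : Set G)).index :=
    Sylow.card_eq_index_normalizer _
  have h3 : normalizer ((P.subtype hPM : Sylow p M) : Set M)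
      = (normalizer (P : Set G)).subgroupOf M :=
    (Subgroup.subgroupOf_normalizer_eq hPM).symm
  have h4 : (normalizer (P : Set G)).relIndex M * M.index = (normalizer (P : Set G)).index :=
    Subgroup.relIndex_mul_index hNM
  have h5 : Nat.card (Sylow p M) ≡ 1 [MOD p] := card_sylow_modEq_one p M
  have h6 : Nat.card (Sylow p G) ≡ 1 [MOD p] := card_sylow_modEq_one p G
  rw [h1, h3] at h5
  rw [h2, ← h4] at h6
  have h7 : M.index ≡ 1 [MOD p] := by
    have : (normalizer (P : Set G)).relIndex M * M.index ≡ 1 * M.index [MOD p] :=
      Nat.ModEq.mul_right _ h5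
    rw [one_mul] at this
    exact this.symm.trans h6
  have h8 : p ∣ M.index - 1 := (Nat.modEq_iff_dvd' hq.one_le).mp h7.symm
  have h9 : M.index ≤ p := hp _ hq (Subgroup.index_dvd_card M)
  have h10 : p ≤ M.index - 1 := Nat.le_of_dvd (Nat.sub_pos_of_lt hq.one_lt) h8
  have := hq.one_lt
  omega

/-- The property "every maximal subgroup has prime index" passes to quotients. -/
theorem maximal_prime_index_quotient {G : Type*} [Group G]
    (h : ∀ M : Subgroup G, IsCoatom M → M.index.Prime) (N : Subgroup G) [N.Normal] :
    ∀ M : Subgroup (G ⧸ N), IsCoatom M → M.index.Prime := by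
  intro M hM
  have h1 := h _ (Subgroup.isCoatom_comap_of_surjective (QuotientGroup.mk'_surjective N) hM)
  rwa [Subgroup.index_comap_of_surjective _ (QuotientGroup.mk'_surjective N)] at h1

/-- In a nontrivial finite group there is a largest prime divisor `p` of the order. -/
theorem exists_largest_prime {n : ℕ} (hn : 1 < n) :
    ∃ p : ℕ, p.Prime ∧ p ∣ n ∧ ∀ q : ℕ, q.Prime → q ∣ n → q ≤ p := by
  have hne : n.primeFactors.Nonempty := Nat.nonempty_primeFactors.mpr hn
  refine ⟨n.primeFactors.max' hne, ?_, ?_, ?_⟩
  · exact Nat.prime_of_mem_primeFactors (Finset.max'_mem _ hne)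
  · exact Nat.dvd_of_mem_primeFactors (Finset.max'_mem _ hne)
  · intro q hq hqn
    exact Finset.le_max' _ _ (Nat.mem_primeFactors.mpr ⟨hq, hqn, by omega⟩)

theorem isSolvable_aux (n : ℕ) : ∀ {G : Type u} [Group G] [Finite G], Nat.card G = n →
    (∀ M : Subgroup G, IsCoatom M → M.index.Prime) → Group.IsSolvable G := by
  induction n using Nat.strong_induction_on with
  | _ n ih =>
    intro G _ _ hn h
    rcases Nat.lt_or_ge 1 (Nat.card G) with h1 | h1
    · obtain ⟨p, hp, hpn, hmax⟩ := exists_largest_prime h1
      have : Fact p.Prime := ⟨hp⟩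
      obtain ⟨P⟩ : Nonempty (Sylow p G) := inferInstance
      have hPn : (P : Subgroup G).Normal := sylow_normal_of_maximal_prime_index h hmax P
      have hPne : (P : Subgroup G) ≠ ⊥ := P.ne_bot_of_dvd_card hpn
      have hlt : Nat.card (G ⧸ (P : Subgroup G)) < n := by
        rw [← hn, Subgroup.card_eq_card_quotient_mul_card_subgroup (P : Subgroup G)]
        have h2 : 1 < Nat.card (P : Subgroup G) := Subgroup.one_lt_card_iff_ne_bot _ |>.mpr hPne
        have h3 : 0 < Nat.card (G ⧸ (P : Subgroup G)) := Nat.card_pos
        nlinarith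
      have := ih _ hlt rfl (maximal_prime_index_quotient h (P : Subgroup G))
      have : Group.IsSolvable (P : Subgroup G) := by
        have := P.isPGroup'.isNilpotent
        infer_instance
      exact (Group.isSolvable_iff_subgroup_quotient (P : Subgroup G)).mpr ⟨inferInstance, inferInstance⟩
    · have : Subsingleton G := by
        rw [← Finite.card_le_one_iff_subsingleton]; exact h1
      infer_instance

/-- If every maximal subgroup of the finite group `G` has prime index, then `G` is solvable. -/
theorem isSolvable_of_maximal_prime_index {G : Type u} [Group G] [Finite G]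
    (h : ∀ M : Subgroup G, IsCoatom M → M.index.Prime) : Group.IsSolvable G :=
  isSolvable_aux _ rfl h

end Cfsg.Agent.SolvableStructure.MaxPrimeIndex
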