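import Mathlib
import Cfsg.Prelude.Def_SolvableStructure
import Cfsg.Agent.SolvableStructure.MaxPrimeIndex

set_option autoImplicit false

namespace Cfsg.Agent.SolvableStructure.HuppertPrimeIndex

open Subgroup Cfsg.Agent.SolvableStructure.MaxPrimeIndex

universe u

/-- Action of a group on a chief factor `B / A` of prime order `p`, as a homomorphism into
`(ZMod p)ˣ`. -/
theorem exists_hom_of_relIndex_prime {G : Type*} [Group G] (A B : Subgroup G) [A.Normal]
    [B.Normal] {p : ℕ} [Fact p.Prime] (hp : A.relIndex B = p) :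
    ∃ f : G →* (ZMod p)ˣ, ∀ g, f g = 1 → ∀ b ∈ B, g * b * g⁻¹ * b⁻¹ ∈ A := by
  let π : G →* G ⧸ A := QuotientGroup.mk' A
  have hBn : (B.map π).Normal := Subgroup.Normal.map inferInstance π (QuotientGroup.mk'_surjective A)
  have hcard : Nat.card (B.map π) = p := by
    rw [← hp, ← Subgroup.relIndex_ker, QuotientGroup.ker_mk']
  have hcyc : IsCyclic (B.map π) := isCyclic_of_prime_card hcard
  clear hp
  subst hcard
  let e : MulAut (B.map π) ≃* (ZMod (Nat.card (B.map π)))ˣ := IsCyclic.mulAutMulEquiv _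
  refine ⟨(e.toMonoidHom.comp MulAut.conjNormal).comp π, ?_⟩
  intro g hg b hb
  have h1 : MulAut.conjNormal (H := B.map π) (π g) = 1 := by
    have h2 : e (MulAut.conjNormal (π g)) = 1 := hg
    exact (map_eq_one_iff e e.injective).mp h2
  have h3 : (⟨π b, Subgroup.mem_map_of_mem π hb⟩ : B.map π) =
      MulAut.conjNormal (H := B.map π) (π g) ⟨π b, Subgroup.mem_map_of_mem π hb⟩ := by
    rw [h1]; rfl
  have h4 : π b = π g * π b * (π g)⁻¹ := by
    have := congrArg Subtype.val h3
    rwa [MulAut.conjNormal_apply] at this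
  have h5 : π (g * b * g⁻¹ * b⁻¹) = 1 := by
    rw [map_mul, map_mul, map_mul, map_inv, map_inv, ← h4, mul_inv_cancel]
  exact (QuotientGroup.eq_one_iff _).mp h5

/-- Lemma: an element `x` of order coprime to `p` which acts trivially on `P` modulo `B` and on `B`
modulo `A` acts trivially on `P` modulo `A`. -/
theorem comm_mem_step {G : Type*} [Group G] {p : ℕ} (P A B : Subgroup G)
    [hA : A.Normal] (hP : IsPGroup p P) (hBP : B ≤ P) (x : G)
    (hx : (orderOf x).Coprime p) (h1 : ∀ y ∈ P, x * y * x⁻¹ * y⁻¹ ∈ B)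
    (h2 : ∀ b ∈ B, x * b * x⁻¹ * b⁻¹ ∈ A) : ∀ y ∈ P, x * y * x⁻¹ * y⁻¹ ∈ A := by
  intro y hy
  let π : G →* G ⧸ A := QuotientGroup.mk' A
  set c := x * y * x⁻¹ * y⁻¹ with hc
  have hcB : c ∈ B := h1 y hy
  have hcomm : π x * π c = π c * π x := by
    have := h2 c hcB
    have h5 : π (x * c * x⁻¹ * c⁻¹) = 1 := (QuotientGroup.eq_one_iff _).mpr this
    rw [map_mul, map_mul, map_mul, map_inv, map_inv, mul_inv_eq_one, mul_inv_eq_iff_eq_mul] at h5
    exact h5
  have hxy : π x * π y = π c * π y * π x := by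
    rw [hc, map_mul, map_mul, map_mul, map_inv, map_inv]
    group
  have hpow : ∀ n : ℕ, π x ^ n * π y = π c ^ n * π y * π x ^ n := by
    intro n
    induction n with
    | zero => simp
    | succ n ih =>
      have hcomm' : π x ^ n * π c = π c * π x ^ n := by
        exact (Commute.pow_left (show Commute (π x) (π c) from hcomm) n)
      calc π x ^ (n+1) * π y = π x ^ n * (π x * π y) := by rw [pow_succ, mul_assoc]
        _ = π x ^ n * (π c * π y * π x) := by rw [hxy]
        _ = π x ^ n * π c * π y * π x := by group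
        _ = π c * π x ^ n * π y * π x := by rw [hcomm']
        _ = π c * (π x ^ n * π y) * π x := by group
        _ = π c * (π c ^ n * π y * π x ^ n) * π x := by rw [ih]
        _ = π c ^ (n+1) * π y * π x ^ (n+1) := by
          rw [pow_succ' (π c), pow_succ (π x)]; group
  have h6 : π c ^ orderOf x = 1 := by
    have h7 := hpow (orderOf x)
    have h8 : π x ^ orderOf x = 1 := by rw [← map_pow, pow_orderOf_eq_one, map_one]
    rw [h8, one_mul, mul_one] at h7
    exact mul_eq_right.mp h7.symm
  obtain ⟨k, hk⟩ := isPGroup_iff_pow_pow_eq_one.mp hP ⟨c, hBP hcB⟩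
  have h9 : π c ^ p ^ k = 1 := by
    have : c ^ p ^ k = 1 := by
      have := congrArg Subtype.val hk
      simpa using this
    rw [← map_pow, this, map_one]
  have h10 : π c = 1 := by
    have h11 : orderOf (π c) ∣ Nat.gcd (orderOf x) (p ^ k) :=
      Nat.dvd_gcd (orderOf_dvd_of_pow_eq_one h6) (orderOf_dvd_of_pow_eq_one h9)
    have h12 : Nat.gcd (orderOf x) (p ^ k) = 1 := Nat.Coprime.pow_right k hx
    rw [h12] at h11
    exact orderOf_eq_one_iff.mp (Nat.dvd_one.mp h11)
  exact (QuotientGroup.eq_one_iff _).mp h10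

/-- Between two normal subgroups `A < P` of a finite group there is a normal subgroup `B`, minimal
with `A < B ≤ P`. -/
theorem exists_chief {G : Type*} [Group G] [Finite G] (A P : Subgroup G) [P.Normal]
    (hAP : A < P) : ∃ B : Subgroup G, B.Normal ∧ A < B ∧ B ≤ P ∧
      ∀ C : Subgroup G, C.Normal → A < C → C ≤ B → C = B := by
  have hfin : Set.Finite {B : Subgroup G | B.Normal ∧ A < B ∧ B ≤ P} := Set.toFinite _
  obtain ⟨B, hB⟩ := hfin.exists_minimal ⟨P, inferInstance, hAP, le_rfl⟩
  refine ⟨B, hB.1.1, hB.1.2.1, hB.1.2.2, ?_⟩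
  intro C hC hAC hCB
  exact le_antisymm hCB (hB.2 ⟨hC, hAC, hCB.trans hB.1.2.2⟩ hCB)

/-- Lemma: an element `x` of order coprime to `p` acting trivially on each chief factor between `M`
and the normal `p`-subgroup `P` acts trivially on `P` modulo `M`. -/
theorem comm_mem_of_chain {G : Type*} [Group G] [Finite G] {p : ℕ} (P M : Subgroup G)
    [hPn : P.Normal] (hP : IsPGroup p P) (x : G)
    (hx : (orderOf x).Coprime p)
    (hchief : ∀ A B : Subgroup G, A.Normal → B.Normal → M ≤ A → A < B → B ≤ P →
      (∀ C : Subgroup G, C.Normal → A < C → C ≤ B → C = B) → ∀ b ∈ B, x * b * x⁻¹ * b⁻¹ ∈ A) :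
    ∀ A : Subgroup G, A.Normal → M ≤ A → A ≤ P → ∀ y ∈ P, x * y * x⁻¹ * y⁻¹ ∈ A := by
  intro A
  induction A using WellFoundedGT.induction with
  | ind A ih =>
    intro hA hMA hAP
    rcases eq_or_lt_of_le hAP with h | h
    · subst h
      intro y hy
      exact A.mul_mem (hPn.conj_mem y hy x) (A.inv_mem hy)
    · obtain ⟨B, hB, hAB, hBP, hmin⟩ := exists_chief A P h
      exact comm_mem_step P A B hP hBP x hx (ih B hAB hB (hMA.trans hAB.le) hBP)
        (hchief A B hA hB hMA hAB hBP hmin)

/-- Lemma D: a minimal normal subgroup `M` meeting trivially a nontrivial normal subgroup `Q` has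
the order of a chief factor above `Q`. -/
theorem card_prime_of_disjoint {G : Type*} [Group G] (M Q : Subgroup G)
    [hMn : M.Normal] [hQn : Q.Normal] (hMne : M ≠ ⊥)
    (hmin : ∀ K : Subgroup G, K.Normal → K ≤ M → K = ⊥ ∨ K = M) (hQM : Q ⊓ M = ⊥)
    (hchief : ∀ B : Subgroup G, B.Normal → Q < B →
      (∀ C : Subgroup G, C.Normal → Q < C → C ≤ B → C = B) → (Q.relIndex B).Prime) :
    (Nat.card M).Prime := by
  have h1 : Q.relIndex (Q ⊔ M) = Nat.card M := by
    rw [relIndex_sup_left, ← inf_relIndex_right, hQM, relIndex_bot_left]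
  rw [← h1]
  refine hchief (Q ⊔ M) inferInstance ?_ ?_
  · refine lt_of_le_of_ne le_sup_left ?_
    intro h
    have : M ≤ Q := by rw [h]; exact le_sup_right
    rw [inf_eq_right.mpr this] at hQM
    exact hMne hQM
  · intro C hC hQC hCle
    rcases hmin (C ⊓ M) inferInstance inf_le_right with h | h
    · exfalso
      apply absurd hQC
      refine not_lt_of_ge ?_
      intro x hx
      obtain ⟨q, hq, m, hm, rfl⟩ := Subgroup.mem_sup_of_normal_left.mp (hCle hx)
      have hm' : m ∈ C ⊓ M := by
        refine ⟨?_, hm⟩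
        have := C.mul_mem (C.inv_mem (hQC.le hq)) hx
        simpa using this
      rw [h] at hm'
      rw [Subgroup.mem_bot.mp hm', mul_one]
      exact hq
    · exact le_antisymm hCle (sup_le hQC.le (by rw [← h]; exact inf_le_left))

/-- If `M` is an abelian minimal normal subgroup and `X` a maximal subgroup not containing `M`,
then `|M| = |G : X|`. -/
theorem card_eq_index_of_coatom {G : Type*} [Group G] (M X : Subgroup G)
    [hMn : M.Normal] (hmin : ∀ K : Subgroup G, K.Normal → K ≤ M → K = ⊥ ∨ K = M)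
    (hab : ∀ a ∈ M, ∀ b ∈ M, a * b = b * a) (hX : IsCoatom X) (hMX : ¬ M ≤ X) :
    Nat.card M = X.index := by
  have hsup : M ⊔ X = ⊤ := by
    apply hX.2
    refine lt_of_le_of_ne le_sup_right ?_
    intro h
    exact hMX (by rw [h]; exact le_sup_left)
  have hnorm : (M ⊓ X).Normal := by
    refine ⟨?_⟩
    intro n hn g
    have hg : g ∈ M ⊔ X := by rw [hsup]; trivial
    obtain ⟨m, hm, x, hx, rfl⟩ := Subgroup.mem_sup_of_normal_left.mp hg
    have h1 : x * n * x⁻¹ ∈ M ⊓ X :=
      ⟨hMn.conj_mem n hn.1 x, X.mul_mem (X.mul_mem hx hn.2) (X.inv_mem hx)⟩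
    have h2 : m * x * n * (m * x)⁻¹ = x * n * x⁻¹ := by
      have := hab m hm _ h1.1
      calc m * x * n * (m * x)⁻¹ = m * (x * n * x⁻¹) * m⁻¹ := by group
        _ = (x * n * x⁻¹) * m * m⁻¹ := by rw [this]
        _ = x * n * x⁻¹ := by group
    rw [h2]
    exact h1
  have hbot : M ⊓ X = ⊥ := by
    rcases hmin _ hnorm inf_le_left with h | h
    · exact h
    · exact absurd (inf_eq_left.mp h) hMX
  have hcompl : IsComplement' M X := by
    refine isComplement'_of_disjoint_and_mul_eq_univ (disjoint_iff.mpr hbot) ?_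
    rw [← Subgroup.normal_mul, hsup]
    rfl
  exact hcompl.index_eq_card.symm

/-- A minimal normal subgroup contained in a normal `p`-subgroup `P` centralizes `P`. -/
theorem minimal_normal_commute {G : Type*} [Group G] [Finite G] {p : ℕ} [Fact p.Prime]
    (P M : Subgroup G) [hPn : P.Normal] [hMn : M.Normal] (hP : IsPGroup p P) (hMP : M ≤ P)
    (hMne : M ≠ ⊥) (hmin : ∀ K : Subgroup G, K.Normal → K ≤ M → K = ⊥ ∨ K = M) :
    ∀ y ∈ P, ∀ m ∈ M, y * m = m * y := by
  have hK : (M ⊓ centralizer (P : Set G)).Normal := inferInstance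
  have hne : M ⊓ centralizer (P : Set G) ≠ ⊥ := by
    have hMp : IsPGroup p M := hP.to_le hMP
    have hdvd : p ∣ Nat.card M := by
      rcases hMp.card_eq_or_dvd with h | h
      · exact absurd (Subgroup.card_eq_one.mp h) hMne
      · exact h
    -- `P` acts on `M` by conjugation
    let φ : P →* MulAut M := MulAut.conjNormal.comp P.subtype
    let _ : MulAction P M := MulAction.compHom M φ
    have hsmul : ∀ (y : P) (m : M), ((y • m : M) : G) = y * m * (y : G)⁻¹ := by
      intro y m
      exact MulAut.conjNormal_apply (H := M) (y : G) m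
    have h1 : (1 : M) ∈ MulAction.fixedPoints P M := by
      intro y
      apply Subtype.ext
      rw [hsmul]
      simp
    obtain ⟨b, hb, hb1⟩ := hP.exists_fixed_point_of_prime_dvd_card_of_fixed_point M hdvd h1
    intro hbot
    apply hb1
    have hb' : (b : G) ∈ M ⊓ centralizer (P : Set G) := by
      refine Subgroup.mem_inf.mpr ⟨b.2, ?_⟩
      rw [Subgroup.mem_centralizer_iff]
      intro y hy
      have := hsmul ⟨y, hy⟩ b
      rw [hb ⟨y, hy⟩] at this
      exact (eq_mul_inv_iff_mul_eq.mp this).symm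
    rw [hbot] at hb'
    exact (Subtype.ext (Subgroup.mem_bot.mp hb')).symm
  have hEq : M ⊓ centralizer (P : Set G) = M := (hmin _ hK inf_le_left).resolve_left hne
  intro y hy m hm
  rw [← hEq] at hm
  exact Subgroup.mem_centralizer_iff.mp hm.2 y hy

/-- Frattini argument with a Sylow subgroup of `N` given as a subgroup of `G`. -/
theorem frattini_argument {G : Type*} [Group G] [Finite G] {q : ℕ} [Fact q.Prime]
    (Q N : Subgroup G) [N.Normal] (hQ : IsPGroup q Q) (hQN : Q ≤ N) (h : ¬ q ∣ Q.relIndex N) :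
    normalizer (Q : Set G) ⊔ N = ⊤ := by
  have h1 : IsPGroup q (Q.subgroupOf N) := hQ.comap_subtype
  have h2 : normalizer (((Q.subgroupOf N).map N.subtype : Subgroup G) : Set G) ⊔ N = ⊤ :=
    Sylow.normalizer_sup_eq_top (h1.toSylow h)
  rw [Subgroup.map_subgroupOf_eq_of_le hQN] at h2
  exact h2

/-- Linear algebra: an endomorphism `f` of a nonzero finite `ZMod p`-module with `f ^ (p - 1) = 1`
has an eigenvector. -/
theorem exists_eigenvector {p : ℕ} [Fact p.Prime] {V : Type*} [AddCommGroup V] [Module (ZMod p) V]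
    [Finite V] [Nontrivial V] (f : V →ₗ[ZMod p] V) (hf : f ^ (p - 1) = 1) :
    ∃ (a : ZMod p) (v : V), v ≠ 0 ∧ f v = a • v := by
  have hfd : Module.Finite (ZMod p) V := Module.Finite.of_finite
  have h1 : f ^ p = f := by
    have hp : 0 < p := (Fact.out (p := p.Prime)).pos
    obtain ⟨n, hn⟩ : ∃ n, n = p - 1 := ⟨_, rfl⟩
    have hn' : p = n + 1 := by omega
    calc f ^ p = f ^ (n + 1) := congrArg (fun k => f ^ k) hn'
      _ = f := by rw [pow_succ, hn, hf, one_mul]
  have hdvd : minpoly (ZMod p) f ∣ (Polynomial.X ^ p - Polynomial.X : Polynomial (ZMod p)) := by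
    apply minpoly.dvd
    simp [h1]
  have hne : (Polynomial.X ^ p - Polynomial.X : Polynomial (ZMod p)) ≠ 0 :=
    FiniteField.X_pow_card_sub_X_ne_zero _ (Fact.out (p := p.Prime)).one_lt
  have hsplit : (Polynomial.X ^ p - Polynomial.X : Polynomial (ZMod p)).Splits :=
    GaloisField.splits_zmod_X_pow_sub_X p
  have hsplit2 : (minpoly (ZMod p) f).Splits := hsplit.of_dvd hne hdvd
  have hint : IsIntegral (ZMod p) f := Algebra.IsIntegral.isIntegral f
  have hdeg : (minpoly (ZMod p) f).degree ≠ 0 := (minpoly.degree_pos hint).ne'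
  obtain ⟨a, ha⟩ := hsplit2.exists_eval_eq_zero hdeg
  have hev : Module.End.HasEigenvalue f a := Module.End.hasEigenvalue_of_isRoot ha
  obtain ⟨v, hv⟩ := hev.exists_hasEigenvector
  exact ⟨a, v, hv.2, hv.apply_eq_smul⟩

/-- An additive endomorphism `f` of a finite nonzero `ZMod p`-module with `f ^ (p - 1) = 1` has
an eigenvector. -/
theorem exists_eigen_add {p : ℕ} [Fact p.Prime] {V : Type*} [AddCommGroup V] [Module (ZMod p) V]
    [Finite V] [Nontrivial V] (f : V →+ V) (hf : ∀ v, f^[p - 1] v = v) :
    ∃ (k : ℕ) (v : V), v ≠ 0 ∧ f v = k • v := by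
  let F : V →ₗ[ZMod p] V := f.toZModLinearMap p
  have hFapp : ∀ v : V, F v = f v := fun v => rfl
  have hFpow : ∀ (n : ℕ) (v : V), (F ^ n) v = f^[n] v := by
    intro n
    induction n with
    | zero => intro v; rfl
    | succ n ih =>
      intro v
      rw [pow_succ F, Module.End.mul_apply, ih, hFapp, Function.iterate_succ_apply]
  have hF1 : F ^ (p - 1) = 1 := by
    apply LinearMap.ext
    intro v
    rw [hFpow, hf]
    rfl
  obtain ⟨a, v, hv, hav⟩ := exists_eigenvector F hF1
  refine ⟨a.val, v, hv, ?_⟩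
  have h1 : a • v = a.val • v := by
    conv_lhs => rw [← ZMod.natCast_zmod_val a]
    rw [Nat.cast_smul_eq_nsmul]
  rw [← hFapp, hav, h1]

/-- An endomorphism `f` of a nontrivial finite elementary abelian `p`-group with `f ^ (p - 1) = 1` has
an eigenvector. -/
theorem exists_eigen_abs {M : Type*} [CommGroup M] [Finite M] [Nontrivial M] {p : ℕ}
    [Fact p.Prime] (hpow : ∀ m : M, m ^ p = 1) (f : M →* M) (hf : ∀ m, f^[p - 1] m = m) :
    ∃ (k : ℕ) (m : M), m ≠ 1 ∧ f m = m ^ k :=
  @exists_eigen_add p _ (Additive M) _ (AddCommGroup.zmodModule (n := p) hpow) _ _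
    (MonoidHom.toAdditive f) hf

open scoped IsMulCommutative in
/-- For each `g`, a `p`-elementary abelian normal subgroup `M ≠ 1` on which `g ^ (p - 1)` acts trivially
contains an eigenvector of `g`. -/
theorem exists_eigen {G : Type*} [Group G] [Finite G] {p : ℕ} [Fact p.Prime]
    (M : Subgroup G) [hMn : M.Normal] (hne : M ≠ ⊥)
    (hab : ∀ a ∈ M, ∀ b ∈ M, a * b = b * a) (hpow : ∀ m ∈ M, m ^ p = 1) (g : G)
    (hexp : ∀ m ∈ M, g ^ (p - 1) * m * (g ^ (p - 1))⁻¹ = m) :
    ∃ (k : ℕ) (m : G), m ∈ M ∧ m ≠ 1 ∧ g * m * g⁻¹ = m ^ k := by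
  have hMc : IsMulCommutative M := ⟨⟨fun a b => Subtype.ext (hab a a.2 b b.2)⟩⟩
  have _ : Nontrivial M := (Subgroup.nontrivial_iff_ne_bot M).mpr hne
  have hit : ∀ (n : ℕ) (m : M),
      (((MulAut.conjNormal (H := M) g).toMonoidHom^[n] m : M) : G) = g ^ n * m * (g ^ n)⁻¹ := by
    intro n
    induction n with
    | zero => intro m; simp
    | succ n ih =>
      intro m
      rw [Function.iterate_succ_apply, ih]
      have : (((MulAut.conjNormal (H := M) g).toMonoidHom m : M) : G) = g * m * g⁻¹ :=
        MulAut.conjNormal_apply (H := M) g m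
      rw [this, pow_succ g]
      group
  have hpow' : ∀ m : M, m ^ p = 1 := fun m => Subtype.ext (hpow m m.2)
  obtain ⟨k, m, hm1, hm⟩ := exists_eigen_abs (M := M) (p := p)
    hpow' (MulAut.conjNormal (H := M) g).toMonoidHom
    (fun m => Subtype.ext (by rw [hit]; exact hexp m m.2))
  refine ⟨k, m, m.2, fun h => hm1 (Subtype.ext h), ?_⟩
  have h1 : (((MulAut.conjNormal (H := M) g).toMonoidHom m : M) : G) = g * m * g⁻¹ :=
    MulAut.conjNormal_apply (H := M) g m
  rw [← h1, hm]
  rfl

/-- If a finite group acts on the minimal normal subgroup `M` (an abelian `p`-group) through an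
abelian group of exponent dividing `p - 1`, then `|M| = p`. -/
theorem card_eq_of_abelian_exponent {G : Type*} [Group G] [Finite G] {p : ℕ} [hp : Fact p.Prime]
    (M : Subgroup G) [hMn : M.Normal] (hM : IsPGroup p M) (hne : M ≠ ⊥)
    (hmin : ∀ K : Subgroup G, K.Normal → K ≤ M → K = ⊥ ∨ K = M)
    (hab : ∀ a ∈ M, ∀ b ∈ M, a * b = b * a)
    (hcomm : ∀ g h : G, ∀ m ∈ M, (g * h) * m * (g * h)⁻¹ = (h * g) * m * (h * g)⁻¹)
    (hexp : ∀ g : G, ∀ m ∈ M, g ^ (p - 1) * m * (g ^ (p - 1))⁻¹ = m) : Nat.card M = p := by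
  have hdvd : p ∣ Nat.card M := by
    rcases hM.card_eq_or_dvd with h | h
    · exact absurd (Subgroup.card_eq_one.mp h) hne
    · exact h
  -- general principle: a `G`-invariant subgroup of `M` defined by a power condition is `M`
  have key : ∀ (S : Set G), (∀ a ∈ M, ∀ b ∈ M, a ∈ S → b ∈ S → a * b ∈ S) → (1 : G) ∈ S →
      (∀ a ∈ M, a ∈ S → a⁻¹ ∈ S) → (∀ g : G, ∀ a ∈ M, a ∈ S → g * a * g⁻¹ ∈ S) →
      (∃ a ∈ M, a ∈ S ∧ a ≠ 1) → ∀ a ∈ M, a ∈ S := by
    intro S hmul hone hinv hconj ⟨a, haM, haS, ha1⟩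
    let K : Subgroup G :=
      { carrier := {x | x ∈ M ∧ x ∈ S}
        mul_mem' := fun {x y} hx hy => ⟨M.mul_mem hx.1 hy.1, hmul x hx.1 y hy.1 hx.2 hy.2⟩
        one_mem' := ⟨M.one_mem, hone⟩
        inv_mem' := fun {x} hx => ⟨M.inv_mem hx.1, hinv x hx.1 hx.2⟩ }
    have hKn : K.Normal := ⟨fun n hn g => ⟨hMn.conj_mem n hn.1 g, hconj g n hn.1 hn.2⟩⟩
    have hKM : K ≤ M := fun x hx => hx.1
    rcases hmin K hKn hKM with h | h
    · exfalso
      have haK : a ∈ K := ⟨haM, haS⟩
      rw [h] at haK
      exact ha1 (Subgroup.mem_bot.mp haK)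
    · intro b hb
      rw [← h] at hb
      exact hb.2
  have hpow : ∀ m ∈ M, m ^ p = 1 := by
    refine key {x | x ^ p = 1} ?_ (one_pow p) ?_ ?_ ?_
    · intro a ha b hb h1 h2
      have hc : Commute a b := hab a ha b hb
      simp only [Set.mem_ofPred_eq] at *
      rw [hc.mul_pow, h1, h2, mul_one]
    · intro a _ h1
      simp only [Set.mem_ofPred_eq] at *
      rw [inv_pow, h1, inv_one]
    · intro g a _ h1
      simp only [Set.mem_ofPred_eq] at *
      rw [conj_pow, h1, mul_one, mul_inv_cancel]
    · obtain ⟨x, hx⟩ := exists_prime_orderOf_dvd_card' (G := M) p hdvd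
      refine ⟨x, x.2, ?_, ?_⟩
      · have : x ^ p = 1 := by rw [← hx]; exact pow_orderOf_eq_one x
        have := congrArg Subtype.val this
        simpa using this
      · intro h
        have h2 : x = 1 := Subtype.ext h
        rw [h2, orderOf_one] at hx
        exact hp.out.one_lt.ne hx
  have heig : ∀ g : G, ∃ k : ℕ, ∀ m ∈ M, g * m * g⁻¹ = m ^ k := by
    intro g
    obtain ⟨k, m, hm, hm1, hgm⟩ := exists_eigen M hne hab hpow g (hexp g)
    refine ⟨k, key {x | g * x * g⁻¹ = x ^ k} ?_ ?_ ?_ ?_ ⟨m, hm, hgm, hm1⟩⟩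
    · intro a ha b hb h1 h2
      have hc : Commute a b := hab a ha b hb
      simp only [Set.mem_ofPred_eq] at *
      rw [hc.mul_pow, ← h1, ← h2]
      group
    · simp
    · intro a _ h1
      simp only [Set.mem_ofPred_eq] at *
      rw [inv_pow, ← h1]
      group
    · intro h a ha h1
      simp only [Set.mem_ofPred_eq] at *
      rw [conj_pow, ← h1]
      have h2 := hcomm g h a ha
      calc g * (h * a * h⁻¹) * g⁻¹ = (g * h) * a * (g * h)⁻¹ := by group
        _ = (h * g) * a * (h * g)⁻¹ := h2
        _ = h * (g * a * g⁻¹) * h⁻¹ := by group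
  obtain ⟨m, hm, hm1⟩ : ∃ m ∈ M, m ≠ 1 := by
    by_contra hcon
    push Not at hcon
    exact hne ((Subgroup.eq_bot_iff_forall M).mpr hcon)
  have hz : zpowers m = M := by
    have hzn : (zpowers m).Normal := by
      refine ⟨?_⟩
      intro n hn g
      obtain ⟨k, hk⟩ := heig g
      have hnM : n ∈ M := (Subgroup.zpowers_le.mpr hm) hn
      rw [hk n hnM]
      exact Subgroup.pow_mem _ hn k
    rcases hmin _ hzn (Subgroup.zpowers_le.mpr hm) with h | h
    · exact absurd (Subgroup.zpowers_eq_bot.mp h) hm1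
    · exact h
  rw [← hz, Nat.card_zpowers]
  exact orderOf_eq_prime (hpow m hm) hm1

/-- Elements of the subgroup generated by commutators, `(p-1)`-st powers and a normal `p`-subgroup act
trivially on chief factors of order `p`. -/
theorem act_trivially {G : Type*} [Group G] {p : ℕ} [hp : Fact p.Prime] (P A B : Subgroup G)
    (hP : IsPGroup p P) (hA : A.Normal) (hB : B.Normal) (hAB : A.relIndex B = p) (w : G)
    (hw : w ∈ commutator G ⊔ (closure (Set.range (fun g : G => g ^ (p - 1))) ⊔ P)) :
    ∀ b ∈ B, w * b * w⁻¹ * b⁻¹ ∈ A := by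
  obtain ⟨f, hf⟩ := exists_hom_of_relIndex_prime A B hAB
  apply hf
  have hle : commutator G ⊔ (closure (Set.range (fun g : G => g ^ (p - 1))) ⊔ P) ≤ f.ker := by
    refine sup_le (Abelianization.commutator_subset_ker f) (sup_le ?_ ?_)
    · rw [closure_le]
      rintro _ ⟨g, rfl⟩
      simp only [SetLike.mem_coe, MonoidHom.mem_ker, map_pow]
      exact ZMod.units_pow_card_sub_one_eq_one p (f g)
    · intro y hy
      rw [MonoidHom.mem_ker]
      obtain ⟨k, hk⟩ := isPGroup_iff_pow_pow_eq_one.mp hP ⟨y, hy⟩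
      have hk' : y ^ p ^ k = 1 := by
        have := congrArg Subtype.val hk
        simpa using this
      have h1 : orderOf (f y) ∣ p ^ k := by
        apply orderOf_dvd_of_pow_eq_one
        rw [← map_pow, hk', map_one]
      have h2 : orderOf (f y) ∣ p - 1 :=
        orderOf_dvd_of_pow_eq_one (ZMod.units_pow_card_sub_one_eq_one p (f y))
      have h3 : Nat.Coprime (p ^ k) (p - 1) := by
        apply Nat.Coprime.pow_left
        refine Nat.coprime_of_lt_prime ?_ ?_ hp.out
        · have := hp.out.one_lt; omega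
        · have := hp.out.one_lt; omega
      have h4 : orderOf (f y) ∣ 1 := by
        rw [← h3]
        exact Nat.dvd_gcd h1 h2
      exact orderOf_eq_one_iff.mp (Nat.dvd_one.mp h4)
  exact hle hw

open scoped commutatorElement in
theorem mul_mem_commutator_aux {G : Type*} [Group G] (g h : G) :
    (h * g)⁻¹ * (g * h) ∈ commutator G := by
  have h1 : (h * g)⁻¹ * (g * h) = ⁅g⁻¹, h⁻¹⁆ := by
    rw [commutatorElement_def]; group
  rw [h1]
  exact Subgroup.commutator_mem_commutator (Subgroup.mem_top _) (Subgroup.mem_top _)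

theorem card_quotient_lt {G : Type*} [Group G] [Finite G] (A : Subgroup G) (hA : A ≠ ⊥) :
    Nat.card (G ⧸ A) < Nat.card G := by
  rw [Subgroup.card_eq_card_quotient_mul_card_subgroup A]
  have h2 : 1 < Nat.card A := (Subgroup.one_lt_card_iff_ne_bot _).mpr hA
  have h3 : 0 < Nat.card (G ⧸ A) := Nat.card_pos
  nlinarith

theorem card_minimal_normal_prime_aux (n : ℕ) : ∀ {G : Type u} [Group G] [Finite G],
    Nat.card G = n →
    (∀ X : Subgroup G, IsCoatom X → X.index.Prime) → ∀ M : Subgroup G, M.Normal → M ≠ ⊥ →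
    (∀ K : Subgroup G, K.Normal → K ≤ M → K = ⊥ ∨ K = M) → (Nat.card M).Prime := by
  induction n using Nat.strong_induction_on with
  | _ n ih =>
    intro G _ _ hn h M hMn hMne hmin
    -- chief factors above a nontrivial normal subgroup have prime order
    have hchief : ∀ A B : Subgroup G, A.Normal → B.Normal → A ≠ ⊥ → A < B →
        (∀ C : Subgroup G, C.Normal → A < C → C ≤ B → C = B) → (A.relIndex B).Prime := by
      intro A B hA hB hAne hAB hC
      let π : G →* G ⧸ A := QuotientGroup.mk' A
      have hπ : Function.Surjective π := QuotientGroup.mk'_surjective A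
      have hker : π.ker = A := QuotientGroup.ker_mk' A
      have hcard : Nat.card (B.map π) = A.relIndex B := by
        rw [← Subgroup.relIndex_ker, hker]
      rw [← hcard]
      have hlt : Nat.card (G ⧸ A) < n := hn ▸ card_quotient_lt A hAne
      refine ih _ hlt rfl (maximal_prime_index_quotient h A) (B.map π) (hB.map π hπ) ?_ ?_
      · intro hbot
        have : B ≤ A := by
          rw [Subgroup.map_eq_bot_iff, hker] at hbot
          exact hbot
        exact absurd hAB (not_lt_of_ge this)
      · intro K hK hKB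
        have h1 : A ≤ K.comap π := by
          have h0 := Subgroup.ker_le_comap π K
          rwa [hker] at h0
        have h2 : K.comap π ≤ B := by
          refine (Subgroup.comap_mono hKB).trans ?_
          rw [Subgroup.comap_map_eq, hker]
          exact sup_le le_rfl hAB.le
        have hKmap : K = (K.comap π).map π := (Subgroup.map_comap_eq_self_of_surjective hπ K).symm
        rcases eq_or_lt_of_le h1 with h3 | h3
        · left
          rw [hKmap, ← h3, Subgroup.map_eq_bot_iff, hker]
        · right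
          rw [hKmap, hC _ (hK.comap π) h3 h2]
    have h1 : 1 < Nat.card G := by
      have h2 : 1 < Nat.card M := (Subgroup.one_lt_card_iff_ne_bot _).mpr hMne
      exact lt_of_lt_of_le h2 (Subgroup.card_le_card_group M)
    obtain ⟨p, hp, hpn, hmax⟩ := exists_largest_prime h1
    have hpf : Fact p.Prime := ⟨hp⟩
    obtain ⟨P⟩ : Nonempty (Sylow p G) := inferInstance
    have hPn : (P : Subgroup G).Normal := sylow_normal_of_maximal_prime_index h hmax P
    have hPne : (P : Subgroup G) ≠ ⊥ := P.ne_bot_of_dvd_card hpn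
    by_cases hMP : M ≤ P
    swap
    · -- Case 1
      have hPM : (P : Subgroup G) ⊓ M = ⊥ :=
        (hmin _ inferInstance inf_le_right).resolve_right (fun h => hMP (inf_eq_right.mp h))
      exact card_prime_of_disjoint M P hMne hmin hPM
        (fun B hB hlt hC => hchief P B hPn hB hPne hlt hC)
    have hcentral := minimal_normal_commute (P : Subgroup G) M P.isPGroup' hMP hMne hmin
    have hab : ∀ a ∈ M, ∀ b ∈ M, a * b = b * a := fun a ha b hb => hcentral a (hMP ha) b hb
    obtain ⟨W, hW⟩ : ∃ W : Subgroup G,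
      W = commutator G ⊔ (closure (Set.range (fun g : G => g ^ (p - 1))) ⊔ P) := ⟨_, rfl⟩
    have hcommW : commutator G ≤ W := by rw [hW]; exact le_sup_left
    have hpowW : ∀ g : G, g ^ (p - 1) ∈ W := by
      intro g
      rw [hW]
      exact (le_sup_of_le_right le_sup_left :
        closure (Set.range (fun g : G => g ^ (p - 1))) ≤ _) (subset_closure ⟨g, rfl⟩)
    have hWn : W.Normal := Subgroup.Normal.of_commutator_le G hcommW
    have hPW : (P : Subgroup G) ≤ W := by
      rw [hW]; exact le_sup_of_le_right le_sup_right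
    by_cases hWP : W ≤ P
    · -- Case 2a
      have hMp : IsPGroup p M := P.isPGroup'.to_le hMP
      have hcardM : Nat.card M = p := by
        refine card_eq_of_abelian_exponent M hMp hMne hmin hab ?_ ?_
        · intro g h m hm
          have h2 : (h * g)⁻¹ * (g * h) ∈ (P : Subgroup G) := by
            apply hWP
            apply hcommW
            exact mul_mem_commutator_aux g h
          have h3 := hcentral _ h2 m hm
          calc g * h * m * (g * h)⁻¹ = (h * g) * (((h * g)⁻¹ * (g * h)) * m) * (g * h)⁻¹ := by group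
            _ = (h * g) * (m * ((h * g)⁻¹ * (g * h))) * (g * h)⁻¹ := by rw [h3]
            _ = h * g * m * (h * g)⁻¹ := by group
        · intro g m hm
          rw [hcentral _ (hWP (hpowW g)) m hm]
          group
      rw [hcardM]
      exact hp
    -- Case 2b
    obtain ⟨L, hLn, hPL, hLW, hLmin⟩ := exists_chief (P : Subgroup G) W (lt_of_le_not_ge hPW hWP)
    have hq := hchief P L hPn hLn hPne hPL hLmin
    obtain ⟨q, hqdef⟩ : ∃ q, q = (P : Subgroup G).relIndex L := ⟨_, rfl⟩
    rw [← hqdef] at hq
    have hqf : Fact q.Prime := ⟨hq⟩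
    have hqp : q ≠ p := by
      intro hqp
      apply P.not_dvd_index
      have h2 : q ∣ (P : Subgroup G).index := by
        rw [hqdef]; exact relIndex_dvd_index_of_le hPL.le
      rwa [hqp] at h2
    obtain ⟨Q0⟩ : Nonempty (Sylow q L) := inferInstance
    obtain ⟨Q, hQdef⟩ : ∃ Q : Subgroup G, Q = (Q0 : Subgroup L).map L.subtype := ⟨_, rfl⟩
    have hQp : IsPGroup q Q := by rw [hQdef]; exact Q0.isPGroup'.map _
    have hQL : Q ≤ L := by rw [hQdef]; exact map_subtype_le _
    have hQrel : ¬ q ∣ Q.relIndex L := by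
      have h2 : Q.relIndex L = (Q0 : Subgroup L).index := by
        rw [relIndex, hQdef]
        exact congrArg Subgroup.index
          (Subgroup.comap_map_eq_self_of_injective (Subgroup.subtype_injective L) _)
      rw [h2]
      exact Q0.not_dvd_index
    have hQne : Q ≠ ⊥ := by
      intro h2
      apply hQrel
      rw [h2, relIndex_bot_left, hqdef]
      exact relIndex_dvd_card _ _
    have hPQbot : (P : Subgroup G) ⊓ Q = ⊥ := by
      rw [← disjoint_iff]
      exact IsPGroup.disjoint_of_ne p q (Ne.symm hqp) _ _ P.isPGroup' hQp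
    have hPQ : (P : Subgroup G) ⊔ Q = L := by
      apply le_antisymm (sup_le hPL.le hQL)
      have h2 := relIndex_mul_relIndex (P : Subgroup G) (P ⊔ Q) L le_sup_left (sup_le hPL.le hQL)
      rw [← hqdef] at h2
      have h3 : (P : Subgroup G).relIndex (P ⊔ Q) ≠ 1 := by
        intro h3
        rw [relIndex_eq_one] at h3
        apply hQne
        rw [← hPQbot]
        exact (inf_eq_right.mpr (le_sup_right.trans h3)).symm
      have h4 : ((P : Subgroup G) ⊔ Q).relIndex L = 1 := by
        rcases (Nat.Prime.eq_one_or_self_of_dvd hq _ (Dvd.intro _ h2)) with h5 | h5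
        · exact absurd h5 h3
        · rw [h5] at h2
          exact Nat.eq_of_mul_eq_mul_left hq.pos (by rw [h2, mul_one])
      exact relIndex_eq_one.mp h4
    have hQact : ∀ x ∈ Q, ∀ y ∈ (P : Subgroup G), x * y * x⁻¹ * y⁻¹ ∈ M := by
      intro x hx
      refine comm_mem_of_chain (P : Subgroup G) M P.isPGroup' x ?_ ?_ M hMn le_rfl hMP
      · obtain ⟨k, hk⟩ := isPGroup_iff_orderOf_dvd_pow.mp hQp ⟨x, hx⟩
        rw [Subgroup.orderOf_mk] at hk
        exact Nat.Coprime.coprime_dvd_left hk
          (Nat.Coprime.pow_left k ((Nat.coprime_primes hq hp).mpr hqp))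
      · intro A B hA hB hMA hAB hBP hC
        have hAne : A ≠ ⊥ := by
          intro h2
          rw [h2] at hMA
          exact hMne (le_bot_iff.mp hMA)
        have h2 := hchief A B hA hB hAne hAB hC
        have h3 : A.relIndex B = p := by
          have h4 : IsPGroup p B := P.isPGroup'.to_le hBP
          obtain ⟨k, hk⟩ := IsPGroup.iff_card.mp h4
          have h5 : A.relIndex B ∣ p ^ k := by rw [← hk]; exact relIndex_dvd_card _ _
          exact (Nat.prime_dvd_prime_iff_eq h2 hp).mp (h2.dvd_of_dvd_pow h5)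
        exact act_trivially (P : Subgroup G) A B P.isPGroup' hA hB h3 x (hW ▸ hLW (hQL hx))
    have hRn : (M ⊔ Q).Normal := by
      have h2 : L ≤ normalizer ((M ⊔ Q : Subgroup G) : Set G) := by
        rw [← hPQ]
        refine sup_le ?_ (le_sup_right.trans le_normalizer)
        have h3 : ∀ y ∈ (P : Subgroup G), ∀ z ∈ M ⊔ Q, y * z * y⁻¹ ∈ M ⊔ Q := by
          intro y hy z hz
          obtain ⟨m, hm, x, hx, rfl⟩ := Subgroup.mem_sup_of_normal_left.mp hz
          have h4 := M.inv_mem (hQact x hx y hy)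
          have h5 : y * (m * x) * y⁻¹ = (y * m * y⁻¹) * (x * y * x⁻¹ * y⁻¹)⁻¹ * x := by group
          rw [h5]
          exact mul_mem (mul_mem (le_sup_left (a := M) (b := Q) (hMn.conj_mem m hm y))
            (le_sup_left (a := M) (b := Q) h4)) (le_sup_right (a := M) (b := Q) hx)
        intro y hy
        rw [Subgroup.mem_normalizer_iff]
        intro z
        constructor
        · exact h3 y hy z
        · intro hz
          have := h3 y⁻¹ ((P : Subgroup G).inv_mem hy) _ hz
          have h6 : y⁻¹ * (y * z * y⁻¹) * y⁻¹⁻¹ = z := by group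
          rwa [h6] at this
      have h3 : normalizer (Q : Set G) ≤ normalizer ((M ⊔ Q : Subgroup G) : Set G) := by
        have h5 : ∀ y ∈ normalizer (Q : Set G), ∀ z ∈ M ⊔ Q, y * z * y⁻¹ ∈ M ⊔ Q := by
          intro y hy z hz
          obtain ⟨m, hm, x, hx, rfl⟩ := Subgroup.mem_sup_of_normal_left.mp hz
          have h6 : y * (m * x) * y⁻¹ = (y * m * y⁻¹) * (y * x * y⁻¹) := by group
          rw [h6]
          exact mul_mem (le_sup_left (a := M) (b := Q) (hMn.conj_mem m hm y))
            (le_sup_right (a := M) (b := Q) ((Subgroup.mem_normalizer_iff.mp hy x).mp hx))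
        intro y hy
        rw [Subgroup.mem_normalizer_iff]
        intro z
        constructor
        · exact h5 y hy z
        · intro hz
          have := h5 y⁻¹ ((normalizer (Q : Set G)).inv_mem hy) _ hz
          have h6 : y⁻¹ * (y * z * y⁻¹) * y⁻¹⁻¹ = z := by group
          rwa [h6] at this
      have h4 := frattini_argument Q L hQp hQL hQrel
      rw [← normalizer_eq_top_iff, eq_top_iff, ← h4]
      exact sup_le h3 h2
    have hfr : normalizer (Q : Set G) ⊔ M = ⊤ := by
      have h2 : ¬ q ∣ Q.relIndex (M ⊔ Q) := by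
        intro h3
        apply hQrel
        have h4 := relIndex_mul_relIndex Q (M ⊔ Q) L le_sup_right
          (sup_le (hMP.trans hPL.le) hQL)
        rw [← h4]
        exact Dvd.dvd.mul_right h3 _
      have h3 := frattini_argument Q (M ⊔ Q) hQp le_sup_right h2
      rw [eq_top_iff, ← h3]
      exact sup_le le_sup_left (sup_le le_sup_right (le_sup_of_le_left le_normalizer))
    by_cases hQn : normalizer (Q : Set G) = ⊤
    · have hQnorm : Q.Normal := normalizer_eq_top_iff.mp hQn
      have hQM : Q ⊓ M = ⊥ := by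
        rw [eq_bot_iff, ← hPQbot]
        exact le_inf (inf_le_right.trans hMP) inf_le_left
      exact card_prime_of_disjoint M Q hMne hmin hQM
        (fun B hB hlt hC => hchief Q B hQnorm hB hQne hlt hC)
    · obtain ⟨X, hX, hNX⟩ := (eq_top_or_exists_le_coatom (normalizer (Q : Set G))).resolve_left hQn
      have hMX : ¬ M ≤ X := by
        intro hMX
        apply hX.1
        rw [eq_top_iff, ← hfr]
        exact sup_le hNX hMX
      rw [card_eq_index_of_coatom M X hmin hab hX hMX]
      exact h X hX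

/-- Minimal normal subgroups of a finite group all of whose maximal subgroups have prime index have
prime order. -/
theorem card_minimal_normal_prime {G : Type u} [Group G] [Finite G]
    (h : ∀ X : Subgroup G, IsCoatom X → X.index.Prime) (M : Subgroup G) (hM : M.Normal)
    (hMne : M ≠ ⊥) (hmin : ∀ K : Subgroup G, K.Normal → K ≤ M → K = ⊥ ∨ K = M) :
    (Nat.card M).Prime :=
  card_minimal_normal_prime_aux _ rfl h M hM hMne hmin

/-- If `N` is a normal subgroup generated by one element and `G ⧸ N` is supersolvable then so is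
`G`. -/
theorem isSupersolvable_of_quotient {G : Type u} [Group G] (N : Subgroup G) [N.Normal]
    (hN : ∃ g : G, N = zpowers g) (h : Cfsg.IsSupersolvable (G ⧸ N)) :
    Cfsg.IsSupersolvable G := by
  obtain ⟨g, hg⟩ := hN
  obtain ⟨n, H, h0, hl, hn, hs⟩ := h
  let π : G →* G ⧸ N := QuotientGroup.mk' N
  have hπ : Function.Surjective π := QuotientGroup.mk'_surjective N
  have hker : π.ker = N := QuotientGroup.ker_mk' N
  refine ⟨n + 1, Fin.cons ⊥ (fun i => (H i).comap π), ?_, ?_, ?_, ?_⟩
  · rfl
  · rw [← Fin.succ_last, Fin.cons_succ, hl, Subgroup.comap_top]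
  · intro i
    refine Fin.cases ?_ (fun j => ?_) i
    · rw [Fin.cons_zero]; infer_instance
    · rw [Fin.cons_succ]; exact (hn j).comap π
  · intro i
    refine Fin.cases ?_ (fun j => ?_) i
    · refine ⟨g, ?_⟩
      rw [Fin.cons_succ, Fin.castSucc_zero, Fin.cons_zero, h0, MonoidHom.comap_bot, hker, bot_sup_eq]
      exact hg
    · obtain ⟨x, hx⟩ := hs j
      obtain ⟨y, hy⟩ := hπ x
      refine ⟨y, ?_⟩
      rw [Fin.cons_succ, ← Fin.succ_castSucc, Fin.cons_succ, hx]
      have h1 : zpowers x = (zpowers y).map π := by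
        rw [MonoidHom.map_zpowers, hy]
      have h2 : H j.castSucc = ((H j.castSucc).comap π).map π :=
        (Subgroup.map_comap_eq_self_of_surjective hπ _).symm
      have h3 : π.ker ≤ (H j.castSucc).comap π := Subgroup.ker_le_comap _ _
      rw [h1]
      conv_lhs => rw [h2]
      rw [← Subgroup.map_sup, Subgroup.comap_map_eq]
      exact sup_eq_left.mpr (h3.trans le_sup_left)

theorem isSupersolvable_aux (n : ℕ) : ∀ {G : Type u} [Group G] [Finite G],
    Nat.card G = n → (∀ X : Subgroup G, IsCoatom X → X.index.Prime) →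
    Cfsg.IsSupersolvable G := by
  induction n using Nat.strong_induction_on with
  | _ n ih =>
    intro G _ _ hn h
    rcases subsingleton_or_nontrivial G with hsub | hnon
    · refine ⟨0, fun _ => ⊥, rfl, Subsingleton.elim _ _, fun _ => inferInstance, fun i => i.elim0⟩
    · obtain ⟨M, hM, hbot, -, hmin⟩ := exists_chief (⊥ : Subgroup G) ⊤ bot_lt_top
      have hMne : M ≠ ⊥ := hbot.ne'
      have hprime := card_minimal_normal_prime h M hM hMne (by
        intro K hK hKM
        rcases eq_or_ne K ⊥ with h1 | h1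
        · exact Or.inl h1
        · exact Or.inr (hmin K hK (bot_lt_iff_ne_bot.mpr h1) hKM))
      have hfact : Fact (Nat.card M).Prime := ⟨hprime⟩
      have hcyc : IsCyclic M := isCyclic_of_prime_card rfl
      apply isSupersolvable_of_quotient M
      · obtain ⟨g, hg⟩ := hcyc.exists_generator
        refine ⟨g, le_antisymm ?_ (Subgroup.zpowers_le.mpr g.2)⟩
        intro x hx
        obtain ⟨k, hk⟩ := Subgroup.mem_zpowers_iff.mp (hg ⟨x, hx⟩)
        refine Subgroup.mem_zpowers_iff.mpr ⟨k, ?_⟩
        have := congrArg Subtype.val hk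
        simpa using this
      · exact ih _ (hn ▸ card_quotient_lt M hMne) rfl (maximal_prime_index_quotient h M)

/-- **Huppert**: if all maximal subgroups of the finite group `G` have prime index, then `G` is
supersolvable. -/
theorem isSupersolvable_of_maximal_prime_index {G : Type u} [Group G] [Finite G]
    (h : ∀ X : Subgroup G, IsCoatom X → X.index.Prime) : Cfsg.IsSupersolvable G :=
  isSupersolvable_aux _ rfl h

end Cfsg.Agent.SolvableStructure.HuppertPrimeIndex
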