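import Mathlib
import Cfsg.Agent.Lib.SolvableNormalP

/-!
# Core-free maximal subgroups (primitive groups) with an abelian normal subgroup
-/

set_option autoImplicit false
open Pointwise

namespace Cfsg.Agent.SolvableStructure.CorefreeMaximal

open Subgroup

/-- A core-free subgroup contains no nontrivial normal subgroup. -/
theorem eq_bot_of_normal_le {G : Type*} [Group G] {U : Subgroup G} (hUc : U.normalCore = ⊥)
    {N : Subgroup G} (hN : N.Normal) (hNU : N ≤ U) : N = ⊥ := by
  have h : N ≤ U.normalCore := (normal_le_normalCore).mpr hNU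
  rw [hUc] at h
  exact le_bot_iff.mp h

/-- A nontrivial normal subgroup supplements a core-free maximal subgroup. -/
theorem sup_eq_top {G : Type*} [Group G] {U : Subgroup G} (hU : IsCoatom U)
    (hUc : U.normalCore = ⊥) {A : Subgroup G} (hAn : A.Normal) (hA1 : A ≠ ⊥) : A ⊔ U = ⊤ := by
  apply hU.2
  refine lt_of_le_of_ne le_sup_right ?_
  intro h
  have h1 : A ≤ U := le_trans le_sup_left h.ge
  exact hA1 (eq_bot_of_normal_le hUc hAn h1)

/-- An abelian nontrivial normal subgroup meets a core-free maximal subgroup trivially. -/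
theorem inf_eq_bot {G : Type*} [Group G] {U : Subgroup G} (hU : IsCoatom U)
    (hUc : U.normalCore = ⊥) {A : Subgroup G} (hAn : A.Normal) (hA : IsMulCommutative A)
    (hA1 : A ≠ ⊥) : A ⊓ U = ⊥ := by
  have hsup := sup_eq_top hU hUc hAn hA1
  have hn : (A ⊓ U).Normal := by
    rw [← normalizer_eq_top_iff, eq_top_iff, ← hsup]
    refine sup_le ?_ ?_
    · intro a ha
      rw [mem_normalizer_iff]
      intro x
      constructor
      · rintro hx
        have h1 : a * x = x * a :=
          congrArg Subtype.val (hA.is_comm.comm (⟨a, ha⟩ : A) ⟨x, hx.1⟩)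
        rw [h1, mul_inv_cancel_right]
        exact hx
      · rintro hx
        have hxA : x ∈ A := by
          have h2 := hAn.conj_mem _ hx.1 a⁻¹
          have h3 : a⁻¹ * (a * x * a⁻¹) * a⁻¹⁻¹ = x := by group
          rwa [h3] at h2
        have h1 : a * x = x * a :=
          congrArg Subtype.val (hA.is_comm.comm (⟨a, ha⟩ : A) ⟨x, hxA⟩)
        rw [h1, mul_inv_cancel_right] at hx
        exact hx
    · intro u hu
      rw [mem_normalizer_iff]
      intro x
      have h1 : u * x * u⁻¹ ∈ U ↔ x ∈ U := by
        constructor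
        · intro h
          have h2 := U.mul_mem (U.mul_mem (U.inv_mem hu) h) hu
          have h3 : u⁻¹ * (u * x * u⁻¹) * u = x := by group
          rwa [h3] at h2
        · intro h
          exact U.mul_mem (U.mul_mem hu h) (U.inv_mem hu)
      rw [mem_inf, mem_inf, h1, ← hAn.mem_comm_iff, inv_mul_cancel_left]
  exact eq_bot_of_normal_le hUc hn inf_le_right

/-- An abelian nontrivial normal subgroup is self-centralizing if there is a core-free maximal
subgroup. -/
theorem centralizer_eq {G : Type*} [Group G] {U : Subgroup G} (hU : IsCoatom U)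
    (hUc : U.normalCore = ⊥) {A : Subgroup G} (hAn : A.Normal) (hA : IsMulCommutative A)
    (hA1 : A ≠ ⊥) : centralizer (A : Set G) = A := by
  have hsup := sup_eq_top hU hUc hAn hA1
  have hAC : A ≤ centralizer (A : Set G) := by
    intro a ha
    rw [mem_centralizer_iff]
    intro b hb
    exact congrArg Subtype.val (hA.is_comm.comm (⟨b, hb⟩ : A) ⟨a, ha⟩)
  have hCn : (centralizer (A : Set G)).Normal := by infer_instance
  have hn : (centralizer (A : Set G) ⊓ U).Normal := by
    rw [← normalizer_eq_top_iff, eq_top_iff, ← hsup]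
    refine sup_le ?_ ?_
    · intro a ha
      apply centralizer_le_normalizer
      rw [mem_centralizer_iff]
      intro x hx
      exact ((mem_centralizer_iff.mp hx.1) a ha).symm
    · intro u hu
      rw [mem_normalizer_iff]
      intro x
      have h1 : u * x * u⁻¹ ∈ U ↔ x ∈ U := by
        constructor
        · intro h
          have h2 := U.mul_mem (U.mul_mem (U.inv_mem hu) h) hu
          have h3 : u⁻¹ * (u * x * u⁻¹) * u = x := by group
          rwa [h3] at h2
        · intro h
          exact U.mul_mem (U.mul_mem hu h) (U.inv_mem hu)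
      rw [mem_inf, mem_inf, h1, ← hCn.mem_comm_iff, inv_mul_cancel_left]
  have hbot : centralizer (A : Set G) ⊓ U = ⊥ := eq_bot_of_normal_le hUc hn inf_le_right
  refine le_antisymm ?_ hAC
  intro c hc
  have hc1 : c ∈ A ⊔ U := hsup ▸ mem_top c
  obtain ⟨a, ha, u, hu, rfl⟩ := mem_sup_of_normal_left.mp hc1
  have hu1 : u ∈ centralizer (A : Set G) := by
    have h := mul_mem (inv_mem (hAC ha)) hc
    rwa [inv_mul_cancel_left] at h
  have hu2 : u ∈ centralizer (A : Set G) ⊓ U := ⟨hu1, hu⟩
  rw [hbot, mem_bot] at hu2
  rw [hu2, mul_one]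
  exact ha

/-- An abelian nontrivial normal subgroup is complemented by any core-free maximal subgroup. -/
theorem isComplement' {G : Type*} [Group G] {U : Subgroup G} (hU : IsCoatom U)
    (hUc : U.normalCore = ⊥) {A : Subgroup G} (hAn : A.Normal) (hA : IsMulCommutative A)
    (hA1 : A ≠ ⊥) : IsComplement' A U := by
  refine isComplement'_of_disjoint_and_mul_eq_univ
    (disjoint_iff.mpr (inf_eq_bot hU hUc hAn hA hA1)) ?_
  rw [Set.eq_univ_iff_forall]
  intro c
  have hc1 : c ∈ A ⊔ U := (sup_eq_top hU hUc hAn hA1) ▸ mem_top c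
  obtain ⟨a, ha, u, hu, rfl⟩ := mem_sup_of_normal_left.mp hc1
  exact ⟨a, ha, u, hu, rfl⟩

end Cfsg.Agent.SolvableStructure.CorefreeMaximal
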