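import Mathlib

/-! # Counting elements in a product of two coprime TI-subgroups

`count_false`: there is no finite group `G = H K` with `H`, `K` of coprime orders, both TI
(i.e. `H ∩ H^g ≠ 1` only for `g ∈ N_G(H)`), not normalising each other. -/

set_option autoImplicit false

namespace Cfsg.Agent.SolvableStructure.WielandtCount

/-- Union of the conjugates of a set. -/
def conjUnion {G : Type*} [Group G] (T : Set G) : Set G :=
  {y | ∃ g : G, ∃ t ∈ T, y = g * t * g⁻¹}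

/-- A (strongly) TI-subset `T` with "normaliser" `M`: `|G| |T| ≤ |⋃ T^g| |M|`. -/
theorem card_mul_card_le {G : Type*} [Group G] [Finite G] (M : Subgroup G) (T : Set G)
    (hTI : ∀ g : G, ∀ t ∈ T, g * t * g⁻¹ ∈ T → g ∈ M) :
    Nat.card G * Nat.card T ≤ Nat.card (conjUnion T) * Nat.card M := by
  classical
  have hrep : ∀ y : conjUnion T, ∃ g : G, ∃ t ∈ T, (y : G) = g * t * g⁻¹ := fun y => y.2
  choose r s hs hrs using hrep
  rw [← Nat.card_prod, ← Nat.card_prod]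
  have hmem : ∀ x : G × T, x.1 * (x.2 : G) * x.1⁻¹ ∈ conjUnion T := fun x =>
    ⟨x.1, x.2, x.2.2, rfl⟩
  have hM : ∀ x : G × T, x.1⁻¹ * r ⟨_, hmem x⟩ ∈ M := by
    intro x
    apply hTI _ _ (hs ⟨_, hmem x⟩)
    have h1 : x.1 * (x.2 : G) * x.1⁻¹ = r ⟨_, hmem x⟩ * s ⟨_, hmem x⟩ * (r ⟨_, hmem x⟩)⁻¹ :=
      hrs ⟨_, hmem x⟩
    have h2 : x.1⁻¹ * r ⟨_, hmem x⟩ * s ⟨_, hmem x⟩ * (x.1⁻¹ * r ⟨_, hmem x⟩)⁻¹ = x.2 := by
      calc x.1⁻¹ * r ⟨_, hmem x⟩ * s ⟨_, hmem x⟩ * (x.1⁻¹ * r ⟨_, hmem x⟩)⁻¹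
          = x.1⁻¹ * (r ⟨_, hmem x⟩ * s ⟨_, hmem x⟩ * (r ⟨_, hmem x⟩)⁻¹) * x.1 := by group
        _ = x.1⁻¹ * (x.1 * (x.2 : G) * x.1⁻¹) * x.1 := by rw [← h1]
        _ = x.2 := by group
    rw [h2]; exact x.2.2
  let f : G × T → conjUnion T × M := fun x => (⟨_, hmem x⟩, ⟨_, hM x⟩)
  have hf : Function.Injective f := by
    intro x y hxy
    have h1 : (⟨_, hmem x⟩ : conjUnion T) = ⟨_, hmem y⟩ := congrArg Prod.fst hxy
    have h2 : x.1⁻¹ * r ⟨_, hmem x⟩ = y.1⁻¹ * r ⟨_, hmem y⟩ :=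
      congrArg Subtype.val (congrArg Prod.snd hxy)
    rw [h1] at h2
    have h3 : x.1 = y.1 := inv_injective (mul_right_cancel h2)
    have h4 : x.1 * (x.2 : G) * x.1⁻¹ = y.1 * (y.2 : G) * y.1⁻¹ := congrArg Subtype.val h1
    rw [h3] at h4
    have h5 : (x.2 : G) = y.2 := mul_left_cancel (mul_right_cancel h4)
    exact Prod.ext h3 (Subtype.ext h5)
  exact Nat.card_le_card_of_injective f hf

/-- Order of a factorised subgroup with trivially intersecting factors. -/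
theorem card_eq_mul {G : Type*} [Group G] [Finite G] (L A B : Subgroup G)
    (hA : A ≤ L) (hB : B ≤ L) (hdis : Disjoint A B)
    (hL : ∀ g ∈ L, ∃ a ∈ A, ∃ b ∈ B, g = a * b) : Nat.card L = Nat.card A * Nat.card B := by
  rw [← Nat.card_prod]
  symm
  apply Nat.card_congr
  refine Equiv.ofBijective (fun x : A × B => (⟨x.1 * x.2, L.mul_mem (hA x.1.2) (hB x.2.2)⟩ : L)) ?_
  constructor
  · intro x y hxy
    have h1 : (x.1 : G) * x.2 = y.1 * y.2 := congrArg Subtype.val hxy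
    exact Subgroup.mul_injective_of_disjoint hdis h1
  · rintro ⟨g, hg⟩
    obtain ⟨a, ha, b, hb, rfl⟩ := hL g hg
    exact ⟨⟨⟨a, ha⟩, ⟨b, hb⟩⟩, rfl⟩

theorem arith_false (a b h k g s1 s2 s3 : ℕ) (hg : g = a * b) (ha : h < a) (hb : k < b)
    (hh : 0 < h) (hk : 0 < k)
    (h1 : g * (a - 1) ≤ s1 * (a * k)) (h2 : g * (b - 1) ≤ s2 * (b * h))
    (h3 : g * ((h - 1) * (k - 1)) ≤ s3 * (h * k)) (h4 : 1 + s1 + s2 + s3 ≤ g) : False := by
  subst hg
  obtain ⟨a, rfl⟩ : ∃ a', a = a' + 1 := ⟨a - 1, by omega⟩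
  obtain ⟨b, rfl⟩ : ∃ b', b = b' + 1 := ⟨b - 1, by omega⟩
  obtain ⟨h, rfl⟩ : ∃ h', h = h' + 1 := ⟨h - 1, by omega⟩
  obtain ⟨k, rfl⟩ : ∃ k', k = k' + 1 := ⟨k - 1, by omega⟩
  simp only [Nat.add_sub_cancel] at h1 h2 h3
  have h1' : (b + 1) * a ≤ s1 * (k + 1) := by
    have : (a + 1) * ((b + 1) * a) ≤ (a + 1) * (s1 * (k + 1)) := by nlinarith
    exact Nat.le_of_mul_le_mul_left this (by omega)
  have h2' : (a + 1) * b ≤ s2 * (h + 1) := by
    have : (b + 1) * ((a + 1) * b) ≤ (b + 1) * (s2 * (h + 1)) := by nlinarith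
    exact Nat.le_of_mul_le_mul_left this (by omega)
  have e1 : (h + 1) * ((b + 1) * a) ≤ (h + 1) * (s1 * (k + 1)) := Nat.mul_le_mul_left _ h1'
  have e2 : (k + 1) * ((a + 1) * b) ≤ (k + 1) * (s2 * (h + 1)) := Nat.mul_le_mul_left _ h2'
  have e4 : (h + 1) * (k + 1) * (1 + s1 + s2 + s3) ≤ (h + 1) * (k + 1) * ((a + 1) * (b + 1)) :=
    Nat.mul_le_mul_left _ h4
  have e5 : 0 < (a - h : ℤ) * (b - k : ℤ) := by
    apply mul_pos <;> omega
  zify at e1 e2 e4 h3
  nlinarith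

theorem orderOf_conj' {G : Type*} [Group G] (g x : G) : orderOf (g * x * g⁻¹) = orderOf x := by
  have := (MulAut.conj g).orderOf_eq x
  simpa [MulAut.conj_apply] using this

theorem count_false {G : Type*} [Group G] [Finite G] (H K : Subgroup G)
    (hcop : (Nat.card H).Coprime (Nat.card K))
    (hHK : ∀ g : G, ∃ h ∈ H, ∃ k ∈ K, g = h * k)
    (hH : ∀ g : G, ∀ x ∈ H, x ≠ 1 → g * x * g⁻¹ ∈ H → g ∈ Subgroup.normalizer (H : Set G))
    (hK : ∀ g : G, ∀ x ∈ K, x ≠ 1 → g * x * g⁻¹ ∈ K → g ∈ Subgroup.normalizer (K : Set G))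
    (hHn : ¬ H ≤ Subgroup.normalizer (K : Set G)) (hKn : ¬ K ≤ Subgroup.normalizer (H : Set G)) :
    False := by
  classical
  have hdis : Disjoint H K := Subgroup.disjoint_of_coprime_natCard hcop
  set M := Subgroup.normalizer (H : Set G) with hM
  set M' := Subgroup.normalizer (K : Set G) with hM'
  set H₀ := H ⊓ M' with hH₀
  set K₀ := K ⊓ M with hK₀
  have hHM : H ≤ M := Subgroup.le_normalizer
  have hKM' : K ≤ M' := Subgroup.le_normalizer
  have hdis1 : Disjoint H K₀ := hdis.mono_right inf_le_left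
  have hdis2 : Disjoint K H₀ := hdis.symm.mono_right inf_le_left
  have hdis3 : Disjoint H₀ K₀ := hdis1.mono_left inf_le_left
  have cG : Nat.card G = Nat.card H * Nat.card K := by
    have := card_eq_mul ⊤ H K le_top le_top hdis (fun g _ => hHK g)
    rwa [Subgroup.card_top] at this
  have cM : Nat.card M = Nat.card H * Nat.card K₀ := by
    apply card_eq_mul M H K₀ hHM inf_le_right hdis1
    intro g hg
    obtain ⟨h, hh, k, hk, rfl⟩ := hHK g
    exact ⟨h, hh, k, ⟨hk, (Subgroup.mul_mem_cancel_left M (hHM hh)).mp hg⟩, rfl⟩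
  have cM' : Nat.card M' = Nat.card K * Nat.card H₀ := by
    rw [mul_comm]
    apply card_eq_mul M' H₀ K inf_le_right hKM' hdis2.symm
    intro g hg
    obtain ⟨h, hh, k, hk, rfl⟩ := hHK g
    exact ⟨h, ⟨hh, (Subgroup.mul_mem_cancel_right M' (hKM' hk)).mp hg⟩, k, hk, rfl⟩
  have cW : Nat.card (M ⊓ M' : Subgroup G) = Nat.card H₀ * Nat.card K₀ := by
    apply card_eq_mul (M ⊓ M') H₀ K₀
    · exact le_inf (inf_le_left.trans hHM) inf_le_right
    · exact le_inf inf_le_right (inf_le_left.trans hKM')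
    · exact hdis3
    · intro g hg
      obtain ⟨h, hh, k, hk, rfl⟩ := hHK g
      exact ⟨h, ⟨hh, (Subgroup.mul_mem_cancel_right M' (hKM' hk)).mp hg.2⟩, k,
        ⟨hk, (Subgroup.mul_mem_cancel_left M (hHM hh)).mp hg.1⟩, rfl⟩
  have hcomm : ∀ h ∈ H₀, ∀ k ∈ K₀, h * k = k * h := by
    intro h hh k hk
    have h1 : h * k * h⁻¹ * k⁻¹ ∈ H := by
      have : h * (k * h⁻¹ * k⁻¹) ∈ H := H.mul_mem hh.1
        ((Subgroup.mem_normalizer_iff.mp hk.2 h⁻¹).mp (H.inv_mem hh.1))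
      simpa [mul_assoc] using this
    have h2 : h * k * h⁻¹ * k⁻¹ ∈ K :=
      K.mul_mem ((Subgroup.mem_normalizer_iff.mp hh.2 k).mp hk.1) (K.inv_mem hk.1)
    have h3 := (Subgroup.disjoint_def.mp hdis) h1 h2
    have h4 : h * k * (k * h)⁻¹ = 1 := by
      rw [mul_inv_rev, ← h3]; group
    exact mul_inv_eq_one.mp h4
  -- the sets
  set T1 : Set G := {x | x ∈ H ∧ x ≠ 1} with hT1
  set T2 : Set G := {x | x ∈ K ∧ x ≠ 1} with hT2
  set T3 : Set G := {x | ∃ h ∈ H₀, ∃ k ∈ K₀, h ≠ 1 ∧ k ≠ 1 ∧ x = h * k} with hT3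
  -- orders
  have oH : ∀ x ∈ H, (orderOf x).Coprime (Nat.card K) := fun x hx =>
    Nat.Coprime.coprime_dvd_left (Subgroup.orderOf_dvd_natCard H hx) hcop
  have oK : ∀ x ∈ K, (orderOf x).Coprime (Nat.card H) := fun x hx =>
    Nat.Coprime.coprime_dvd_left (Subgroup.orderOf_dvd_natCard K hx) hcop.symm
  have o3 : ∀ x ∈ T3, ¬ (orderOf x).Coprime (Nat.card K) ∧ ¬ (orderOf x).Coprime (Nat.card H) := by
    rintro x ⟨h, hh, k, hk, hh1, hk1, rfl⟩
    have hc : Commute h k := hcomm h hh k hk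
    have hco : (orderOf h).Coprime (orderOf k) :=
      Nat.Coprime.coprime_dvd_right (Subgroup.orderOf_dvd_natCard K hk.1) (oH h hh.1)
    have ho : orderOf (h * k) = orderOf h * orderOf k := hc.orderOf_mul_eq_mul_orderOf_of_coprime hco
    rw [ho]
    constructor
    · intro hx
      have h1 : (orderOf k).Coprime (Nat.card K) := Nat.Coprime.coprime_dvd_left (Dvd.intro_left _ rfl) hx
      have h2 : orderOf k = 1 := Nat.Coprime.eq_one_of_dvd h1 (Subgroup.orderOf_dvd_natCard K hk.1)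
      exact hk1 (orderOf_eq_one_iff.mp h2)
    · intro hx
      have h1 : (orderOf h).Coprime (Nat.card H) := Nat.Coprime.coprime_dvd_left (Dvd.intro _ rfl) hx
      have h2 : orderOf h = 1 := Nat.Coprime.eq_one_of_dvd h1 (Subgroup.orderOf_dvd_natCard H hh.1)
      exact hh1 (orderOf_eq_one_iff.mp h2)
  have hU1 : ∀ y ∈ conjUnion T1, y ≠ 1 ∧ (orderOf y).Coprime (Nat.card K) := by
    rintro y ⟨g, t, ⟨htH, ht1⟩, rfl⟩
    rw [orderOf_conj']
    refine ⟨?_, oH t htH⟩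
    intro h; exact ht1 (conj_eq_one_iff.mp h)
  have hU2 : ∀ y ∈ conjUnion T2, y ≠ 1 ∧ (orderOf y).Coprime (Nat.card H) := by
    rintro y ⟨g, t, ⟨htK, ht1⟩, rfl⟩
    rw [orderOf_conj']
    refine ⟨?_, oK t htK⟩
    intro h; exact ht1 (conj_eq_one_iff.mp h)
  have hU3 : ∀ y ∈ conjUnion T3, ¬ (orderOf y).Coprime (Nat.card K) ∧
      ¬ (orderOf y).Coprime (Nat.card H) := by
    rintro y ⟨g, t, ht, rfl⟩
    rw [orderOf_conj']
    exact o3 t ht
  -- TI inequalities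
  have e1 : Nat.card G * Nat.card T1 ≤ Nat.card (conjUnion T1) * Nat.card M := by
    apply card_mul_card_le
    intro g t ht hgt
    exact hH g t ht.1 ht.2 hgt.1
  have e2 : Nat.card G * Nat.card T2 ≤ Nat.card (conjUnion T2) * Nat.card M' := by
    apply card_mul_card_le
    intro g t ht hgt
    exact hK g t ht.1 ht.2 hgt.1
  have e3 : Nat.card G * Nat.card T3 ≤ Nat.card (conjUnion T3) * Nat.card (M ⊓ M' : Subgroup G) := by
    apply card_mul_card_le
    rintro g t ⟨h, hh, k, hk, hh1, hk1, rfl⟩ ⟨h', hh', k', hk', hh1', hk1', heq⟩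
    -- `g h g⁻¹` and `h'`, `g k g⁻¹` and `k'`
    have hc : (g * h * g⁻¹) * (g * k * g⁻¹) = h' * k' := by rw [← heq]; group
    -- raise to the power `n` with `n ≡ 1 mod |H|`, `n ≡ 0 mod |K|`
    obtain ⟨n, hn1, hn2⟩ := Nat.chineseRemainder hcop 1 0
    have hpow : ∀ x : G, x ∈ H → ∀ y : G, y ∈ K → x * y = y * x → (x * y) ^ n = x := by
      intro x hx y hy hxy
      have hxn : x ^ n = x := by
        have h1 : x ^ n = x ^ 1 := by
          rw [pow_eq_pow_iff_modEq]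
          exact hn1.of_dvd (Subgroup.orderOf_dvd_natCard H hx)
        rw [h1, pow_one]
      have hyn : y ^ n = 1 := by
        have h1 : y ^ n = y ^ 0 := by
          rw [pow_eq_pow_iff_modEq]
          exact hn2.of_dvd (Subgroup.orderOf_dvd_natCard K hy)
        rw [h1, pow_zero]
      rw [(show Commute x y from hxy).mul_pow, hxn, hyn, mul_one]
    have p1 : (h * k) ^ n = h := hpow h hh.1 k hk.1 (hcomm h hh k hk)
    have p2 : (h' * k') ^ n = h' := hpow h' hh'.1 k' hk'.1 (hcomm h' hh' k' hk')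
    have p3 : g * h * g⁻¹ = h' := by
      rw [← p2, ← heq, conj_pow, p1]
    have p4 : g * k * g⁻¹ = k' := by
      rw [p3] at hc
      exact mul_left_cancel hc
    constructor
    · apply hH g h hh.1 hh1; rw [p3]; exact hh'.1
    · apply hK g k hk.1 hk1; rw [p4]; exact hk'.1
  have cT : ∀ L : Subgroup G, Nat.card {x : G | x ∈ L ∧ x ≠ 1} = Nat.card L - 1 := by
    intro L
    have h1 : {x : G | x ∈ L ∧ x ≠ 1} = (L : Set G) \ {1} := by
      ext x; simp
    rw [h1, Nat.card_coe_set_eq, Set.ncard_sdiff_singleton_of_mem L.one_mem]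
    rfl
  have cT1 : Nat.card T1 = Nat.card H - 1 := cT H
  have cT2 : Nat.card T2 = Nat.card K - 1 := cT K
  have cT3 : (Nat.card H₀ - 1) * (Nat.card K₀ - 1) ≤ Nat.card T3 := by
    rw [← cT H₀, ← cT K₀, ← Nat.card_prod]
    let f : ({x : G | x ∈ H₀ ∧ x ≠ 1} × {x : G | x ∈ K₀ ∧ x ≠ 1} : Type _) → T3 := fun x =>
      ⟨x.1 * x.2, ⟨x.1, x.1.2.1, x.2, x.2.2.1, x.1.2.2, x.2.2.2, rfl⟩⟩
    apply Nat.card_le_card_of_injective f
    intro x y hxy
    have h1 : (x.1 : G) * x.2 = y.1 * y.2 := congrArg Subtype.val hxy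
    have h2 := Subgroup.mul_injective_of_disjoint hdis3
      (a₁ := (⟨⟨x.1, x.1.2.1⟩, ⟨x.2, x.2.2.1⟩⟩ : H₀ × K₀))
      (a₂ := (⟨⟨y.1, y.1.2.1⟩, ⟨y.2, y.2.2.1⟩⟩ : H₀ × K₀)) h1
    have h3 : (x.1 : G) = y.1 := congrArg (fun z : H₀ × K₀ => (z.1 : G)) h2
    have h4 : (x.2 : G) = y.2 := congrArg (fun z : H₀ × K₀ => (z.2 : G)) h2
    exact Prod.ext (Subtype.ext h3) (Subtype.ext h4)
  -- total count
  have htot : 1 + Nat.card (conjUnion T1) + Nat.card (conjUnion T2) + Nat.card (conjUnion T3) ≤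
      Nat.card G := by
    have d12 : Disjoint (conjUnion T1) (conjUnion T2) := by
      rw [Set.disjoint_left]
      intro y hy1 hy2
      have h1 := hU1 y hy1
      have h2 := hU2 y hy2
      apply h1.1
      rw [← orderOf_eq_one_iff]
      have h3 : (orderOf y).Coprime (Nat.card H * Nat.card K) := Nat.Coprime.mul_right h2.2 h1.2
      rw [← cG] at h3
      exact Nat.Coprime.eq_one_of_dvd h3 (orderOf_dvd_natCard y)
    have d123 : Disjoint (conjUnion T1 ∪ conjUnion T2) (conjUnion T3) := by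
      rw [Set.disjoint_left]
      rintro y (hy | hy) hy3
      · exact (hU3 y hy3).1 (hU1 y hy).2
      · exact (hU3 y hy3).2 (hU2 y hy).2
    have d1 : Disjoint ({1} : Set G) (conjUnion T1 ∪ conjUnion T2 ∪ conjUnion T3) := by
      rw [Set.disjoint_singleton_left]
      rintro ((hy | hy) | hy)
      · exact (hU1 1 hy).1 rfl
      · exact (hU2 1 hy).1 rfl
      · exact (hU3 1 hy).1 (by rw [orderOf_one]; exact Nat.coprime_one_left _)
    have h1 : Nat.card (({1} ∪ (conjUnion T1 ∪ conjUnion T2 ∪ conjUnion T3) : Set G)) =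
        1 + (Nat.card (conjUnion T1) + Nat.card (conjUnion T2) + Nat.card (conjUnion T3)) := by
      simp only [Nat.card_coe_set_eq]
      rw [Set.ncard_union_eq d1, Set.ncard_union_eq d123, Set.ncard_union_eq d12,
        Set.ncard_singleton]
    have h2 : Nat.card (({1} ∪ (conjUnion T1 ∪ conjUnion T2 ∪ conjUnion T3) : Set G)) ≤
        Nat.card G := Nat.card_le_card_of_injective _ Subtype.val_injective
    rw [h1] at h2
    omega
  have hlt1 : Nat.card H₀ < Nat.card H := by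
    have h1 : Nat.card H₀ ≤ Nat.card H := Subgroup.card_le_of_le inf_le_left
    refine lt_of_le_of_ne h1 ?_
    intro h2
    have h3 : H₀ = H := Subgroup.eq_of_le_of_card_ge inf_le_left (le_of_eq h2.symm)
    exact hHn (by rw [← h3]; exact inf_le_right)
  have hlt2 : Nat.card K₀ < Nat.card K := by
    have h1 : Nat.card K₀ ≤ Nat.card K := Subgroup.card_le_of_le inf_le_left
    refine lt_of_le_of_ne h1 ?_
    intro h2
    have h3 : K₀ = K := Subgroup.eq_of_le_of_card_ge inf_le_left (le_of_eq h2.symm)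
    exact hKn (by rw [← h3]; exact inf_le_right)
  rw [cT1, cM] at e1
  rw [cT2, cM'] at e2
  rw [cW] at e3
  have e3' : Nat.card G * ((Nat.card H₀ - 1) * (Nat.card K₀ - 1)) ≤
      Nat.card (conjUnion T3) * (Nat.card H₀ * Nat.card K₀) :=
    le_trans (Nat.mul_le_mul_left _ cT3) e3
  exact arith_false (Nat.card H) (Nat.card K) (Nat.card H₀) (Nat.card K₀) (Nat.card G)
    _ _ _ cG hlt1 hlt2 Nat.card_pos Nat.card_pos e1 e2 e3' htot

end Cfsg.Agent.SolvableStructure.WielandtCount
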